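import Groth.Agent.Etbase.FFExact
import Groth.Agent.CohqA.BaseChangeMod

/-!
# Commutative algebra: base changes of quotients, injectivity, descent of submodules

In the unbundled language `IsBC φ f` (`Groth.Agent.CohqA.BaseChangeMod`).
-/

set_option autoImplicit false
set_option linter.style.haveILetI false
set_option linter.unusedVariables false
universe u

open TensorProduct

namespace K907.Alg

open Groth.Agent.CohqA.BaseChangeMod

section

variable {A B C : Type u} [CommRing A] [CommRing B] [CommRing C]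
variable {M M₁ M₂ : Type u} [AddCommGroup M] [Module A M] [AddCommGroup M₁] [Module B M₁]
  [AddCommGroup M₂] [Module C M₂]

theorem span_range {φ : A →+* B} {f : M →+ M₁} (h : IsBC φ f) : Submodule.span B (Set.range f) = ⊤ := by
  set P := Submodule.span B (Set.range f) with hP
  have : P.mkQ = 0 := h.hom_ext fun x => by
    rw [Submodule.mkQ_apply, LinearMap.zero_apply, Submodule.Quotient.mk_eq_zero]
    exact Submodule.subset_span ⟨x, rfl⟩
  rw [← P.ker_mkQ, this, LinearMap.ker_zero]

theorem ffIsBC {φ : A →+* B} {f : M →+ M₁} (h : IsBC φ f) : Groth.Agent.Etbase.FFExact.IsBC φ f := by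
  letI : Algebra A B := φ.toAlgebra
  letI : Module A M₁ := Module.compHom M₁ φ
  haveI : IsScalarTower A B M₁ := ⟨fun a b m => by
    change (φ a * b) • m = φ a • b • m
    rw [mul_smul]⟩
  refine ⟨h.map_smul, ?_⟩
  exact (isBC_iff_isBaseChange ({ toFun := f, map_add' := f.map_add, map_smul' := h.map_smul } : M →ₗ[A] M₁)).1 h

theorem isBC_of_ff {φ : A →+* B} {f : M →+ M₁} (h : Groth.Agent.Etbase.FFExact.IsBC φ f) : IsBC φ f := by
  letI : Algebra A B := φ.toAlgebra
  letI : Module A M₁ := Module.compHom M₁ φ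
  haveI : IsScalarTower A B M₁ := ⟨fun a b m => by
    change (φ a * b) • m = φ a • b • m
    rw [mul_smul]⟩
  obtain ⟨h1, h2⟩ := h
  exact (isBC_iff_isBaseChange ({ toFun := f, map_add' := f.map_add, map_smul' := h1 } : M →ₗ[A] M₁)).2 h2

/-- The span over `B` of the image of a submodule. -/
def ext (f : M →+ M₁) (N : Submodule A M) : Submodule B M₁ := Submodule.span B (f '' (N : Set M))

theorem mem_ext (f : M →+ M₁) {N : Submodule A M} {x : M} (hx : x ∈ N) :
    f x ∈ (ext f N : Submodule B M₁) := Submodule.subset_span ⟨x, hx, rfl⟩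

theorem ext_le (f : M →+ M₁) {N : Submodule A M} {L : Submodule B M₁} :
    ext f N ≤ L ↔ ∀ x ∈ N, f x ∈ L := by
  unfold ext
  rw [Submodule.span_le]
  constructor
  · intro h x hx
    exact h ⟨x, hx, rfl⟩
  · rintro h _ ⟨x, hx, rfl⟩
    exact h x hx

theorem ext_mono (f : M →+ M₁) {N N' : Submodule A M} (h : N ≤ N') : (ext f N : Submodule B M₁) ≤ ext f N' :=
  (ext_le f).2 fun x hx => mem_ext f (h hx)

/-- The restriction of a submodule: elements of `M` mapping into `N`. -/
def res {φ : A →+* B} (f : M →+ M₁) (hf : ∀ (a : A) (m : M), f (a • m) = φ a • f m) (N : Submodule B M₁) :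
    Submodule A M where
  carrier := {x | f x ∈ N}
  add_mem' := fun {a b} ha hb => by
    change f (a + b) ∈ N
    rw [map_add]; exact N.add_mem ha hb
  zero_mem' := by
    change f 0 ∈ N
    rw [map_zero]; exact N.zero_mem
  smul_mem' := fun c x hx => by
    change f (c • x) ∈ N
    rw [hf]; exact N.smul_mem _ hx

theorem mem_res {φ : A →+* B} {f : M →+ M₁} {hf : ∀ (a : A) (m : M), f (a • m) = φ a • f m}
    {N : Submodule B M₁} {x : M} : x ∈ res f hf N ↔ f x ∈ N := Iff.rfl

theorem ext_comp {ψ : B →+* C} (f : M →+ M₁) (g : M₁ →+ M₂)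
    (hg : ∀ (b : B) (m : M₁), g (b • m) = ψ b • g m) (N : Submodule A M) :
    (ext g (ext f N : Submodule B M₁) : Submodule C M₂) = ext (g.comp f) N := by
  apply le_antisymm
  · rw [ext_le]
    intro x hx
    have : (ext f N : Submodule B M₁) ≤ res g hg (ext (g.comp f) N : Submodule C M₂) := by
      rw [ext_le]
      intro y hy
      exact mem_ext (g.comp f) hy
    exact this hx
  · rw [ext_le]
    intro x hx
    exact mem_ext g (mem_ext f hx)

/-- The map induced on quotients by a semilinear map. -/
def quotMap (f : M →+ M₁) (N : Submodule A M) (L : Submodule B M₁)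
    (h : ∀ x ∈ N, f x ∈ L) : M ⧸ N →+ M₁ ⧸ L :=
  QuotientAddGroup.map N.toAddSubgroup L.toAddSubgroup f h

@[simp] theorem quotMap_mk (f : M →+ M₁) (N : Submodule A M) (L : Submodule B M₁)
    (h : ∀ x ∈ N, f x ∈ L) (x : M) :
    quotMap f N L h (Submodule.Quotient.mk x) = Submodule.Quotient.mk (f x) := rfl

/-- The base change of a quotient. -/
theorem isBC_quotMap {φ : A →+* B} {f : M →+ M₁} (hf : IsBC φ f) (N : Submodule A M) :
    IsBC φ (quotMap f N (ext f N : Submodule B M₁) fun _ hx => mem_ext f hx) := by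
  refine ⟨?_, ?_⟩
  · intro r x
    induction x using Submodule.Quotient.induction_on with
    | H x =>
      rw [← Submodule.Quotient.mk_smul, quotMap_mk, quotMap_mk, hf.map_smul, Submodule.Quotient.mk_smul]
  · intro Q _ _ g hg
    let g₀ : M →+ Q := g.comp (N.mkQ : M →ₗ[A] M ⧸ N).toAddMonoidHom
    obtain ⟨g', hg', hu⟩ := hf.lift Q g₀ (fun r x => by
      change g (N.mkQ (r • x)) = _
      rw [map_smul, hg]; rfl)
    have hker : ext f N ≤ LinearMap.ker g' := by
      rw [ext_le]
      intro x hx
      rw [LinearMap.mem_ker, hg']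
      change g (N.mkQ x) = 0
      rw [show N.mkQ x = 0 from (Submodule.Quotient.mk_eq_zero N).2 hx, map_zero]
    refine ⟨(ext f N).liftQ g' hker, ?_, ?_⟩
    · intro x
      induction x using Submodule.Quotient.induction_on with
      | H x => exact hg' x
    · intro g'' hg''
      apply Submodule.linearMap_qext
      refine hu _ fun x => ?_
      exact hg'' (Submodule.Quotient.mk x)

/-- Flat base change preserves injectivity. -/
theorem injective_of_flat {φ : A →+* B} (hφ : φ.Flat) {P W P₁ W₁ : Type u} [AddCommGroup P] [Module A P]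
    [AddCommGroup W] [Module A W] [AddCommGroup P₁] [Module B P₁] [AddCommGroup W₁] [Module B W₁]
    {f : P →+ P₁} {g : W →+ W₁} (hf : IsBC φ f) (hg : IsBC φ g) (d : P →ₗ[A] W) (d' : P₁ →ₗ[B] W₁)
    (comm : ∀ x, d' (f x) = g (d x)) (hd : Function.Injective d) : Function.Injective d' := by
  letI : Algebra A B := φ.toAlgebra
  letI : Module A P₁ := Module.compHom P₁ φ
  haveI : IsScalarTower A B P₁ := ⟨fun a b m => by
    change (φ a * b) • m = φ a • b • m
    rw [mul_smul]⟩
  letI : Module A W₁ := Module.compHom W₁ φ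
  haveI : IsScalarTower A B W₁ := ⟨fun a b m => by
    change (φ a * b) • m = φ a • b • m
    rw [mul_smul]⟩
  haveI : Module.Flat A B := hφ
  have h1 : IsBaseChange B ({ toFun := f, map_add' := f.map_add, map_smul' := hf.map_smul } : P →ₗ[A] P₁) :=
    (isBC_iff_isBaseChange ({ toFun := f, map_add' := f.map_add, map_smul' := hf.map_smul } : P →ₗ[A] P₁)).1 hf
  have h2 : IsBaseChange B ({ toFun := g, map_add' := g.map_add, map_smul' := hg.map_smul } : W →ₗ[A] W₁) :=
    (isBC_iff_isBaseChange ({ toFun := g, map_add' := g.map_add, map_smul' := hg.map_smul } : W →ₗ[A] W₁)).1 hg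
  have key : (d' ∘ₗ h1.equiv.toLinearMap) = h2.equiv.toLinearMap ∘ₗ (d.baseChange B) := by
    apply TensorProduct.AlgebraTensorModule.ext
    intro b x
    rw [LinearMap.comp_apply, LinearMap.comp_apply, LinearMap.baseChange_tmul]
    change d' (h1.equiv (b ⊗ₜ x)) = h2.equiv (b ⊗ₜ d x)
    rw [h1.equiv_tmul, h2.equiv_tmul, map_smul]
    congr 1
    exact comm x
  have hinj : Function.Injective (d.baseChange B) := by
    have := Module.Flat.lTensor_preserves_injective_linearMap (M := B) d hd
    exact this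
  have h3 : Function.Injective (d' ∘ₗ h1.equiv.toLinearMap) := by
    rw [key]
    exact h2.equiv.injective.comp hinj
  intro x y hxy
  have h4 := @h3 (h1.equiv.symm x) (h1.equiv.symm y) (by
    change d' (h1.equiv (h1.equiv.symm x)) = d' (h1.equiv (h1.equiv.symm y))
    rw [LinearEquiv.apply_symm_apply, LinearEquiv.apply_symm_apply, hxy])
  exact h1.equiv.symm.injective h4

/-- Base change reflects membership in a submodule along a faithfully flat map. -/
theorem mem_of_mem_ext {φ : A →+* B} (hφ : φ.FaithfullyFlat) {f : M →+ M₁} (hf : IsBC φ f)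
    {N : Submodule A M} {x : M} (hx : f x ∈ (ext f N : Submodule B M₁)) : x ∈ N := by
  letI : Algebra A B := φ.toAlgebra
  haveI : Module.FaithfullyFlat A B := hφ
  have h1 := isBC_quotMap hf N
  letI : Module A (M₁ ⧸ (ext f N : Submodule B M₁)) := Module.compHom _ φ
  haveI : IsScalarTower A B (M₁ ⧸ (ext f N : Submodule B M₁)) := ⟨fun a b m => by
    change (φ a * b) • m = φ a • b • m
    rw [mul_smul]⟩
  let qm : (M ⧸ N) →+ (M₁ ⧸ (ext f N : Submodule B M₁)) :=
    quotMap f N (ext f N : Submodule B M₁) (fun _ hx => mem_ext f hx)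
  let ql : (M ⧸ N) →ₗ[A] (M₁ ⧸ (ext f N : Submodule B M₁)) := { qm with map_smul' := h1.map_smul }
  have h2 := (isBC_iff_isBaseChange ql).1 h1
  have h3 : (1 : B) ⊗ₜ[A] (Submodule.Quotient.mk x : M ⧸ N) = 0 := by
    apply h2.equiv.injective
    rw [h2.equiv_tmul, map_zero, one_smul]
    exact (Submodule.Quotient.mk_eq_zero _).2 hx
  rw [Module.FaithfullyFlat.one_tmul_eq_zero_iff, Submodule.Quotient.mk_eq_zero] at h3
  exact h3

theorem mem_ext_iff {φ : A →+* B} (hφ : φ.FaithfullyFlat) {f : M →+ M₁} (hf : IsBC φ f)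
    {N : Submodule A M} {x : M} : f x ∈ (ext f N : Submodule B M₁) ↔ x ∈ N :=
  ⟨mem_of_mem_ext hφ hf, mem_ext f⟩

theorem le_of_ext_le {φ : A →+* B} (hφ : φ.FaithfullyFlat) {f : M →+ M₁} (hf : IsBC φ f)
    {N L : Submodule A M} (h : (ext f N : Submodule B M₁) ≤ ext f L) : N ≤ L :=
  fun _ hx => mem_of_mem_ext hφ hf (h (mem_ext f hx))

theorem eq_of_ext_eq {φ : A →+* B} (hφ : φ.FaithfullyFlat) {f : M →+ M₁} (hf : IsBC φ f)
    {N L : Submodule A M} (h : (ext f N : Submodule B M₁) = ext f L) : N = L :=
  le_antisymm (le_of_ext_le hφ hf h.le) (le_of_ext_le hφ hf h.ge)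

end

section Descent

variable {A B C : Type u} [CommRing A] [CommRing B] [CommRing C]
variable {M M₁ M₂ : Type u} [AddCommGroup M] [Module A M] [AddCommGroup M₁] [Module B M₁]
  [AddCommGroup M₂] [Module C M₂]

/-- Descent of submodules along a flat ring map `φ : A → B`, with `C = B ⊗[A] B`. -/
theorem ext_res_eq {φ : A →+* B} {p q : B →+* C} (hφ : φ.Flat) (comm : q.comp φ = p.comp φ)
    (hpo : ∀ {W : Type u} [AddCommGroup W] [Module B W] {W₂ : Type u} [AddCommGroup W₂] [Module C W₂]
      (ψ : W →+ W₂) [Module A W] [Module B W₂] (_ : ∀ (a : A) (m : W), a • m = φ a • m)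
      (_ : ∀ (b : B) (m : W₂), b • m = p b • m), IsBC q ψ → IsBC φ ψ)
    {m : M →+ M₁} (hm : IsBC φ m) {p' q' : M₁ →+ M₂} (hp' : ∀ (b : B) (x : M₁), p' (b • x) = p b • p' x)
    (hq' : IsBC q q') (hpq : ∀ x, p' (m x) = q' (m x)) {N : Submodule B M₁}
    (hN : (ext p' N : Submodule C M₂) ≤ ext q' N) : ext m (res m hm.map_smul N) = N := by
  apply le_antisymm
  · rw [ext_le]
    intro x hx
    exact hx
  · intro x hx
    letI : Module A (M₁ ⧸ N) := Module.compHom _ φ
    letI : Module B (M₂ ⧸ (ext q' N : Submodule C M₂)) := Module.compHom _ p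
    have h1 := isBC_quotMap hm (res m hm.map_smul N)
    have h2 : IsBC φ (quotMap q' N (ext q' N : Submodule C M₂) fun _ hx => mem_ext q' hx) :=
      hpo _ (fun a m => rfl) (fun b m => rfl) (isBC_quotMap hq' N)
    have hres : ∀ x ∈ res m hm.map_smul N, m x ∈ N := fun _ hx => hx
    let d : M ⧸ res m hm.map_smul N →ₗ[A] M₁ ⧸ N :=
      { quotMap m (res m hm.map_smul N) N hres with
        map_smul' := fun a x => by
          induction x using Submodule.Quotient.induction_on with
          | H x =>
            change quotMap m (res m hm.map_smul N) N hres (a • Submodule.Quotient.mk x) = _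
            rw [← Submodule.Quotient.mk_smul, quotMap_mk, hm.map_smul, Submodule.Quotient.mk_smul]
            rfl }
    have hd : Function.Injective d := by
      rw [injective_iff_map_eq_zero]
      intro x hx
      induction x using Submodule.Quotient.induction_on with
      | H x =>
        rw [Submodule.Quotient.mk_eq_zero]
        exact (Submodule.Quotient.mk_eq_zero N).1 hx
    let d'₀ : M₁ →ₗ[B] M₂ ⧸ (ext q' N : Submodule C M₂) :=
      { ((ext q' N : Submodule C M₂).mkQ.toAddMonoidHom.comp p') with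
        map_smul' := fun b x => by
          change (ext q' N : Submodule C M₂).mkQ (p' (b • x)) = p b • (ext q' N : Submodule C M₂).mkQ (p' x)
          rw [hp', map_smul] }
    have hd'₀ : ∀ x, d'₀ x = Submodule.Quotient.mk (p' x) := fun x => rfl
    have hker : ext m (res m hm.map_smul N) ≤ LinearMap.ker d'₀ := by
      rw [ext_le]
      intro y hy
      rw [LinearMap.mem_ker, hd'₀, Submodule.Quotient.mk_eq_zero, hpq]
      exact mem_ext q' hy
    let d' : M₁ ⧸ ext m (res m hm.map_smul N) →ₗ[B] M₂ ⧸ (ext q' N : Submodule C M₂) :=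
      (ext m (res m hm.map_smul N)).liftQ d'₀ hker
    have hd' : Function.Injective d' := by
      refine injective_of_flat hφ h1 h2 d d' ?_ hd
      intro y
      induction y using Submodule.Quotient.induction_on with
      | H y =>
        change (Submodule.Quotient.mk (p' (m y)) : M₂ ⧸ (ext q' N : Submodule C M₂)) = Submodule.Quotient.mk (q' (m y))
        rw [hpq]
    have h3 : d' (Submodule.Quotient.mk x) = 0 := by
      change (Submodule.Quotient.mk (p' x) : M₂ ⧸ (ext q' N : Submodule C M₂)) = 0
      rw [Submodule.Quotient.mk_eq_zero]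
      exact hN (mem_ext p' hx)
    have h4 : (Submodule.Quotient.mk x : M₁ ⧸ ext m (res m hm.map_smul N)) = 0 := hd' (by rw [h3, map_zero])
    exact (Submodule.Quotient.mk_eq_zero _).1 h4

end Descent

end K907.Alg
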