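import Groth.Prelude.Def_StMod
import Groth.Agent.CohqA.PullbackAffine
import Groth.Agent.CohqA.BaseChangePushout
import Groth.Agent.StMod.K907.Alg
import Groth.Agent.AlgSt.K735.Fib
import Mathlib.AlgebraicGeometry.Morphisms.Flat
import Mathlib.AlgebraicGeometry.Morphisms.Affine

/-!
# Sections of quasi-coherent modules on affine objects, coverings, descent of submodules
-/

set_option autoImplicit false
set_option backward.isDefEq.respectTransparency false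
set_option backward.isDefEq.respectTransparency.types false
set_option linter.style.haveILetI false
set_option linter.unusedVariables false

universe w v u

open CategoryTheory CategoryTheory.Limits AlgebraicGeometry Opposite StMod

namespace K907.Sec

open Groth.Agent.CohqA.BaseChangeMod Groth.Agent.CohqA.PullbackUniv Groth.Agent.CohqA.PullbackAffine
open K907.Alg

variable {S : Scheme.{u}} {𝒳 : BasedCategory.{v, w} (Over S)}

/-- The ring map on global functions under an arrow of `𝒳`. -/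
noncomputable def ringMap {ξ' ξ : 𝒳.obj} (φ : ξ' ⟶ ξ) : Γ(sch 𝒳 ξ, ⊤) →+* Γ(sch 𝒳 ξ', ⊤) :=
  (bmap 𝒳 φ).appTop.hom

/-- Restriction of global sections as an additive map. -/
noncomputable def resTop (F : Mod 𝒳) {ξ' ξ : 𝒳.obj} (φ : ξ' ⟶ ξ) : Γ(F.obj ξ, ⊤) →+ Γ(F.obj ξ', ⊤) where
  toFun x := F.mapTop φ x
  map_zero' := F.mapTop_zero φ
  map_add' := F.mapTop_add φ

@[simp] theorem resTop_apply (F : Mod 𝒳) {ξ' ξ : 𝒳.obj} (φ : ξ' ⟶ ξ) (x : Γ(F.obj ξ, ⊤)) :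
    resTop F φ x = F.mapTop φ x := rfl

theorem resTop_smul (F : Mod 𝒳) {ξ' ξ : 𝒳.obj} (φ : ξ' ⟶ ξ) (r : Γ(sch 𝒳 ξ, ⊤)) (x : Γ(F.obj ξ, ⊤)) :
    resTop F φ (r • x) = ringMap φ r • resTop F φ x := F.mapTop_smul φ r x

theorem ringMap_comp {ξ'' ξ' ξ : 𝒳.obj} (ψ : ξ'' ⟶ ξ') (φ : ξ' ⟶ ξ) :
    ringMap (ψ ≫ φ) = (ringMap ψ).comp (ringMap φ) := by
  unfold ringMap
  rw [bmap_comp, Scheme.Hom.comp_appTop]
  rfl

theorem ringMap_id (ξ : 𝒳.obj) : ringMap (𝟙 ξ) = RingHom.id _ := by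
  unfold ringMap
  rw [bmap_id, Scheme.Hom.id_appTop]
  rfl

theorem resTop_comp (F : Mod 𝒳) {ξ'' ξ' ξ : 𝒳.obj} (ψ : ξ'' ⟶ ξ') (φ : ξ' ⟶ ξ) :
    resTop F (ψ ≫ φ) = (resTop F ψ).comp (resTop F φ) := by
  ext x
  exact F.mapTop_comp ψ φ x

/-- For a quasi-coherent module, restriction between affine objects is a base change. -/
theorem isBC_resTop (F : QCoh 𝒳) {ξ' ξ : 𝒳.obj} (φ : ξ' ⟶ ξ) [IsAffine (sch 𝒳 ξ)] [IsAffine (sch 𝒳 ξ')] :
    IsBC (ringMap φ) (resTop F.obj φ) := by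
  have h1 : (F.obj.obj ξ).IsQuasicoherent := F.property.2 ξ
  have h2 : (F.obj.obj ξ').IsQuasicoherent := F.property.2 ξ'
  exact (isUniv_iff_isBC (bmap 𝒳 φ) (F.obj.map φ rfl)).1
    ((isUniv_iff_isIso (bmap 𝒳 φ) (F.obj.map φ rfl)).2 (F.property.1 φ rfl))

/-- An arrow of affine objects lying over a faithfully flat map. -/
structure IsFCov {ξ' ξ : 𝒳.obj} (φ : ξ' ⟶ ξ) : Prop where
  flat : Flat (bmap 𝒳 φ)
  surj : Surjective (bmap 𝒳 φ)

theorem ringMap_flat {ξ' ξ : 𝒳.obj} (φ : ξ' ⟶ ξ) [IsAffine (sch 𝒳 ξ)] [IsAffine (sch 𝒳 ξ')]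
    (h : Flat (bmap 𝒳 φ)) : (ringMap φ).Flat := by
  exact (HasRingHomProperty.iff_of_isAffine (P := @Flat)).1 h

theorem ringMap_faithfullyFlat {ξ' ξ : 𝒳.obj} (φ : ξ' ⟶ ξ) [IsAffine (sch 𝒳 ξ)] [IsAffine (sch 𝒳 ξ')]
    (h : IsFCov φ) : (ringMap φ).FaithfullyFlat :=
  (Flat.flat_and_surjective_iff_faithfullyFlat_of_isAffine _).1 ⟨h.flat, h.surj⟩

theorem IsFCov.comp {ξ'' ξ' ξ : 𝒳.obj} {ψ : ξ'' ⟶ ξ'} {φ : ξ' ⟶ ξ} (hψ : IsFCov ψ) (hφ : IsFCov φ) :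
    IsFCov (ψ ≫ φ) := by
  have := hψ.flat
  have := hψ.surj
  have := hφ.flat
  have := hφ.surj
  constructor
  · rw [bmap_comp]; infer_instance
  · rw [bmap_comp]; infer_instance

theorem isFCov_id (ξ : 𝒳.obj) : IsFCov (𝟙 ξ) := by
  constructor
  · rw [bmap_id]; infer_instance
  · rw [bmap_id]; infer_instance

/-- Fibre products of objects over an object. -/
theorem exists_fib (h𝒳 : FibCat.IsFibGrpd 𝒳.p) {y z x : 𝒳.obj} (f : y ⟶ x) (g : z ⟶ x) :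
    ∃ (t : 𝒳.obj) (p : t ⟶ y) (q : t ⟶ z), p ≫ f = q ≫ g ∧
      IsPullback (bmap 𝒳 p) (bmap 𝒳 q) (bmap 𝒳 f) (bmap 𝒳 g) := by
  have sq := IsPullback.of_hasPullback (𝒳.p.map f) (𝒳.p.map g)
  obtain ⟨t, p, e, hp⟩ := K735.Fib.exists_lift h𝒳 (pullback.fst (𝒳.p.map f) (𝒳.p.map g))
  obtain ⟨q, hq1, hq2⟩ := K735.Fib.exists_hom h𝒳 g (p ≫ f) (eqToHom e ≫ pullback.snd (𝒳.p.map f) (𝒳.p.map g)) (by
    rw [Functor.map_comp, hp, Category.assoc, Category.assoc, sq.w])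
  refine ⟨t, p, q, hq2.symm, ?_⟩
  have sq' : IsPullback (𝒳.p.map p) (𝒳.p.map q) (𝒳.p.map f) (𝒳.p.map g) := by
    refine sq.of_iso (eqToIso e.symm) (Iso.refl _) (Iso.refl _) (Iso.refl _) ?_ ?_ (by simp) (by simp)
    · rw [hp]; simp
    · rw [hq1]; simp
  exact sq'.map (Over.forget S)

theorem isAffine_of_isPullback {P X Y Z : Scheme.{u}} {fst : P ⟶ X} {snd : P ⟶ Y} {f : X ⟶ Z} {g : Y ⟶ Z}
    (h : IsPullback fst snd f g) [IsAffine X] [IsAffine Y] [IsAffine Z] : IsAffine P :=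
  IsAffine.of_isIso h.isoPullback.hom

theorem IsFCov.of_isPullback {y z x t : 𝒳.obj} {f : y ⟶ x} {g : z ⟶ x} {p : t ⟶ y} {q : t ⟶ z}
    (h : IsPullback (bmap 𝒳 p) (bmap 𝒳 q) (bmap 𝒳 f) (bmap 𝒳 g)) (hf : IsFCov f) : IsFCov q where
  flat := MorphismProperty.of_isPullback (P := @Flat) h hf.flat
  surj := MorphismProperty.of_isPullback (P := @Surjective) h hf.surj

/-- Descent of submodules of sections along a flat arrow of affine objects. -/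
theorem ext_res_eq_of_descent (F : QCoh 𝒳) {z' z t : 𝒳.obj} (f : z' ⟶ z) (p q : t ⟶ z')
    [IsAffine (sch 𝒳 z)] [IsAffine (sch 𝒳 z')] (hf : Flat (bmap 𝒳 f)) (hpq : p ≫ f = q ≫ f)
    (h : IsPullback (bmap 𝒳 p) (bmap 𝒳 q) (bmap 𝒳 f) (bmap 𝒳 f)) (N : Submodule Γ(sch 𝒳 z', ⊤) Γ(F.obj.obj z', ⊤))
    (hN : (ext (resTop F.obj p) N : Submodule Γ(sch 𝒳 t, ⊤) Γ(F.obj.obj t, ⊤)) ≤ ext (resTop F.obj q) N) :
    (ext (resTop F.obj f) (res (resTop F.obj f) (isBC_resTop F f).map_smul N) :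
      Submodule Γ(sch 𝒳 z', ⊤) Γ(F.obj.obj z', ⊤)) = N := by
  haveI : IsAffine (sch 𝒳 t) := isAffine_of_isPullback h
  have hpo := isPushout_appTop_of_isPullback h
  refine ext_res_eq (φ := ringMap f) (p := ringMap p) (q := ringMap q) (ringMap_flat f hf) ?_ ?_ (isBC_resTop F f)
    (isBC_resTop F p).map_smul (isBC_resTop F q) ?_ hN
  · rw [← ringMap_comp, ← ringMap_comp, hpq]
  · intro W _ _ W₂ _ _ ψ _ _ h1 h2 h3
    exact Groth.Agent.CohqA.BaseChangePushout.isBC_of_isPushout hpo h1 h2 h3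
  · intro x
    change F.obj.mapTop p (F.obj.mapTop f x) = F.obj.mapTop q (F.obj.mapTop f x)
    rw [← F.obj.mapTop_comp, ← F.obj.mapTop_comp, hpq]

end K907.Sec
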