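import Groth.Agent.StMod.K907.QDesc
import Groth.Agent.StMod.K908.QHom

/-!
# Quotients of quasi-coherent modules on a category fibred in groupoids

* `exists_quotient`: a family of submodules over all affine objects, stable under base change, is the kernel of a
  surjection `F ⟶ Q` in `QCoh 𝒳`;
* `exists_factor`: a morphism killing the kernel of a surjection factors;
* `exists_quotient_atlas`: the same for a compatible family on an atlas.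
-/

set_option autoImplicit false
set_option linter.unusedVariables false
set_option linter.style.haveILetI false
set_option backward.isDefEq.respectTransparency false
set_option backward.isDefEq.respectTransparency.types false

universe t w v u

open CategoryTheory CategoryTheory.Limits AlgebraicGeometry Opposite StMod

namespace K907.Quot

open Groth.Agent.CohqA.BaseChangeMod K907.Alg K907.Sec K907.QDesc K908.AMod K908.Fam K908.Ext K908.QSec K908.QHom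

variable {S : Scheme.{u}} {𝒳 : BasedCategory.{v, w} (Over S)}

section

variable (F : Mod 𝒳) (K : ∀ ζ : (ASieve.all 𝒳).cat.obj, Submodule Γ(sch 𝒳 ζ.obj, ⊤) Γ(F.obj ζ.obj, ⊤))
  (hK : ∀ ⦃ζ' ζ : (ASieve.all 𝒳).cat.obj⦄ (φ : ζ' ⟶ ζ) (x : Γ(F.obj ζ.obj, ⊤)), x ∈ K ζ →
    F.mapTop φ.hom x ∈ K ζ')

/-- The family of quotient modules. -/
noncomputable def quotAMod : AMod (ASieve.all 𝒳).cat where
  obj ζ := Γ(F.obj ζ.obj, ⊤) ⧸ K ζ
  mod ζ := inferInstanceAs (Module Γ(sch 𝒳 ζ.obj, ⊤) (Γ(F.obj ζ.obj, ⊤) ⧸ K ζ))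
  map {ζ' ζ} φ := quotMap (resTop F φ.hom) (K ζ) (K ζ') (hK φ)
  map_smul {ζ' ζ} φ r x := by
    induction x using Submodule.Quotient.induction_on with
    | H x =>
      change quotMap (resTop F φ.hom) (K ζ) (K ζ') (hK φ) (Submodule.Quotient.mk (r • x)) =
        (show Γ(sch 𝒳 ζ'.obj, ⊤) from (bmap 𝒳 φ.hom).appTop r) •
          quotMap (resTop F φ.hom) (K ζ) (K ζ') (hK φ) (Submodule.Quotient.mk x)
      rw [quotMap_mk, quotMap_mk, ← Submodule.Quotient.mk_smul]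
      exact congrArg _ (F.mapTop_smul φ.hom r x)
  map_id ζ x := by
    induction x using Submodule.Quotient.induction_on with
    | H x => exact congrArg Submodule.Quotient.mk (F.mapTop_id ζ.obj x)
  map_comp {ζ'' ζ' ζ} ψ φ x := by
    induction x using Submodule.Quotient.induction_on with
    | H x => exact congrArg Submodule.Quotient.mk (F.mapTop_comp ψ.hom φ.hom x)

end

theorem quotAMod_isCart (F : QCoh 𝒳) (K : ∀ ζ : (ASieve.all 𝒳).cat.obj, Submodule Γ(sch 𝒳 ζ.obj, ⊤) Γ(F.obj.obj ζ.obj, ⊤))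
    (hK : ∀ ⦃ζ' ζ : (ASieve.all 𝒳).cat.obj⦄ (φ : ζ' ⟶ ζ) (x : Γ(F.obj.obj ζ.obj, ⊤)), x ∈ K ζ →
    F.obj.mapTop φ.hom x ∈ K ζ')
    (hK' : ∀ ⦃ζ' ζ : (ASieve.all 𝒳).cat.obj⦄ (φ : ζ' ⟶ ζ), pull φ.hom (K ζ) = K ζ') : (quotAMod F.obj K hK).IsCart := by
  intro ζ' ζ φ
  have : IsAffine (sch 𝒳 ζ.obj) := ζ.property
  have : IsAffine (sch 𝒳 ζ'.obj) := ζ'.property
  have h1 := isBC_quotMap (isBC_resTop F φ.hom) (K ζ)
  have key : ∀ (L : Submodule Γ(sch 𝒳 ζ'.obj, ⊤) Γ(F.obj.obj ζ'.obj, ⊤)) (hL : pull φ.hom (K ζ) = L)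
      (h : ∀ x ∈ K ζ, resTop F.obj φ.hom x ∈ L), IsBC (ringMap φ.hom) (quotMap (resTop F.obj φ.hom) (K ζ) L h) := by
    rintro L rfl h
    exact h1
  exact key (K ζ') (hK' φ) (hK φ)

/-- A family of submodules over all affine objects, stable under base change, is the kernel of a surjection of
quasi-coherent modules. -/
theorem exists_quotient (h𝒳 : FibCat.IsFibGrpd 𝒳.p) (F : QCoh 𝒳)
    (K : ∀ (ξ : 𝒳.obj) [IsAffine (sch 𝒳 ξ)], Submodule Γ(sch 𝒳 ξ, ⊤) Γ(F.obj.obj ξ, ⊤))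
    (hK : ∀ ⦃ξ' ξ : 𝒳.obj⦄ [IsAffine (sch 𝒳 ξ)] [IsAffine (sch 𝒳 ξ')] (φ : ξ' ⟶ ξ), pull φ (K ξ) = K ξ') :
    ∃ (Q : QCoh 𝒳) (q : F ⟶ Q), Mod.IsSurj q.hom ∧
      ∀ (ξ : 𝒳.obj) [IsAffine (sch 𝒳 ξ)] (x : Γ(F.obj.obj ξ, ⊤)), (q.hom.app ξ).app ⊤ x = 0 ↔ x ∈ K ξ := by
  haveI := h𝒳
  let K' : ∀ ζ : (ASieve.all 𝒳).cat.obj, Submodule Γ(sch 𝒳 ζ.obj, ⊤) Γ(F.obj.obj ζ.obj, ⊤) := fun ζ =>
    haveI : IsAffine (sch 𝒳 ζ.obj) := ζ.property
    K ζ.obj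
  have hK₁ : ∀ ⦃ζ' ζ : (ASieve.all 𝒳).cat.obj⦄ (φ : ζ' ⟶ ζ), pull φ.hom (K' ζ) = K' ζ' := by
    intro ζ' ζ φ
    haveI : IsAffine (sch 𝒳 ζ.obj) := ζ.property
    haveI : IsAffine (sch 𝒳 ζ'.obj) := ζ'.property
    exact hK φ.hom
  have hK₀ : ∀ ⦃ζ' ζ : (ASieve.all 𝒳).cat.obj⦄ (φ : ζ' ⟶ ζ) (x : Γ(F.obj.obj ζ.obj, ⊤)), x ∈ K' ζ →
      F.obj.mapTop φ.hom x ∈ K' ζ' := by
    intro ζ' ζ φ x hx
    rw [← hK₁ φ]
    exact mem_pull φ.hom hx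
  let N := quotAMod F.obj K' hK₀
  have hN : N.IsCart := quotAMod_isCart F K' hK₀ hK₁
  have hZ : ∀ ξ, ZLoc (ASieve.all 𝒳) ξ := zloc_all
  haveI : ∀ (ξ : 𝒳.obj) (U : (sch 𝒳 ξ).Opens), Small.{u} (BFam N ξ U) := fun ξ U => small_bfam N hN (hZ ξ) U
  let Q := ext N hN hZ
  let e : ∀ ζ : (ASieve.all 𝒳).cat.obj, Γ(Q.obj.obj ζ.obj, ⊤) ≃+ N.obj ζ := fun ζ =>
    AddEquiv.ofBijective (extEv N hN hZ ζ) (extEv_bijective N hN hZ ζ)
  have he : ∀ (ζ : (ASieve.all 𝒳).cat.obj) (r : Γ(sch 𝒳 ζ.obj, ⊤)) (x : Γ(Q.obj.obj ζ.obj, ⊤)),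
      e ζ (r • x) = (show Γ(sch (ASieve.all 𝒳).cat ζ, ⊤) from r) • e ζ x := fun ζ r x => extEv_smul N hN hZ ζ r x
  let m : ∀ (ζ : (ASieve.all 𝒳).cat.obj), Γ(F.obj.obj ζ.obj, ⊤) → N.obj ζ := fun ζ x => Submodule.Quotient.mk x
  let t : AHom (rest F.obj (ASieve.all 𝒳)) (rest Q.obj (ASieve.all 𝒳)) :=
    { app := fun ζ =>
        { toFun := fun x => (e ζ).symm (m ζ x)
          map_add' := fun x y => map_add (e ζ).symm (m ζ x) (m ζ y)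
          map_smul' := fun r x => (e ζ).symm_apply_eq.2 (by
            refine Eq.trans ?_ (he ζ r _).symm
            exact congrArg (fun y => (show Γ(sch (ASieve.all 𝒳).cat ζ, ⊤) from r) • y)
              ((e ζ).apply_symm_apply (m ζ x)).symm) }
      comm := fun {ζ' ζ} φ x => by
        refine (e ζ').symm_apply_eq.2 ?_
        refine Eq.trans ?_ (extEv_mapTop N hN hZ φ _).symm
        exact congrArg (N.map φ) ((e ζ).apply_symm_apply (m ζ x)).symm }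
  refine ⟨Q, ObjectProperty.homMk (homMk hZ t), ?_, ?_⟩
  · intro ξ hξ y
    let ζ : (ASieve.all 𝒳).cat.obj := ⟨ξ, hξ⟩
    obtain ⟨x, hx⟩ := Submodule.Quotient.mk_surjective _ (e ζ y)
    refine ⟨x, ?_⟩
    refine (homMk_app hZ t ζ x).trans ?_
    exact (e ζ).symm_apply_eq.2 hx
  · intro ξ hξ x
    let ζ : (ASieve.all 𝒳).cat.obj := ⟨ξ, hξ⟩
    have h1 : ((homMk hZ t).app ξ).app ⊤ x = (e ζ).symm (m ζ x) := homMk_app hZ t ζ x
    have h2 : (e ζ).symm (m ζ x) = 0 ↔ m ζ x = 0 := by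
      rw [AddEquiv.symm_apply_eq, map_zero]
    rw [← h1] at h2
    exact h2.trans (Submodule.Quotient.mk_eq_zero (K' ζ))

/-- A morphism killing the kernel of a surjection factors through it. -/
theorem exists_factor (h𝒳 : FibCat.IsFibGrpd 𝒳.p) {F Q G : QCoh 𝒳} (q : F ⟶ Q) (hq : Mod.IsSurj q.hom) (f : F ⟶ G)
    (hf : ∀ (ξ : 𝒳.obj) [IsAffine (sch 𝒳 ξ)] (x : Γ(F.obj.obj ξ, ⊤)), (q.hom.app ξ).app ⊤ x = 0 →
      (f.hom.app ξ).app ⊤ x = 0) : ∃ g : Q ⟶ G, q ≫ g = f := by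
  haveI := h𝒳
  have hZ : ∀ ξ, ZLoc (ASieve.all 𝒳) ξ := zloc_all
  have key : ∀ ζ : (ASieve.all 𝒳).cat.obj, ∃ g : Γ(Q.obj.obj ζ.obj, ⊤) →ₗ[Γ(sch 𝒳 ζ.obj, ⊤)] Γ(G.obj.obj ζ.obj, ⊤),
      ∀ x, g ((q.hom.app ζ.obj).app ⊤ x) = (f.hom.app ζ.obj).app ⊤ x := by
    intro ζ
    haveI : IsAffine (sch 𝒳 ζ.obj) := ζ.property
    let a : Γ(F.obj.obj ζ.obj, ⊤) →ₗ[Γ(sch 𝒳 ζ.obj, ⊤)] Γ(Q.obj.obj ζ.obj, ⊤) :=
      { ((q.hom.app ζ.obj).app ⊤).hom with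
        map_smul' := fun r x => Scheme.Modules.Hom.app_smul (q.hom.app ζ.obj) r x }
    let b : Γ(F.obj.obj ζ.obj, ⊤) →ₗ[Γ(sch 𝒳 ζ.obj, ⊤)] Γ(G.obj.obj ζ.obj, ⊤) :=
      { ((f.hom.app ζ.obj).app ⊤).hom with
        map_smul' := fun r x => Scheme.Modules.Hom.app_smul (f.hom.app ζ.obj) r x }
    have ha : Function.Surjective a := hq ζ.obj ζ.property
    have hab : LinearMap.ker a ≤ LinearMap.ker b := fun x hx => hf ζ.obj x hx
    let e := a.quotKerEquivOfSurjective ha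
    refine ⟨(LinearMap.ker a).liftQ b hab ∘ₗ e.symm.toLinearMap, fun x => ?_⟩
    change (LinearMap.ker a).liftQ b hab (e.symm (a x)) = b x
    have : e.symm (a x) = Submodule.Quotient.mk x := by
      rw [LinearEquiv.symm_apply_eq]
      rfl
    rw [this]
    rfl
  choose g hg using key
  let t : AHom (rest Q.obj (ASieve.all 𝒳)) (rest G.obj (ASieve.all 𝒳)) :=
    { app := fun ζ => g ζ
      comm := fun {ζ' ζ} φ x => by
        obtain ⟨y, rfl⟩ := hq ζ.obj ζ.property x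
        change g ζ' (Q.obj.mapTop φ.hom ((q.hom.app ζ.obj).app ⊤ y)) =
          G.obj.mapTop φ.hom (g ζ ((q.hom.app ζ.obj).app ⊤ y))
        rw [Mod.mapTop_app, hg, hg, Mod.mapTop_app] }
  refine ⟨ObjectProperty.homMk (homMk hZ t), ?_⟩
  apply ObjectProperty.hom_ext
  refine hom_ext_of_top hZ fun ζ x => ?_
  change ((homMk hZ t).app ζ.obj).app ⊤ ((q.hom.app ζ.obj).app ⊤ x) = _
  refine (homMk_app hZ t ζ _).trans ?_
  exact hg ζ x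

/-- The quotient of `F` by a compatible family of submodules over an atlas. -/
theorem exists_quotient_atlas (h𝒳 : FibCat.IsFibGrpd 𝒳.p) {J : Type t} {Z : J → 𝒳.obj} (hZ : Covers Z) (F : QCoh 𝒳)
    {K : Fam Z F} (hK : Compat K) : ∃ (Q : QCoh 𝒳) (q : F ⟶ Q), Mod.IsSurj q.hom ∧
      ∀ (ξ : 𝒳.obj) [IsAffine (sch 𝒳 ξ)] (x : Γ(F.obj.obj ξ, ⊤)), (q.hom.app ξ).app ⊤ x = 0 ↔ x ∈ all hZ K ξ :=
  exists_quotient h𝒳 F (fun ξ _ => all hZ K ξ) (fun ξ' ξ _ _ φ => pull_all h𝒳 hZ hK φ)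

end K907.Quot
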