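import Groth.Prelude.Def_StMod
import Groth.Agent.AlgSt.K735.Pts
import Groth.Agent.StMod.K906.Grpd

/-!
# The point of `|𝒳|` under a point of the scheme under an object

* `pt h𝒳 ξ t : Points 𝒳` for `t : sch 𝒳 ξ`;
* `mk_eq_pt` : for a field-valued point `p` with an arrow `φ : p.obj ⟶ ξ`, `mk p = pt ξ (bmap φ s)`;
* `pt_map` : naturality along arrows, `map_pt` : naturality along functors;
* `ofChart_eq` : comparison with `Points.ofChart`;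
* `isClosed_pt_preimage` : preimages of closed sets in smooth charts are closed.
-/

set_option autoImplicit false
set_option backward.isDefEq.respectTransparency false
set_option backward.isDefEq.respectTransparency.types false
set_option linter.unusedVariables false

universe w' v' w v u

open CategoryTheory CategoryTheory.Limits AlgebraicGeometry Opposite StMod AlgSt

namespace K907.Pt

variable {S : Scheme.{u}} {𝒳 : BasedCategory.{v, w} (Over S)} {𝒴 : BasedCategory.{v', w'} (Over S)}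

theorem exists_pt (h𝒳 : FibCat.IsFibGrpd 𝒳.p) (ξ : 𝒳.obj) (t : ↥(sch 𝒳 ξ)) :
    ∃ (y : 𝒳.obj) (φ : y ⟶ ξ) (e : 𝒳.p.obj y = Over.mk ((sch 𝒳 ξ).fromSpecResidueField t ≫ (𝒳.p.obj ξ).hom)),
      𝒳.p.map φ = eqToHom e ≫ Over.homMk ((sch 𝒳 ξ).fromSpecResidueField t) rfl :=
  K735.Fib.exists_lift h𝒳 _

/-- The field-valued point at a point of the scheme under `ξ`. -/
noncomputable def fpt (h𝒳 : FibCat.IsFibGrpd 𝒳.p) (ξ : 𝒳.obj) (t : ↥(sch 𝒳 ξ)) : FPt 𝒳 :=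
  { K := (sch 𝒳 ξ).residueField t
    str := (sch 𝒳 ξ).fromSpecResidueField t ≫ (𝒳.p.obj ξ).hom
    obj := (exists_pt h𝒳 ξ t).choose
    lies := (exists_pt h𝒳 ξ t).choose_spec.choose_spec.choose }

/-- Its arrow to `ξ`. -/
noncomputable def fptArr (h𝒳 : FibCat.IsFibGrpd 𝒳.p) (ξ : 𝒳.obj) (t : ↥(sch 𝒳 ξ)) : (fpt h𝒳 ξ t).obj ⟶ ξ :=
  (exists_pt h𝒳 ξ t).choose_spec.choose

theorem map_fptArr (h𝒳 : FibCat.IsFibGrpd 𝒳.p) (ξ : 𝒳.obj) (t : ↥(sch 𝒳 ξ)) :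
    𝒳.p.map (fptArr h𝒳 ξ t) = eqToHom (fpt h𝒳 ξ t).lies ≫ Over.homMk ((sch 𝒳 ξ).fromSpecResidueField t) rfl :=
  (exists_pt h𝒳 ξ t).choose_spec.choose_spec.choose_spec

/-- The point of `|𝒳|` at a point of the scheme under `ξ`. -/
noncomputable def pt (h𝒳 : FibCat.IsFibGrpd 𝒳.p) (ξ : 𝒳.obj) (t : ↥(sch 𝒳 ξ)) : Points 𝒳 := Points.mk (fpt h𝒳 ξ t)

/-- The point of the scheme under the object of a field-valued point. -/
noncomputable def ptt (p : FPt 𝒳) : ↥(sch 𝒳 p.obj) :=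
  (eqToHom p.lies.symm : (Over.mk p.str : Over S) ⟶ _).left (IsLocalRing.closedPoint p.K)

theorem eq_ptt (p : FPt 𝒳) (s : ↥(sch 𝒳 p.obj)) : s = ptt p := by
  have e : (eqToHom p.lies : 𝒳.p.obj p.obj ⟶ (Over.mk p.str : Over S)) ≫ eqToHom p.lies.symm = 𝟙 _ := by simp
  have e' : (eqToHom p.lies : 𝒳.p.obj p.obj ⟶ (Over.mk p.str : Over S)).left ≫
      (eqToHom p.lies.symm : (Over.mk p.str : Over S) ⟶ _).left = 𝟙 _ := by
    rw [← Over.comp_left, e]; rfl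
  have h1 : s = (eqToHom p.lies.symm : (Over.mk p.str : Over S) ⟶ _).left
      ((eqToHom p.lies : 𝒳.p.obj p.obj ⟶ (Over.mk p.str : Over S)).left s) := by
    have := congrArg (fun k : (𝒳.p.obj p.obj).left ⟶ (𝒳.p.obj p.obj).left => k s) e'
    exact this.symm
  rw [h1]
  unfold ptt
  congr 1
  exact @Subsingleton.elim _ (inferInstanceAs (Subsingleton (PrimeSpectrum p.K))) _ _

/-- A morphism from the spectrum of a field factors through the residue field of its image point. -/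
theorem exists_fac_residueField {K : Type u} [Field K] {X : Scheme.{u}} (f : Spec (CommRingCat.of K) ⟶ X) (x : X)
    (hx : f (IsLocalRing.closedPoint K) = x) :
    ∃ g : Spec (CommRingCat.of K) ⟶ Spec (X.residueField x), g ≫ X.fromSpecResidueField x = f := by
  subst hx
  let e := (Scheme.SpecToEquivOfField K X)
  refine ⟨Spec.map (e f).2, ?_⟩
  exact e.symm_apply_apply f

/-- A field-valued point with an arrow to `ξ`. -/
theorem mk_eq_pt (h𝒳 : FibCat.IsFibGrpd 𝒳.p) (p : FPt 𝒳) {ξ : 𝒳.obj} (φ : p.obj ⟶ ξ) (s : ↥(sch 𝒳 p.obj)) :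
    Points.mk p = pt h𝒳 ξ (bmap 𝒳 φ s) := by
  obtain rfl := eq_ptt p s
  set t := bmap 𝒳 φ (ptt p) with ht
  let f : Spec (CommRingCat.of p.K) ⟶ sch 𝒳 ξ := (eqToHom p.lies.symm : (Over.mk p.str : Over S) ⟶ _).left ≫ bmap 𝒳 φ
  obtain ⟨g, hg⟩ := exists_fac_residueField f t (by rw [ht]; rfl)
  have hgo : g ≫ (sch 𝒳 ξ).fromSpecResidueField t ≫ (𝒳.p.obj ξ).hom = p.str := by
    rw [reassoc_of% hg]
    change ((eqToHom p.lies.symm : (Over.mk p.str : Over S) ⟶ _).left ≫ (𝒳.p.map φ).left) ≫ (𝒳.p.obj ξ).hom = p.str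
    rw [Category.assoc, Over.w, Over.w]
    rfl
  let g' : (Over.mk p.str : Over S) ⟶ Over.mk ((sch 𝒳 ξ).fromSpecResidueField t ≫ (𝒳.p.obj ξ).hom) :=
    Over.homMk g hgo
  obtain ⟨χ, -, -⟩ := K735.Fib.exists_hom h𝒳 (fptArr h𝒳 ξ t) φ
    (eqToHom p.lies ≫ g' ≫ eqToHom (fpt h𝒳 ξ t).lies.symm) (by
      rw [map_fptArr]
      simp only [Category.assoc, eqToHom_trans_assoc, eqToHom_refl, Category.id_comp]
      have : g' ≫ Over.homMk ((sch 𝒳 ξ).fromSpecResidueField t) rfl = eqToHom p.lies.symm ≫ 𝒳.p.map φ :=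
        Over.OverMorphism.ext hg
      rw [this]
      simp)
  exact K735.Pts.mk_eq_of_hom χ

theorem map_mk_fpt (h𝒴 : FibCat.IsFibGrpd 𝒴.p) (f : 𝒳 ⥤ᵇ 𝒴) (p : FPt 𝒳) {η : 𝒴.obj} (α : f.obj p.obj ⟶ η)
    (s : ↥(sch 𝒴 (f.obj p.obj))) : Points.map f (Points.mk p) = pt h𝒴 η (bmap 𝒴 α s) :=
  mk_eq_pt h𝒴 (p.map f) α s

theorem bmap_fptArr_ptt (h𝒳 : FibCat.IsFibGrpd 𝒳.p) (ξ : 𝒳.obj) (t : ↥(sch 𝒳 ξ)) :
    bmap 𝒳 (fptArr h𝒳 ξ t) (ptt (fpt h𝒳 ξ t)) = t := by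
  have e : (eqToHom (fpt h𝒳 ξ t).lies.symm : (Over.mk (fpt h𝒳 ξ t).str : Over S) ⟶ _).left ≫
      bmap 𝒳 (fptArr h𝒳 ξ t) = (sch 𝒳 ξ).fromSpecResidueField t := by
    unfold bmap
    rw [map_fptArr, Over.comp_left, ← Category.assoc, ← Over.comp_left]
    simp
  have e2 := congrArg (fun k => k (IsLocalRing.closedPoint ((sch 𝒳 ξ).residueField t)))
    (congrArg (fun k : Spec _ ⟶ _ => k.base) e)
  exact e2.trans (Scheme.fromSpecResidueField_apply _ _)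

theorem pt_map (h𝒳 : FibCat.IsFibGrpd 𝒳.p) {ξ' ξ : 𝒳.obj} (φ : ξ' ⟶ ξ) (t : ↥(sch 𝒳 ξ')) :
    pt h𝒳 ξ (bmap 𝒳 φ t) = pt h𝒳 ξ' t := by
  have h1 := mk_eq_pt h𝒳 (fpt h𝒳 ξ' t) (fptArr h𝒳 ξ' t ≫ φ) (ptt _)
  have h2 := mk_eq_pt h𝒳 (fpt h𝒳 ξ' t) (fptArr h𝒳 ξ' t) (ptt _)
  have h3 : bmap 𝒳 (fptArr h𝒳 ξ' t) (ptt (fpt h𝒳 ξ' t)) = t := bmap_fptArr_ptt h𝒳 ξ' t
  rw [bmap_comp] at h1
  change _ = pt h𝒳 ξ (bmap 𝒳 φ (bmap 𝒳 (fptArr h𝒳 ξ' t) (ptt _))) at h1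
  rw [h3] at h1 h2
  exact h1.symm.trans h2

/-- The image of the point under a functor. -/
theorem map_pt (h𝒳 : FibCat.IsFibGrpd 𝒳.p) (h𝒴 : FibCat.IsFibGrpd 𝒴.p) (f : 𝒳 ⥤ᵇ 𝒴) {ξ : 𝒳.obj} {η : 𝒴.obj}
    (α : f.obj ξ ⟶ η) (t : ↥(sch 𝒳 ξ)) :
    Points.map f (pt h𝒳 ξ t) = pt h𝒴 η ((baseOver f ξ α).left t) := by
  let p := fpt h𝒳 ξ t
  let s : ↥(sch 𝒴 (f.obj p.obj)) := (eqToHom (f.w_obj p.obj).symm : 𝒳.p.obj p.obj ⟶ _).left (ptt p)
  have h1 := map_mk_fpt h𝒴 f p (f.map (fptArr h𝒳 ξ t) ≫ α) s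
  refine h1.trans ?_
  congr 1
  have e : (eqToHom (f.w_obj p.obj).symm : 𝒳.p.obj p.obj ⟶ _).left ≫ bmap 𝒴 (f.map (fptArr h𝒳 ξ t) ≫ α) =
      bmap 𝒳 (fptArr h𝒳 ξ t) ≫ (baseOver f ξ α).left := by
    unfold bmap
    rw [← Over.comp_left, ← Over.comp_left, map_comp_baseOver]
    rfl
  have e2 := congrArg (fun k : (𝒳.p.obj p.obj).left ⟶ _ => k (ptt p)) e
  refine e2.trans ?_
  change (baseOver f ξ α).left (bmap 𝒳 (fptArr h𝒳 ξ t) (ptt (fpt h𝒳 ξ t))) = _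
  rw [bmap_fptArr_ptt]

/-- Every point of `|𝒳|` has a representing field-valued point. -/
theorem exists_rep (x : Points 𝒳) : ∃ p : FPt 𝒳, Points.mk p = x := Points.mk_surjective x

/-- The points of a chart. -/
theorem ofChart_eq (h𝒳 : FibCat.IsFibGrpd 𝒳.p) {U : Over S} (x : FibCat.overCat U ⥤ᵇ 𝒳)
    (t : ↥U.left) (s : ↥(sch 𝒳 (x.obj (Over.mk (𝟙 U)))))
    (hs : (eqToHom (x.w_obj (Over.mk (𝟙 U))) : 𝒳.p.obj (x.obj (Over.mk (𝟙 U))) ⟶ U).left s = t) :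
    Points.ofChart x t = pt h𝒳 (x.obj (Over.mk (𝟙 U))) s := by
  let a : (Over.mk (Over.homMk (U.left.fromSpecResidueField t) rfl :
          Over.mk (U.left.fromSpecResidueField t ≫ U.hom) ⟶ U) : Over U) ⟶ Over.mk (𝟙 U) :=
    Over.homMk (Over.homMk (U.left.fromSpecResidueField t) rfl) (by simp)
  let p : FPt 𝒳 := { K := ↥(U.left.residueField t)
                     str := U.left.fromSpecResidueField t ≫ U.hom
                     obj := x.obj (Over.mk (Over.homMk (U.left.fromSpecResidueField t) rfl :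
                        Over.mk (U.left.fromSpecResidueField t ≫ U.hom) ⟶ U))
                     lies := x.w_obj _ }
  have h1 : Points.mk p = _ := mk_eq_pt h𝒳 p (x.map a) (ptt p)
  refine h1.trans ?_
  congr 1
  -- compute the underlying point
  have hinj : Function.Injective (eqToHom (x.w_obj (Over.mk (𝟙 U))) : 𝒳.p.obj (x.obj (Over.mk (𝟙 U))) ⟶ U).left := by
    have : IsIso (eqToHom (x.w_obj (Over.mk (𝟙 U))) : 𝒳.p.obj (x.obj (Over.mk (𝟙 U))) ⟶ U).left := by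
      have : IsIso ((Over.forget S).map (eqToHom (x.w_obj (Over.mk (𝟙 U))))) := inferInstance
      exact this
    exact (Scheme.homeoOfIso (asIso (eqToHom (x.w_obj (Over.mk (𝟙 U))) :
      𝒳.p.obj (x.obj (Over.mk (𝟙 U))) ⟶ U).left)).injective
  apply hinj
  rw [hs]
  have e0 : 𝒳.p.map (x.map a) = _ := K735.Fib.map_map x a
  have e : (eqToHom p.lies.symm : (Over.mk p.str : Over S) ⟶ _).left ≫ bmap 𝒳 (x.map a) ≫
      (eqToHom (x.w_obj (Over.mk (𝟙 U))) : 𝒳.p.obj (x.obj (Over.mk (𝟙 U))) ⟶ U).left =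
        U.left.fromSpecResidueField t := by
    unfold bmap
    rw [← Over.comp_left, ← Over.comp_left, e0]
    have : (eqToHom p.lies.symm ≫ (eqToHom (x.w_obj _) ≫ (FibCat.overCat U).p.map a ≫
      eqToHom (x.w_obj (Over.mk (𝟙 U))).symm) ≫ eqToHom (x.w_obj (Over.mk (𝟙 U)))) =
      (Over.homMk (U.left.fromSpecResidueField t) rfl :
          Over.mk (U.left.fromSpecResidueField t ≫ U.hom) ⟶ U) := by
      simp only [Category.assoc, eqToHom_trans, eqToHom_refl, Category.comp_id, eqToHom_trans_assoc, Category.id_comp]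
      rfl
    rw [this]
    rfl
  have e2 := congrArg (fun k => k (IsLocalRing.closedPoint (U.left.residueField t)))
      (congrArg (fun k : Spec _ ⟶ _ => k.base) e)
  exact e2.trans (Scheme.fromSpecResidueField_apply _ _)

/-- The preimage of an open set in a smooth chart is open. -/
theorem isOpen_setOf_pt (h𝒳 : FibCat.IsFibGrpd 𝒳.p) {U : Over S} (x : FibCat.overCat U ⥤ᵇ 𝒳)
    (hx : RepByAlgSpWith (AlgSp.LocP @Smooth) x) {ζ : 𝒳.obj} (i : ζ ⟶ x.obj (Over.mk (𝟙 U))) {W : Set (Points 𝒳)}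
    (hW : IsOpen W) : IsOpen {s : ↥(sch 𝒳 ζ) | pt h𝒳 ζ s ∈ W} := by
  have h1 := Points.isOpen_iff.1 hW U x hx
  let g : sch 𝒳 ζ ⟶ U.left := bmap 𝒳 i ≫
    (eqToHom (x.w_obj (Over.mk (𝟙 U))) : 𝒳.p.obj (x.obj (Over.mk (𝟙 U))) ⟶ U).left
  have h2 : {s : ↥(sch 𝒳 ζ) | pt h𝒳 ζ s ∈ W} = g ⁻¹' (Points.ofChart x ⁻¹' W) := by
    ext s
    change pt h𝒳 ζ s ∈ W ↔ Points.ofChart x (g s) ∈ W
    rw [ofChart_eq h𝒳 x (g s) (bmap 𝒳 i s) rfl, pt_map]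
  rw [h2]
  exact h1.preimage g.continuous

/-- The preimage of a closed set in a smooth chart is closed. -/
theorem isClosed_setOf_pt (h𝒳 : FibCat.IsFibGrpd 𝒳.p) {U : Over S} (x : FibCat.overCat U ⥤ᵇ 𝒳)
    (hx : RepByAlgSpWith (AlgSp.LocP @Smooth) x) {ζ : 𝒳.obj} (i : ζ ⟶ x.obj (Over.mk (𝟙 U))) {W : Set (Points 𝒳)}
    (hW : IsClosed W) : IsClosed {s : ↥(sch 𝒳 ζ) | pt h𝒳 ζ s ∈ W} := by
  rw [← isOpen_compl_iff]
  exact isOpen_setOf_pt h𝒳 x hx i hW.isOpen_compl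

end K907.Pt
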