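import Groth.Agent.StMod.K907.Rows
import Groth.Agent.StMod.K906.Atlas

/-!
# Every algebraic stack has a smooth atlas in the sense of `HasCov`
-/

set_option autoImplicit false
set_option linter.unusedVariables false
set_option linter.style.haveILetI false
set_option backward.isDefEq.respectTransparency false
set_option backward.isDefEq.respectTransparency.types false

universe t w' v' w v u

open CategoryTheory CategoryTheory.Limits AlgebraicGeometry Opposite StMod AlgSt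

namespace K907.Rows

open K907.Atl K907.Pt K907.Van K907.Closed K735.PtsSp K735.SpFp

variable {S : Scheme.{u}} {𝒳 : BasedCategory.{v, w} (Over S)}

/-- The chart through an object is continuous. -/
theorem continuous_pt (h𝒳 : FibCat.IsFibGrpd 𝒳.p) (hc : K735.Top.ChartCont 𝒳) (ξ : 𝒳.obj) :
    Continuous (pt h𝒳 ξ) := by
  let U : Over S := 𝒳.p.obj ξ
  let x : FibCat.overCat U ⥤ᵇ 𝒳 := K735.Fp.yonF h𝒳 ξ rfl
  let i : x.obj (Over.mk (𝟙 U)) ≅ ξ := K735.Fp.yonFIso h𝒳 ξ rfl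
  let g : sch 𝒳 ξ ⟶ U.left := bmap 𝒳 i.inv ≫
    (eqToHom (x.w_obj (Over.mk (𝟙 U))) : 𝒳.p.obj (x.obj (Over.mk (𝟙 U))) ⟶ U).left
  have h2 : pt h𝒳 ξ = Points.ofChart x ∘ g := by
    ext s
    change pt h𝒳 ξ s = Points.ofChart x (g s)
    rw [ofChart_eq h𝒳 x (g s) (bmap 𝒳 i.inv s) rfl, pt_map]
  rw [h2]
  exact (hc U x).comp g.continuous

theorem isCl_of_isClosed (h𝒳 : FibCat.IsFibGrpd 𝒳.p) (hc : K735.Top.ChartCont 𝒳) {W : Set (Points 𝒳)}
    (hW : IsClosed W) : IsCl h𝒳 W := fun ξ hξ => hW.preimage (continuous_pt h𝒳 hc ξ)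

theorem hasCov {K : Precoverage Scheme.{u}} (h𝒳 : IsAlgStack K 𝒳) : HasCov h𝒳.isStack.1 := by
  obtain ⟨A⟩ := K906.nonempty_smAtlas h𝒳.isStack.1 h𝒳.atlas
  exact ⟨_, A.Z, smCov_of_smAtlas A, fun W hW => isCl_of_isClosed _ (K735.Top.chartCont_of_isAlgStack h𝒳) hW⟩

end K907.Rows
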