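import Groth.Agent.StMod.K907.Noeth
import Groth.Agent.StMod.K906.ExactE

/-!
# The data of a cohomologically affine morphism over affine étale `E`
-/

set_option autoImplicit false
set_option linter.unusedVariables false
set_option linter.style.haveILetI false
set_option backward.isDefEq.respectTransparency false
set_option backward.isDefEq.respectTransparency.types false

universe t w' v' w v u

open CategoryTheory CategoryTheory.Limits AlgebraicGeometry Opposite StMod AlgSt AlgSp

namespace K907.GM

open K906 K907.Free

/-- Exactness and presentations of the stacks `𝒳_E`, `E` affine étale over `M`. -/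
theorem exact_and_pres {S : Scheme.{u}} [QuasiSeparatedSpace S] {𝒳 : AlgSt.Cat S}
    (h𝒳 : IsAlgStack Scheme.fppfPrecoverage 𝒳) {M : Sp S} (hM : IsQuasiSeparatedSp M) {π : 𝒳 ⥤ᵇ ofSp M}
    (hqc : IsQuasiCompactMor Scheme.fppfPrecoverage π) (hqs : IsQuasiSeparatedMor π) (h : IsCohAffine π)
    (E : EtOver M) (hE : IsAffine E.obj.left.left) :
    Free.Exact (fibCat π (etaOf E)) ∧ Nonempty (Pres (fibCat π (etaOf E))) :=
  ⟨ExactE.exact_fibCat_of_qs h𝒳 hM π h E hE, nonempty_pres h𝒳 E hqc hqs hE⟩

end K907.GM
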