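import Groth.Agent.StMod.K907.UnitBC
import Groth.Agent.StMod.K907.GoodE
import Groth.Agent.StMod.K906.BaseCh

/-!
# The unit of a good moduli space over arbitrary schemes over `M`

`bijective_unitSect_all` : for a good moduli space `π : 𝒳 ⟶ M` the unit is bijective over EVERY object of `ofSp M`.
`unitIsIso_fpFst` : hence it is bijective after any base change.
-/

set_option autoImplicit false
set_option linter.unusedVariables false
set_option linter.style.haveILetI false
set_option backward.isDefEq.respectTransparency false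
set_option backward.isDefEq.respectTransparency.types false

universe t w' v' w v u

open CategoryTheory CategoryTheory.Limits AlgebraicGeometry Opposite StMod AlgSt AlgSp

namespace K907.UnitAll

open K906 K906.SpGeo K906.BaseCh K907.Free K907.Sec

section General

variable {S : Scheme.{u}} {𝒳 : BasedCategory.{v, w} (Over S)} {M : Sp S}

theorem bijective_unitSect_all (h𝒳 : FibCat.IsFibGrpd 𝒳.p) (hM : IsAlgSpace M) (π : 𝒳 ⥤ᵇ ofSp M)
    (hP : ∀ η : (ofSp M).obj, IsAffine (sch (ofSp M) η) → Nonempty (Pres (K906.fibCat π η)))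
    (hex : ∀ E : EtOver M, IsAffine E.obj.left.left → Free.Exact (K906.fibCat π (etaOf E))) (h : UnitIsIso π)
    (η : (ofSp M).obj) : Function.Bijective (unitSect π η) := by
  have hMf : FibCat.IsFibGrpd (ofSp M).p := FibTerm.isFibGrpd_ofSp
  refine UnitLoc.bijective_unitSect_of_charts h𝒳 hMf fun η₁ g₁ hη₁ _ => ?_
  obtain ⟨P⟩ := hP η₁ hη₁
  refine FlatLoc.bijective_unitSect_of_flat_local h𝒳 hMf hη₁ P fun x => ?_
  obtain ⟨V, j, E, k, h1, h2, h3, h4, h5⟩ := exists_et_factor hM (toMap η₁) x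
  let η' : (ofSp M).obj := ⟨V, (J S).uliftYonedaEquiv ((yon S).map j ≫ toMap η₁)⟩
  have hη' : toMap η' = (yon S).map j ≫ toMap η₁ := toMap_mk _
  let m : η' ⟶ η₁ := homMk j hη'.symm
  let κ : η' ⟶ etaOf E := homMk k (by
    rw [toMap_etaOf, hη']
    exact h5.symm)
  refine ⟨η', m, ⟨h1, ?_, h3⟩, ?_⟩
  · change Flat j.left
    infer_instance
  · obtain ⟨P'⟩ := hP (etaOf E) h4
    exact UnitBC.bijective_unitSect_of_affine κ h𝒳 hMf h4 h1 (hex E h4) P' (h E)

end General

variable {S : Scheme.{u}} [QuasiSeparatedSpace S] {𝒳 : AlgSt.Cat S}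

/-- The unit of a good moduli space is bijective over every scheme over `M`. -/
theorem bijective_unitSect (h𝒳 : IsAlgStack Scheme.fppfPrecoverage 𝒳) (M : Space S) (hM : IsQuasiSeparatedSp M.obj)
    (π : 𝒳 ⥤ᵇ ofSp M.obj) (hqc : IsQuasiCompactMor Scheme.fppfPrecoverage π) (hqs : IsQuasiSeparatedMor π)
    (h : IsGoodModuli π) (η : (ofSp M.obj).obj) : Function.Bijective (unitSect π η) :=
  bijective_unitSect_all h𝒳.isStack.1 M.property π (fun η hη =>
    K906.nonempty_pres h𝒳.isStack.1 FibTerm.isFibGrpd_ofSp K744.AlgOver.isAlgStack_overCat hqc hqs hη)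
    (fun E hE => (GM.exact_and_pres h𝒳 hM hqc hqs h.1 E hE).1) h.2 η

theorem unitIsIso_fpFst (h𝒳 : IsAlgStack Scheme.fppfPrecoverage 𝒳) (M : Space S) (hM : IsQuasiSeparatedSp M.obj)
    (π : 𝒳 ⥤ᵇ ofSp M.obj) (hqc : IsQuasiCompactMor Scheme.fppfPrecoverage π) (hqs : IsQuasiSeparatedMor π)
    (h : IsGoodModuli π) {M' : Sp S} (g : M' ⟶ M.obj) : UnitIsIso (FibCat.fpFst (ofSpMap g) π) := fun E =>
  (Comap.unitSect_bijective_iff π (ofSpMap g) FibTerm.isFibGrpd_ofSp FibTerm.isFibGrpd_ofSp (etaOf E)).1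
    (bijective_unitSect h𝒳 M hM π hqc hqs h _)

end K907.UnitAll
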