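import Groth.Agent.StMod.K907.UnivCl
import Groth.Agent.AlgSt.K742.QC
import Groth.Agent.AlgSt.K739.Sect
import Groth.Agent.AlgSt.K740.SpDM

/-!
# Base changes of good moduli spaces over stacks with a terminal affine object

`GoodFp.data` : for a good moduli space `π : 𝒳 ⟶ M` and `g : 𝒴' ⥤ᵇ ofSp M`, `𝒴'` an algebraic stack with a terminal object over
an affine scheme: `fp g π` is algebraic, global sections are exact on it, its ring of functions is that of the terminal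
object, and it has an atlas by one affine object.
`isSurjective`, `isUnivClosed`.
-/

set_option autoImplicit false
set_option linter.unusedVariables false
set_option linter.style.haveILetI false
set_option backward.isDefEq.respectTransparency false
set_option backward.isDefEq.respectTransparency.types false

universe t w' v' w v u

open CategoryTheory CategoryTheory.Limits AlgebraicGeometry Opposite StMod AlgSt AlgSp

namespace K907.GoodFp

open K907.Free K907.Sec K907.Atl K907.Tens K907.Pt K907.Van K907.Closed K907.ClosedPt K907.TermE K907.Rows K907.UnivCl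
open K735.PtsSp K735.Pts K735.Top

/-- An atlas by one object. -/
theorem smCov_of_subsingleton {S : Scheme.{u}} {𝒳 : BasedCategory.{v, w} (Over S)} (A : K906.SmAtlas 𝒳)
    (h : Subsingleton A.J) (j₀ : A.J) : SmCov (fun _ : PUnit.{t + 1} => A.Z j₀) where
  aff _ := A.affine j₀
  cov z hz := by
    obtain ⟨z', f, j, d, h1⟩ := (smCov_of_smAtlas A).cov z hz
    obtain rfl := h.elim j j₀
    exact ⟨z', f, ⟨⟩, d, h1⟩
  span z i j a b hz := (smCov_of_smAtlas A).span z j₀ j₀ a b hz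

section

variable {S : Scheme.{u}} [QuasiSeparatedSpace S] {𝒳 : AlgSt.Cat S} (h𝒳 : IsAlgStack Scheme.fppfPrecoverage 𝒳)
  (M : Space S) (hM : IsQuasiSeparatedSp M.obj) (π : 𝒳 ⥤ᵇ ofSp M.obj)
  (hqc : IsQuasiCompactMor Scheme.fppfPrecoverage π) (hqs : IsQuasiSeparatedMor π)

include h𝒳 in
theorem isAlgStack_fp {𝒴' : AlgSt.Cat S} (h𝒴' : IsAlgStack Scheme.fppfPrecoverage 𝒴') (g : 𝒴' ⥤ᵇ ofSp M.obj) :
    IsAlgStack Scheme.fppfPrecoverage (FibCat.fp g π) :=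
  K734.Rep.isAlgStack_fp (K734.Rep.isPrestack_of_isStack (K740.SpDM.isAlgStack_ofSp M.property).isStack)
    (K740.SpDM.isAlgStack_ofSp M.property).diag h𝒴' h𝒳 g π

include h𝒳 hqc hqs in
theorem nonempty_pres_fp {𝒴' : AlgSt.Cat S} (h𝒴' : IsAlgStack Scheme.fppfPrecoverage 𝒴') (g : 𝒴' ⥤ᵇ ofSp M.obj)
    {η : 𝒴'.obj} (hη : IsAffine (sch 𝒴' η)) : Nonempty (K906.Pres (K906.fibCat (FibCat.fpFst g π) η)) := by
  have hAM := K740.SpDM.isAlgStack_ofSp M.property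
  have hfp := K735.Fp.isFibGrpd_fp h𝒴'.isStack.1 h𝒳.isStack.1 hAM.isStack.1 g π
  exact K906.nonempty_pres hfp h𝒴'.isStack.1 K744.AlgOver.isAlgStack_overCat
    (K742.QC.isQuasiCompactMor_fpFst h𝒳 hAM h𝒴' π g hqc)
    (K739.Sect.repByAlgSpWith_diag_fpFst g π h𝒳.isStack.1 hAM.isStack.1 h𝒴'.isStack.1 hfp hqs) hη

include h𝒳 hM hqc hqs in
theorem exact_fp (h : IsCohAffine π) {𝒴' : AlgSt.Cat S} (h𝒴' : IsAlgStack Scheme.fppfPrecoverage 𝒴')
    (g : 𝒴' ⥤ᵇ ofSp M.obj) {τ : 𝒴'.obj} (tm : ∀ y : 𝒴'.obj, Unique (y ⟶ τ)) (hτ : IsAffine (sch 𝒴' τ)) :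
    Free.Exact (FibCat.fp g π) := by
  obtain ⟨P⟩ := nonempty_pres_fp h𝒳 M π hqc hqs h𝒴' g hτ
  exact exact_of_surj (FibCat.fpFst g π) tm fun F G u hu =>
    surjective_fp h𝒳.isStack.1 h𝒴'.isStack.1 M.property π g
      (fun E hE => (GM.exact_and_pres h𝒳 hM hqc hqs h E hE).1) hτ P u hu

include h𝒳 hM hqc hqs in
theorem isFn_fp (h : IsGoodModuli π) {𝒴' : AlgSt.Cat S} (h𝒴' : FibCat.IsFibGrpd 𝒴'.p)
    (g : 𝒴' ⥤ᵇ ofSp M.obj) {τ : 𝒴'.obj} (tm : ∀ y : 𝒴'.obj, Unique (y ⟶ τ)) :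
    IsFn (fnτ (FibCat.fpFst g π) tm) :=
  isFnτ _ tm ((K906.Comap.unitSect_bijective_iff π g FibTerm.isFibGrpd_ofSp h𝒴' τ).1
    (UnitAll.bijective_unitSect h𝒳 M hM π hqc hqs h _))

include h𝒳 hqc in
theorem exists_smCov_fp {𝒴' : AlgSt.Cat S} (h𝒴' : IsAlgStack Scheme.fppfPrecoverage 𝒴')
    (hq : IsQuasiCompact 𝒴') (g : 𝒴' ⥤ᵇ ofSp M.obj) : ∃ y : (FibCat.fp g π).obj, SmCov (fun _ : PUnit.{t + 1} => y) := by
  obtain ⟨A, h1, ⟨j₀⟩⟩ := K906.exists_smAtlas_of_isQuasiCompact (isAlgStack_fp h𝒳 M π h𝒴' g).isStack.1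
    (hqc 𝒴' h𝒴' hq g)
  exact ⟨A.Z j₀, smCov_of_subsingleton A h1 j₀⟩

include h𝒳 hM hqc hqs in
theorem isClosedMap_affine (h : IsGoodModuli π) {T : Over S} (hT : IsAffine T.left) (v : FibCat.overCat T ⥤ᵇ ofSp M.obj) :
    IsClosedMap (Points.map (FibCat.fpFst v π)) ∧ Function.Surjective (Points.map (FibCat.fpFst v π)) := by
  have hA := K744.AlgOver.isAlgStack_overCat T
  have hfp := isAlgStack_fp h𝒳 M π hA v
  obtain ⟨y, hy⟩ := exists_smCov_fp.{0} h𝒳 M π hqc hA (K906.isQuasiCompact_overCat hT) v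
  have hs := isFn_fp h𝒳 M hM π hqc hqs h hA.isStack.1 v (tmT T)
  have hex := exact_fp h𝒳 M hM π hqc hqs h.1 hA v (tmT T) hT
  exact ⟨UnivCl.isClosedMap_map hT (FibCat.fpFst v π) hfp.isStack.1 hs hex hy (chartCont_of_isAlgStack hfp),
    UnivCl.surjective_map hT (FibCat.fpFst v π) hfp.isStack.1 hs hex hy⟩

theorem exists_eq_map {𝒴 : BasedCategory.{v, w} (Over S)} (h𝒴 : FibCat.IsFibGrpd 𝒴.p) (m : Points 𝒴) :
    ∃ (T : Over S) (_ : IsAffine T.left) (x : FibCat.overCat T ⥤ᵇ 𝒴) (z : Points (FibCat.overCat T)),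
      Points.map x z = m := by
  obtain ⟨p, rfl⟩ := exists_rep m
  let T : Over S := 𝒴.p.obj p.obj
  have e : T ≅ Over.mk p.str := eqToIso p.lies
  have he := K906.Span.isIso_left e
  have haff : IsAffine T.left := by
    haveI : IsAffine (Over.mk p.str : Over S).left := inferInstanceAs (IsAffine (Spec _))
    exact IsAffine.of_isIso e.hom.left
  let x : FibCat.overCat T ⥤ᵇ 𝒴 := K735.Fp.yonF h𝒴 p.obj rfl
  let i : x.obj (Over.mk (𝟙 T)) ≅ p.obj := K735.Fp.yonFIso h𝒴 p.obj rfl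
  let g : sch 𝒴 p.obj ⟶ T.left := bmap 𝒴 i.inv ≫
    (eqToHom (x.w_obj (Over.mk (𝟙 T))) : 𝒴.p.obj (x.obj (Over.mk (𝟙 T))) ⟶ T).left
  refine ⟨T, haff, x, Points.ofChart (BasedFunctor.id _) (g (ptt p)), ?_⟩
  rw [← ofChart_eq_map, ofChart_eq h𝒴 x (g (ptt p)) (bmap 𝒴 i.inv (ptt p)) rfl]
  exact (mk_eq_pt h𝒴 p i.inv (ptt p)).symm

include h𝒳 hM hqc hqs in
/-- Good moduli spaces are surjective. -/
theorem isSurjective (h : IsGoodModuli π) : IsSurjective π := by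
  intro m
  obtain ⟨T, hT, x, z, rfl⟩ := exists_eq_map FibTerm.isFibGrpd_ofSp m
  obtain ⟨w, rfl⟩ := (isClosedMap_affine h𝒳 M hM π hqc hqs h hT x).2 z
  refine ⟨Points.map (FibCat.fpSnd x π) w, ?_⟩
  rw [← map_comp, ← map_comp]
  exact (map_congr (FibCat.fpIso x π) w).symm

include h𝒳 hM hqc hqs in
/-- Good moduli spaces are universally closed. -/
theorem isUnivClosed (h : IsGoodModuli π) : IsUnivClosed Scheme.fppfPrecoverage π := by
  have h𝒴 := K740.SpDM.isAlgStack_ofSp M.property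
  have hT : ∀ (T : Over S) (v : FibCat.overCat T ⥤ᵇ ofSp M.obj), IsClosedMap (Points.map (FibCat.fpFst v π)) := by
    intro T v
    refine K735.UnivClosedDvr.isClosedMap_of_local h𝒳.isStack.1 h𝒴.isStack.1 h𝒴.atlas π v
      (chartCont_of_isAlgStack (isAlgStack_fp h𝒳 M π (K744.AlgOver.isAlgStack_overCat T) v)) ?_
    intro R B _ _ _ sV y _
    exact (isClosedMap_affine h𝒳 M hM π hqc hqs h (inferInstanceAs (IsAffine (Spec (CommRingCat.of B)))) _).1
  intro 𝒵 h𝒵 g D hD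
  rw [← isOpen_compl_iff]
  intro T w _
  have h1 := K735.UnivClosedDvr.preimage_image_fp h𝒳.isStack.1 h𝒴.isStack.1 h𝒵.isStack.1 g π w D
  rw [Set.preimage_compl, h1, isOpen_compl_iff, ← K735.ClosedLim.isClosed_iff]
  exact hT T _ _ (hD.preimage (continuous_map (chartCont_of_isAlgStack (isAlgStack_fp h𝒳 M π h𝒵 g)) _))

end

end K907.GoodFp
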