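import Groth.Agent.StMod.K907.GM
import Groth.Agent.StMod.K906.PresQc
import Groth.Agent.AlgSt.K744.AlgOver
import Groth.Agent.CohqA.FinSec
import Groth.Prelude.Def_StMod3

/-!
# Good moduli spaces of locally noetherian stacks

Over `E` affine étale over `M`: a noetherian covering object of `𝒳_E`; sections of finite type modules are noetherian.
-/

set_option autoImplicit false
set_option linter.unusedVariables false
set_option linter.style.haveILetI false
set_option backward.isDefEq.respectTransparency false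
set_option backward.isDefEq.respectTransparency.types false

universe t w' v' w v u

open CategoryTheory CategoryTheory.Limits AlgebraicGeometry Opposite StMod AlgSt AlgSp

namespace K907.GM

open K906 K907.Sec K907.Atl K907.Free K907.Gen K907.Tens K907.QDesc K907.ResPt K907.Alg K734.Fib

section

variable {S : Scheme.{u}} {𝒳 : AlgSt.Cat S} {M : Sp S} (h𝒳 : IsAlgStack Scheme.fppfPrecoverage 𝒳)
  {π : 𝒳 ⥤ᵇ ofSp M} (E : EtOver M)

include h𝒳 in
theorem nonempty_pres (hqc : IsQuasiCompactMor Scheme.fppfPrecoverage π) (hqs : IsQuasiSeparatedMor π)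
    (hE : IsAffine E.obj.left.left) : Nonempty (Pres (fibCat π (etaOf E))) :=
  K906.nonempty_pres h𝒳.isStack.1 FibTerm.isFibGrpd_ofSp (K744.AlgOver.isAlgStack_overCat) hqc hqs hE

include h𝒳 in
theorem exists_noeth_chart (hN : SmoothLocally (fun T => IsLocallyNoetherian T) 𝒳) (P : Pres (fibCat π (etaOf E))) :
    ∃ y : (fibCat π (etaOf E)).obj, IsAffine (sch (fibCat π (etaOf E)) y) ∧ Cov1 y ∧
      IsNoetherianRing Γ(sch 𝒳 (FObj.pt y), ⊤) := by
  obtain ⟨U, x, h1, h2⟩ := h𝒳.atlas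
  obtain ⟨A, hA⟩ := Chart.exists_smAtlas_etale h𝒳.isStack.1 x h1 h2
  obtain ⟨y, hy, hc, j, d, hd⟩ := Chart.exists_chart h𝒳.isStack.1 π E A P
  refine ⟨y, hy, hc, ?_⟩
  obtain ⟨c, hc'⟩ := hA j
  haveI := hN U x h1
  haveI : IsLocallyNoetherian (sch 𝒳 (x.obj (one U))) := by
    haveI : IsIso (eqToHom (x.w_obj (one U)) : 𝒳.p.obj (x.obj (one U)) ⟶ U).left :=
      K906.Span.isIso_left (eqToIso (x.w_obj (one U)))
    exact isLocallyNoetherian_of_isOpenImmersion (eqToHom (x.w_obj (one U)) : 𝒳.p.obj (x.obj (one U)) ⟶ U).left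
  haveI : IsLocallyNoetherian (sch 𝒳 (A.Z j)) := LocallyOfFiniteType.isLocallyNoetherian (bmap 𝒳 c)
  haveI : IsLocallyNoetherian (sch 𝒳 (FObj.pt y)) := LocallyOfFiniteType.isLocallyNoetherian (bmap 𝒳 d)
  haveI : IsAffine (sch 𝒳 (FObj.pt y)) := hy
  exact IsLocallyNoetherian.component_noetherian ⟨⊤, isAffineOpen_top _⟩

include h𝒳 in
theorem isNoetherian_of_finType (hN : SmoothLocally (fun T => IsLocallyNoetherian T) 𝒳) (P : Pres (fibCat π (etaOf E)))
    (hu : UnitIsIso π) (hex : Exact (fibCat π (etaOf E))) (F : QCoh 𝒳) (hF : F.obj.IsFinType) :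
    IsNoetherian Γ(sch (ofSp M) (etaOf E), ⊤) (Mod.RelSect π F.obj (etaOf E)) := by
  obtain ⟨y, hy, hc, hn⟩ := exists_noeth_chart h𝒳 E hN P
  haveI := hn
  haveI : Module.Finite Γ(sch 𝒳 (FObj.pt y), ⊤) Γ(F.obj.obj (FObj.pt y), ⊤) :=
    Groth.Agent.CohqA.FinSec.finite_sections (@isAffineOpen_top _ hy) (F.property.2 _) (hF _)
  exact isNoetherian_relSect h𝒳.isStack.1 hu hex P hy hc inferInstance

include h𝒳 in
theorem isNoetherianRing_of_unitIsIso (hN : SmoothLocally (fun T => IsLocallyNoetherian T) 𝒳)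
    (P : Pres (fibCat π (etaOf E))) (hu : UnitIsIso π) (hex : Exact (fibCat π (etaOf E))) :
    IsNoetherianRing Γ(E.obj.left.left, ⊤) := by
  obtain ⟨y, hy, hc, hn⟩ := exists_noeth_chart h𝒳 E hN P
  have hn' : IsNoetherian Γ(sch 𝒳 (FObj.pt y), ⊤) Γ((OQ 𝒳).obj.obj (FObj.pt y), ⊤) := hn
  haveI h1 : IsNoetherian Γ(sch (ofSp M) (etaOf E), ⊤) (Mod.RelSect π (O 𝒳) (etaOf E)) :=
    isNoetherian_relSect h𝒳.isStack.1 hu hex P (F := OQ 𝒳) hy hc hn'
  have h2 : IsNoetherian Γ(sch (ofSp M) (etaOf E), ⊤) Γ(sch (ofSp M) (etaOf E), ⊤) :=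
    isNoetherian_of_injective (unitSect π (etaOf E)) (hu E).1
  exact h2

theorem isLocNoethSp_of (hM : IsAlgSpace M)
    (H : ∀ E : EtOver M, IsAffine E.obj.left.left → IsNoetherianRing Γ(E.obj.left.left, ⊤)) : IsLocNoethSp M := by
  obtain ⟨U, p, hp, hps⟩ := hM.atlas
  refine ⟨U, p, hp, hps, ⟨fun W => ?_⟩⟩
  let w : Over.mk (W.1.ι ≫ U.hom) ⟶ U := Over.homMk W.1.ι
  have hw : RepWith @Etale ((yon S).map w ≫ p) := by
    have : RepWith @Etale ((yon S).map w) := (repWith_yon_map_iff @Etale w).2 (inferInstanceAs (Etale W.1.ι))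
    exact (RepWith @Etale).comp_mem _ _ this hp
  have h3 : IsNoetherianRing Γ((W.1 : Scheme.{u}), ⊤) := H (EtOver.mk ((yon S).map w ≫ p) hw) W.2
  exact isNoetherianRing_of_ringEquiv _ W.1.topIso.commRingCatIsoToRingEquiv

end

end K907.GM
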