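import Groth.Agent.StMod.K907.FlatM
import Groth.Agent.StMod.K907.Noeth
import Groth.Agent.AlgSt.K735.Fp

/-!
# Flatness of good moduli spaces over the base
-/

set_option autoImplicit false
set_option linter.unusedVariables false
set_option linter.style.haveILetI false
set_option backward.isDefEq.respectTransparency false
set_option backward.isDefEq.respectTransparency.types false

universe t w' v' w v u

open CategoryTheory CategoryTheory.Limits AlgebraicGeometry Opposite StMod AlgSt AlgSp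

namespace K907.GM

open K906 K906.Span K907.Sec K907.Atl K907.Free K907.Gen K907.Tens K907.QDesc K907.ResPt K907.Alg K734.Fib

variable {S : Scheme.{u}}

theorem smooth_hom_of_rep {V : Over S} (y : FibCat.overCat V ⥤ᵇ FibCat.selfOver (Over S))
    (hy : RepByAlgSpWith (LocP @Smooth) y) : Smooth V.hom := by
  let θ : (FibCat.selfOver (Over S)).obj := y.obj (one V)
  let ζ : (FibCat.selfOver (Over S)).obj := Over.mk (𝟙 S)
  let p : θ ⟶ ζ := (Over.homMk (show Over S from θ).hom (Category.comp_id _) : (show Over S from θ) ⟶ Over.mk (𝟙 S))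
  have H : SpanWith @Etale p (𝟙 θ) := by
    intro χ a b
    refine ⟨χ, b, 𝟙 χ, ⟨?_, ?_, ?_⟩, ?_⟩
    · have : Subsingleton ((show Over S from χ) ⟶ Over.mk (𝟙 S)) :=
        ⟨fun f g => Over.OverMorphism.ext (by
          have h1 := Over.w f
          have h2 := Over.w g
          exact (Category.comp_id _).symm.trans (h1.trans (h2.symm.trans (Category.comp_id _))))⟩
      exact this.elim _ _
    · rw [Category.comp_id, Category.id_comp]
    · intro ρ k' l' h1 h2
      refine ⟨l', ⟨?_, Category.comp_id _⟩, fun u hu => ?_⟩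
      · rw [← h2, Category.comp_id]
      · rw [← hu.2, Category.comp_id]
    · rw [bmap_id]
      infer_instance
  have h1 : Smooth (bmap _ p) := Span.smooth_of_spanWith K735.Fp.isFibGrpd_selfOver hy H
  have h2 : Smooth (show Over S from θ).hom := h1
  have e : V ≅ (show Over S from θ) := eqToIso (y.w_obj (one V)).symm
  rw [← Over.w e.hom]
  haveI := Span.isIso_left e
  infer_instance

theorem exists_flat_chart {𝒳 : AlgSt.Cat S} (hfl : LocQ (LocP @Flat) (FibCat.toSelf 𝒳)) :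
    ∃ (U : Over S) (x : FibCat.overCat U ⥤ᵇ 𝒳), RepByAlgSpWith (LocP @Smooth) x ∧
      RepByAlgSpWith IsSurjectiveMor x ∧ Flat U.hom := by
  obtain ⟨U, V, x, y, h, α, h1, h2, h3, h4⟩ := hfl
  refine ⟨U, x, h1, h2, ?_⟩
  have h5 : Flat h.left := locP_yon_map h4
  have h6 := smooth_hom_of_rep y h3
  rw [← Over.w h]
  infer_instance

section

variable {𝒳 : AlgSt.Cat S} {M : Sp S} (h𝒳 : IsAlgStack Scheme.fppfPrecoverage 𝒳) {π : 𝒳 ⥤ᵇ ofSp M}

include h𝒳 in
theorem exists_flat_cov {U : Over S} (x : FibCat.overCat U ⥤ᵇ 𝒳) (h1 : RepByAlgSpWith (LocP @Smooth) x)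
    (h2 : RepByAlgSpWith IsSurjectiveMor x) (hU : Flat U.hom) (E : EtOver M) (P : Pres (fibCat π (etaOf E))) :
    ∃ y : (fibCat π (etaOf E)).obj, IsAffine (sch (fibCat π (etaOf E)) y) ∧ Cov1 y ∧
      Flat (𝒳.p.obj (FObj.pt y)).hom := by
  obtain ⟨A, hA⟩ := Chart.exists_smAtlas_etale h𝒳.isStack.1 x h1 h2
  obtain ⟨y, hy, hc, j, d, hd⟩ := Chart.exists_chart h𝒳.isStack.1 π E A P
  refine ⟨y, hy, hc, ?_⟩
  obtain ⟨c, hc'⟩ := hA j
  have e : 𝒳.p.obj (x.obj (one U)) ≅ U := eqToIso (x.w_obj (one U))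
  haveI := Span.isIso_left e
  have h3 : Flat (𝒳.p.obj (x.obj (one U))).hom := by
    rw [← Over.w e.hom]
    infer_instance
  have h4 : Flat (𝒳.p.obj (A.Z j)).hom := by
    rw [← Over.w (𝒳.p.map c)]
    have : Flat (𝒳.p.map c).left := inferInstanceAs (Flat (bmap 𝒳 c))
    infer_instance
  rw [← Over.w (𝒳.p.map d)]
  have : Flat (𝒳.p.map d).left := inferInstanceAs (Flat (bmap 𝒳 d))
  infer_instance

include h𝒳 in
theorem flat_hom (hfl : LocQ (LocP @Flat) (FibCat.toSelf 𝒳)) (hu : UnitIsIso π)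
    (H : ∀ E : EtOver M, IsAffine E.obj.left.left → Exact (fibCat π (etaOf E)) ∧ Nonempty (Pres (fibCat π (etaOf E))))
    (E : EtOver M) : Flat E.obj.left.hom := by
  obtain ⟨U, x, h1, h2, hU⟩ := exists_flat_chart hfl
  rw [HasRingHomProperty.iff_appLE (P := @Flat)]
  intro T W e
  -- the object `W ⟶ M`
  let w : Over.mk (W.1.ι ≫ E.obj.left.hom) ⟶ E.obj.left := Over.homMk W.1.ι
  have hw : RepWith @Etale ((yon S).map w ≫ E.obj.hom) := by
    have : RepWith @Etale ((yon S).map w) := (repWith_yon_map_iff @Etale w).2 (inferInstanceAs (Etale W.1.ι))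
    exact (RepWith @Etale).comp_mem _ _ this E.property
  let E' : EtOver M := EtOver.mk ((yon S).map w ≫ E.obj.hom) hw
  obtain ⟨hex, ⟨P⟩⟩ := H E' W.2
  obtain ⟨y, hy, hc, hyS⟩ := exists_flat_cov h𝒳 x h1 h2 hU E' P
  have e' : (⊤ : (W.1 : Scheme.{u}).Opens) ≤ (W.1.ι ≫ E.obj.left.hom) ⁻¹ᵁ T.1 := fun a _ => e a.2
  have h3 : ((W.1.ι ≫ E.obj.left.hom).appLE T ⊤ e').hom.Flat := by
    refine flat_of_flat (fn π E') (isFibGrpd_fibCat h𝒳.isStack.1) (isFn π E' hu) hex P hy hc
      ((W.1.ι ≫ E.obj.left.hom).appLE T ⊤ e').hom ?_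
    have h4 : (fbase y).left ≫ W.1.ι ≫ E.obj.left.hom = (𝒳.p.obj (FObj.pt y)).hom := Over.w (fbase y)
    have h5 := HasRingHomProperty.appLE (P := @Flat) ((fbase y).left ≫ W.1.ι ≫ E.obj.left.hom) (by rw [h4]; exact hyS) T
      (⟨⊤, @isAffineOpen_top _ hy⟩ : (sch 𝒳 (FObj.pt y)).affineOpens) (fun a _ => e' (Set.mem_univ _))
    have h6 : ((fbase y).left ≫ W.1.ι ≫ E.obj.left.hom).appLE T ⊤ (fun a _ => e' (Set.mem_univ _)) =
        (W.1.ι ≫ E.obj.left.hom).appLE T ⊤ e' ≫ (fbase y).left.appTop := by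
      rw [← Scheme.Hom.appLE_comp_appLE (fbase y).left (W.1.ι ≫ E.obj.left.hom) T ⊤ ⊤ e' le_top]
      congr 1
      simp [Scheme.Hom.appLE]
    rw [h6] at h5
    exact h5
  have h7 : (W.1.ι ≫ E.obj.left.hom).appLE T ⊤ e' = E.obj.left.hom.appLE T W e ≫ W.1.topIso.inv := by
    rw [← Scheme.Hom.appLE_comp_appLE W.1.ι E.obj.left.hom T W ⊤ e (fun a _ => a.2), Scheme.Opens.ι_appLE]
    rfl
  have h8 : E.obj.left.hom.appLE T W e = (W.1.ι ≫ E.obj.left.hom).appLE T ⊤ e' ≫ W.1.topIso.hom := by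
    rw [h7, Category.assoc, Iso.inv_hom_id, Category.comp_id]
  rw [h8]
  exact RingHom.Flat.comp h3 (RingHom.Flat.of_bijective (ConcreteCategory.bijective_of_isIso W.1.topIso.hom))

/-- cancellation of flatness by étale morphisms. -/
theorem flat_of_comp_etale {X Y Z : Scheme.{u}} (f : X ⟶ Y) (g : Y ⟶ Z) (hg : Etale g) (h : Flat (f ≫ g)) : Flat f :=
  haveI : MorphismProperty.HasOfPostcompProperty @Flat @Etale :=
    MorphismProperty.hasOfPostcompProperty_iff_le_diagonal.mpr fun _ _ k _ => inferInstanceAs (Flat (pullback.diagonal k))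
  MorphismProperty.of_postcomp @Flat f g hg h

include h𝒳 in
theorem locP_flat (hfl : LocQ (LocP @Flat) (FibCat.toSelf 𝒳)) (hu : UnitIsIso π)
    (H : ∀ E : EtOver M, IsAffine E.obj.left.left → Exact (fibCat π (etaOf E)) ∧ Nonempty (Pres (fibCat π (etaOf E))))
    (q : M ⟶ (yon S).obj (Over.mk (𝟙 S))) : LocP @Flat q := by
  intro U V a b h ha hb hab
  have h1 : Flat U.hom := flat_hom h𝒳 hfl hu H (EtOver.mk a ha)
  have h2 : Etale V.hom := by
    have h3 := (repWith_yon_map_iff @Etale ((yon S).preimage b)).1 (by rw [(yon S).map_preimage]; exact hb)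
    have h4 := Over.w ((yon S).preimage b)
    rw [← h4]
    exact MorphismProperty.comp_mem @Etale _ _ h3 (inferInstanceAs (Etale (𝟙 S)))
  refine flat_of_comp_etale h.left V.hom h2 ?_
  rw [Over.w h]
  exact h1

end

end K907.GM
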