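import Groth.Agent.StMod.K907.GoodFp

/-!
# Fibres of good moduli spaces are connected
-/

set_option autoImplicit false
set_option linter.unusedVariables false
set_option linter.style.haveILetI false
set_option backward.isDefEq.respectTransparency false
set_option backward.isDefEq.respectTransparency.types false

universe t w' v' w v u

open CategoryTheory CategoryTheory.Limits AlgebraicGeometry Opposite StMod AlgSt AlgSp

namespace K907.Conn

open K907.Free K907.Sec K907.Atl K907.Tens K907.Pt K907.Van K907.Closed K907.ClosedPt K907.TermE K907.Rows K907.UnivCl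
open K735.PtsSp K735.Pts K735.Top K906.SpGeo

section Abstract

variable {S : Scheme.{u}} {𝒳 : BasedCategory.{v, w} (Over S)} {A : Type u} [CommRing A] (s : Fn A 𝒳)

/-- Separation of disjoint closed sets by a function. -/
theorem exists_fn (h : FibCat.IsFibGrpd 𝒳.p) (hs : IsFn s) (hex : Free.Exact 𝒳) {y : 𝒳.obj}
    (hy : SmCov (fun _ : PUnit.{t + 1} => y)) {W₁ W₂ : Set (Points 𝒳)} (h₁ : IsCl h W₁) (h₂ : IsCl h W₂)
    (hd : Disjoint W₁ W₂) : ∃ f : A, (∀ t : ↥(sch 𝒳 y), pt h y t ∈ W₁ → s.σ y f ∈ (sp t).asIdeal) ∧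
      (∀ t : ↥(sch 𝒳 y), pt h y t ∈ W₂ → s.σ y (1 - f) ∈ (sp t).asIdeal) := by
  obtain ⟨Q, q, e, hq, he⟩ := exists_sep h hy h₁ h₂ hd
  obtain ⟨g, hg⟩ := hex q hq e
  obtain ⟨f, rfl⟩ := hs.2 g
  have h1 := he y (hy.aff ⟨⟩) (s.σ y f) (congrArg (fun k : Q.obj.GlobSect => k.1 y) hg)
  refine ⟨f, h1.1, fun t ht => ?_⟩
  rw [map_sub, map_one]
  exact h1.2 t ht

theorem eq_empty_or_univ (h : FibCat.IsFibGrpd 𝒳.p) (hs : IsFn s) (hex : Free.Exact 𝒳) {y : 𝒳.obj}
    (hy : SmCov (fun _ : PUnit.{t + 1} => y)) (hA : ∀ a : A, a = 0 ∨ IsUnit a) {W : Set (Points 𝒳)} (h₁ : IsCl h W)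
    (h₂ : IsCl h Wᶜ) : W = ∅ ∨ W = Set.univ := by
  by_contra hn
  rw [not_or] at hn
  obtain ⟨z₁, hz₁⟩ := Set.nonempty_iff_ne_empty.2 hn.1
  obtain ⟨z₂, hz₂⟩ := (Set.ne_univ_iff_exists_notMem W).1 hn.2
  obtain ⟨t₁, rfl⟩ := exists_eq_pt h hy z₁
  obtain ⟨t₂, rfl⟩ := exists_eq_pt h hy z₂
  obtain ⟨f, hf₁, hf₂⟩ := exists_fn s h hs hex hy h₁ h₂ disjoint_compl_right
  rcases hA f with rfl | hf
  · have h3 := hf₂ t₂ hz₂
    rw [sub_zero, map_one] at h3
    exact (sp t₂).isPrime.ne_top ((Ideal.eq_top_iff_one _).2 h3)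
  · have h3 := hf₁ t₁ hz₁
    exact (sp t₁).isPrime.ne_top (Ideal.eq_top_of_isUnit_mem _ h3 (hf.map _))

theorem connectedSpace (h : FibCat.IsFibGrpd 𝒳.p) (hs : IsFn s) (hex : Free.Exact 𝒳) {y : 𝒳.obj}
    (hy : SmCov (fun _ : PUnit.{t + 1} => y)) (hA : ∀ a : A, a = 0 ∨ IsUnit a) [Nontrivial A] (hc : ChartCont 𝒳) :
    ConnectedSpace (Points 𝒳) := by
  have hne : Nonempty (Points 𝒳) := by
    have haff : IsAffine (sch 𝒳 y) := hy.aff ⟨⟩
    haveI : Nontrivial Γ(sch 𝒳 y, ⊤) := (fn_injective s h hs (cov1_of_smCov hy)).nontrivial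
    obtain ⟨P⟩ : Nonempty (PrimeSpectrum Γ(sch 𝒳 y, ⊤)) := inferInstance
    obtain ⟨x, -⟩ := (sp_bijective (X := sch 𝒳 y)).2 P
    exact ⟨pt h y x⟩
  have : PreconnectedSpace (Points 𝒳) := by
    rw [preconnectedSpace_iff_clopen]
    intro W hW
    exact eq_empty_or_univ s h hs hex hy hA (isCl_of_isClosed h hc hW.1) (isCl_of_isClosed h hc hW.2.isClosed_compl)
  exact ⟨hne⟩

end Abstract

section TermSp

variable {S : Scheme.{u}} (T : Over S)

/-- The terminal object of the category of a representable sheaf. -/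
noncomputable def τSp : (ofSp ((yon S).obj T)).obj := ⟨T, (J S).uliftYonedaEquiv (𝟙 _)⟩

theorem toMap_τSp : toMap (τSp T) = 𝟙 _ := toMap_mk _

/-- It is terminal. -/
@[reducible] noncomputable def tmSp (y : (ofSp ((yon S).obj T)).obj) : Unique (y ⟶ τSp T) where
  default := homMk ((yon S).preimage (toMap y)) (by
    rw [toMap_τSp, Category.comp_id, Functor.map_preimage])
  uniq f := by
    have h1 : ∀ f : y ⟶ τSp T, (yon S).map f.hom = toMap y := fun f => by
      have h2 := toMap_comp f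
      rw [toMap_τSp, Category.comp_id] at h2
      exact h2
    exact Stk.EltObj.Hom.ext ((yon S).map_injective ((h1 f).trans (h1 _).symm))

end TermSp

end K907.Conn
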