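import Groth.Agent.StMod.K907.Qc
import Groth.Agent.StMod.K908.AffPush
import Groth.Agent.AlgSt.K743.DiagBC
import Groth.Agent.AlgSt.K735.Top
import Groth.Agent.AlgSp.K597.Affine
import Groth.Agent.AlgSp.K604.LimAffY
import Groth.Agent.S17522

/-!
# Cancellation for cohomologically affine morphisms to algebraic spaces

* `repByAlgSpWith_diag_ofSpMap`: the diagonal of `ofSpMap g` from the diagonal of `g`.
* `isCohAffine_of_comp`.
-/

set_option autoImplicit false
set_option linter.unusedVariables false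
set_option linter.style.haveILetI false
set_option backward.isDefEq.respectTransparency false
set_option backward.isDefEq.respectTransparency.types false

universe v' w' v w u

open CategoryTheory CategoryTheory.Limits AlgebraicGeometry Opposite StMod AlgSt AlgSp

namespace K907.Graph

variable {S : Scheme.{u}} {M N : AlgSp.Sp S}

theorem subsingleton_hom_of_vert {F : AlgSp.Sp S} {a b : (ofSp F).obj} (f g : a ⟶ b) (h : f.hom = g.hom) : f = g :=
  Stk.EltObj.hom_ext h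

/-- The 2-isomorphism comparing the diagonal of `ofSpMap g` with the diagonal of `g`. -/
theorem nonempty_diagIso (g : M ⟶ N) : Nonempty (BasedFunctor.comp (ofSpMap (pullback.diagonal g))
    (K735.SpFp.theta (IsPullback.of_hasPullback g g).w) ≅
      BasedFunctor.comp (BasedFunctor.id (ofSp M)) (FibCat.diag (ofSpMap g))) := by
  have e1 : BasedFunctor.comp (BasedFunctor.comp (ofSpMap (pullback.diagonal g))
      (K735.SpFp.theta (IsPullback.of_hasPullback g g).w)) (FibCat.fpFst _ _) =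
      ofSpMap (pullback.diagonal g ≫ pullback.fst g g) := rfl
  have e2 : BasedFunctor.comp (BasedFunctor.comp (ofSpMap (pullback.diagonal g))
      (K735.SpFp.theta (IsPullback.of_hasPullback g g).w)) (FibCat.fpSnd _ _) =
      ofSpMap (pullback.diagonal g ≫ pullback.snd g g) := rfl
  have h1 : ofSpMap (pullback.diagonal g ≫ pullback.fst g g) = ofSpMap (𝟙 M) := by rw [pullback.diagonal_fst]
  have h2 : ofSpMap (pullback.diagonal g ≫ pullback.snd g g) = ofSpMap (𝟙 M) := by rw [pullback.diagonal_snd]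
  let i0 : ofSpMap (𝟙 M) ≅ BasedFunctor.id (ofSp M) := Iso.refl _
  refine ⟨K734.Fib.liftExt (eqToIso (e1.trans h1) ≪≫ i0) (eqToIso (e2.trans h2) ≪≫ i0) fun x => ?_⟩
  have v1 := ((K734.Fib.app_vert (eqToIso (e1.trans h1) ≪≫ i0) x).map (ofSpMap g)).comp
    (K734.Fib.iso_vert ((BasedFunctor.comp (BasedFunctor.id (ofSp M)) (FibCat.diag (ofSpMap g))).obj x))
  have v2 := (K734.Fib.iso_vert ((BasedFunctor.comp (ofSpMap (pullback.diagonal g))
    (K735.SpFp.theta (IsPullback.of_hasPullback g g).w)).obj x)).comp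
    ((K734.Fib.app_vert (eqToIso (e2.trans h2) ≪≫ i0) x).map (ofSpMap g))
  exact Stk.EltObj.hom_ext (v1.map_eq.trans v2.map_eq.symm)

theorem isAffineMor_eq : (IsAffineMor (S := S)) = RepWith @IsAffineHom := by
  funext X Y f
  exact propext K597.Affine.isAffineMor_iff

instance isAffineMor_respectsIso : (IsAffineMor (S := S)).RespectsIso := by
  rw [isAffineMor_eq]
  infer_instance

/-- The diagonal of `ofSpMap g` has the property of the diagonal of `g`. -/
theorem repByAlgSpWith_diag_ofSpMap {g : M ⟶ N} (hg : IsAffineMor (pullback.diagonal g)) :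
    RepByAlgSpWith IsAffineMor (FibCat.diag (ofSpMap g)) := by
  obtain ⟨i⟩ := nonempty_diagIso g
  refine (K735.Rep.repByAlgSpWith_iff_of_sq IsAffineMor (FibCat.diag (ofSpMap g)) (ofSpMap (pullback.diagonal g))
    (BasedFunctor.id _) (K735.SpFp.theta (IsPullback.of_hasPullback g g).w) K735.Fib.isEquivOver_id
    (K735.SpFp.isEquivOver_theta (IsPullback.of_hasPullback g g)) i).2 ?_
  exact K735.Top.repByAlgSpWith_ofSpMap_of_repWith (P := @IsAffineHom)
    (fun _ _ _ h => K597.Affine.isAffineMor_iff.2 h) (K597.Affine.isAffineMor_iff.1 hg)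

/-- The graph `𝒳 ⟶ 𝒵 ×_𝒯 𝒳` of `f : 𝒳 ⟶ 𝒵`. -/
def gr {𝒳 𝒵 𝒯 : AlgSt.Cat S} (f : 𝒳 ⥤ᵇ 𝒵) (q : 𝒵 ⥤ᵇ 𝒯) : 𝒳 ⥤ᵇ FibCat.fp q (BasedFunctor.comp f q) :=
  FibCat.fpLift f (BasedFunctor.id 𝒳) (Iso.refl _)

theorem repByAlgSpWith_gr {𝒳 𝒵 𝒯 : AlgSt.Cat S} (f : 𝒳 ⥤ᵇ 𝒵) (q : 𝒵 ⥤ᵇ 𝒯) {P : MorphismProperty (AlgSp.Sp S)}
    (h : RepByAlgSpWith P (FibCat.diag q)) : RepByAlgSpWith P (gr f q) := by
  have h1 := K743.DiagBC.repByAlgSpWith_graph (BasedFunctor.comp f q) q f (Iso.refl _) h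
  exact K735.Rep.repByAlgSpWith_of_sq P _ (gr f q) (BasedFunctor.id _)
    (K735.Fp.fpSwap q (BasedFunctor.comp f q)) K735.Fib.isEquivOver_id (K735.Fp.isEquivOver_fpSwap _ _) (Iso.refl _) h1

/-- Cancellation. -/
theorem isCohAffine_of_comp [QuasiSeparatedSpace S] {𝒳 : AlgSt.Cat S} (h𝒳 : IsAlgStack Scheme.fppfPrecoverage 𝒳)
    (M N : Space S) (hM : IsQuasiSeparatedSp M.obj) (hN : IsQuasiSeparatedSp N.obj)
    (f : 𝒳 ⥤ᵇ ofSp M.obj) (g : M.obj ⟶ N.obj) (hg : IsAffineMor (pullback.diagonal g))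
    (hqc : IsQuasiCompactMor Scheme.fppfPrecoverage (BasedFunctor.comp f (ofSpMap g)))
    (hqs : IsQuasiSeparatedMor (BasedFunctor.comp f (ofSpMap g)))
    (h : IsCohAffine (BasedFunctor.comp f (ofSpMap g))) :
    IsCohAffine f ∧ IsQuasiCompactMor Scheme.fppfPrecoverage f := by
  have hAM := K740.SpDM.isAlgStack_ofSp M.property
  have hAN := K740.SpDM.isAlgStack_ofSp N.property
  have h𝒫 : IsAlgStack Scheme.fppfPrecoverage (FibCat.fp (ofSpMap g) (BasedFunctor.comp f (ofSpMap g))) :=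
    K734.Rep.isAlgStack_fp (K734.Rep.isPrestack_of_isStack hAN.isStack) hAN.diag hAM h𝒳 _ _
  have hgr := repByAlgSpWith_gr f (ofSpMap g) (repByAlgSpWith_diag_ofSpMap hg)
  have h1 := Groth.Agent.S17522.result S 𝒳 h𝒳 N M hN hM g (BasedFunctor.comp f (ofSpMap g)) hqc hqs h𝒫 h
  haveI := h𝒫.isStack.1
  haveI := h𝒳.isStack.1
  constructor
  · exact K908.AffPush.isCohAffine_comp (gr f (ofSpMap g)) (K908.Aff.isAff_of_repByAlgSpWith h𝒫.isStack.1 _ hgr) _ h1
  · exact K742.QC.isQuasiCompactMor_comp h𝒳 h𝒫 hAM (gr f (ofSpMap g)) (FibCat.fpFst _ _)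
      (Qc.isQuasiCompactMor_of_repByAlgSpWith_isAffineMor hgr _)
      (K742.QC.isQuasiCompactMor_fpFst h𝒳 hAN hAM _ _ hqc)

end K907.Graph
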