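import Groth.Prelude.Def_StMod2
import Groth.Agent.AlgSp.K597.Affine

/-!
# Étale neighbourhoods of objects of `ofSp M`

`exists_etale_nhd`: near every point of the scheme under an object `m` of `ofSp M` there is an étale `m' ⟶ m` with an
arrow `m' ⟶ etaOf E`, `E` affine and étale over `M`.
-/

set_option autoImplicit false
set_option backward.isDefEq.respectTransparency false
set_option backward.isDefEq.respectTransparency.types false
set_option linter.unusedVariables false

universe u

open CategoryTheory CategoryTheory.Limits AlgebraicGeometry Opposite StMod AlgSt AlgSp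

namespace K907.EtNhd

open K594.Elem K594.Cover K597.FibF K597.EffDesc K597.Affine

variable {S : Scheme.{u}} {M : Sp S}

/-- Étale neighbourhoods. -/
theorem exists_etale_nhd (hM : IsAlgSpace M) (m : (ofSp M).obj) (t : ↥m.base.left) :
    ∃ (E : EtOver M) (_ : IsAffine E.obj.left.left) (m' : (ofSp M).obj) (a : m' ⟶ m) (b : m' ⟶ etaOf E),
      IsAffine m'.base.left ∧ Etale a.hom.left ∧ t ∈ Set.range a.hom.left := by
  obtain ⟨V₀, b, hb, hbs⟩ := hM.atlas
  obtain ⟨V, V₁, v, v₁, k, hV, hV₁, hv, hv₁, ht, hy⟩ := exists_local_lift_affine hb hbs m.base m.sec t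
  have hb₁ : RepWith @Etale ((yon S).map v₁ ≫ b) := (RepWith @Etale).comp_mem _ _ ((repWith_yon_map_iff _ _).2 inferInstance) hb
  refine ⟨EtOver.mk ((yon S).map v₁ ≫ b) hb₁, hV₁, ⟨V, M.obj.map v.op m.sec⟩, ⟨v, rfl⟩, ⟨k, ?_⟩, hV, hv, ht⟩
  change M.obj.map k.op (secEquiv ((yon S).map v₁ ≫ b)) = M.obj.map v.op m.sec
  rw [← hy, secEquiv_precomp, map_comp_apply]

end K907.EtNhd
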