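import Groth.Agent.StMod.K907.GM
import Mathlib.RingTheory.Flat.EquationalCriterion

/-!
# Purity at a covering object and flatness of the ring of functions

* `mem_span_of_cov1` : membership in the span of global sections may be tested at a covering object;
* `exists_linComb'` : purity tested at a covering object;
* `IsFree.exists_sec` : vectors define global sections of free modules;
* `flat_of_flat` : if `R → A → Γ(y)` is flat for a covering object `y` then `R → A` is flat.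
-/

set_option autoImplicit false
set_option linter.unusedVariables false
set_option linter.style.haveILetI false
set_option backward.isDefEq.respectTransparency false
set_option backward.isDefEq.respectTransparency.types false

universe t w' v' w v u

open CategoryTheory CategoryTheory.Limits AlgebraicGeometry Opposite StMod AlgSt AlgSp

namespace K907.Free

open K907.Sec K907.Atl K907.QDesc K907.Quot K907.Tens K907.Gen K907.Alg K908.AMod K908.Fam K908.Ext K908.QSec K908.QHom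

variable {S : Scheme.{u}} {𝒳 : BasedCategory.{v, w} (Over S)}

theorem mem_span_of_cov1 {y : 𝒳.obj} (hy : IsAffine (sch 𝒳 y)) (hc : Cov1 y) (G : QCoh 𝒳) {ι : Type u}
    (t : ι → G.obj.GlobSect) (x : G.obj.GlobSect)
    (hx : x.1 y ∈ Submodule.span Γ(sch 𝒳 y, ⊤) (Set.range fun i => (t i).1 y)) {z : 𝒳.obj}
    (hz : IsAffine (sch 𝒳 z)) : x.1 z ∈ Submodule.span Γ(sch 𝒳 z, ⊤) (Set.range fun i => (t i).1 z) := by
  obtain ⟨ζ', f, d, hζ', hf⟩ := hc z hz
  let K : ∀ z : 𝒳.obj, Submodule Γ(sch 𝒳 z, ⊤) Γ(G.obj.obj z, ⊤) := fun z =>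
    Submodule.span _ (Set.range fun i => (t i).1 z)
  have hpull : ∀ {z' z : 𝒳.obj} (φ : z' ⟶ z), pull (F := G) φ (K z) = K z' := by
    intro z' z φ
    apply le_antisymm
    · unfold pull
      rw [ext_le]
      intro a ha
      induction ha using Submodule.span_induction with
      | mem a ha =>
        obtain ⟨i, rfl⟩ := ha
        refine Submodule.subset_span ⟨i, ?_⟩
        exact ((t i).2 φ).symm
      | zero => rw [map_zero]; exact Submodule.zero_mem _
      | add a b _ _ ha hb => rw [map_add]; exact Submodule.add_mem _ ha hb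
      | smul r a _ ha => rw [resTop_smul]; exact Submodule.smul_mem _ _ ha
    · rw [Submodule.span_le]
      rintro _ ⟨i, rfl⟩
      have := mem_pull (F := G) φ (N := K z) (x := (t i).1 z) (Submodule.subset_span ⟨i, rfl⟩)
      rw [(t i).2 φ] at this
      exact this
  have h2 : x.1 ζ' ∈ K ζ' := by
    rw [← hpull d, ← x.2 d]
    exact mem_pull (F := G) d hx
  rw [← hpull f, ← x.2 f] at h2
  haveI := hζ'
  exact (mem_pull_iff (F := G) f hf).1 h2

variable {A : Type u} [CommRing A] (s : Fn A 𝒳)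

/-- Purity tested at a covering object. -/
theorem exists_linComb' (h𝒳 : FibCat.IsFibGrpd 𝒳.p) (hs : IsFn s) (hex : Exact 𝒳) (P : K906.Pres 𝒳) {y : 𝒳.obj}
    (hy : IsAffine (sch 𝒳 y)) (hc : Cov1 y) (F : QCoh 𝒳) {ι : Type u} (t : ι → F.obj.GlobSect)
    (x : F.obj.GlobSect) (hx : x.1 y ∈ Submodule.span Γ(sch 𝒳 y, ⊤) (Set.range fun i => (t i).1 y)) :
    ∃ c : ι →₀ A, ∀ z : 𝒳.obj, IsAffine (sch 𝒳 z) →
      x.1 z = c.sum (fun i a => (s.σ z a : Γ(sch 𝒳 z, ⊤)) • (t i).1 z) :=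
  exists_linComb s h𝒳 hs hex (smCov_of_pres.{0} P) (Chart.cov1_of_pres P) F t x
    (mem_span_of_cov1 hy hc F t x hx P.affζ)

/-- Vectors define global sections of free modules. -/
theorem IsFree.exists_sec (h𝒳 : FibCat.IsFibGrpd 𝒳.p) {ι : Type u} {Q : QCoh 𝒳} (a : IsFree ι Q.obj) (v : ι →₀ A) :
    ∃ y : Q.obj.GlobSect, ∀ (x : 𝒳.obj) (hx : IsAffine (sch 𝒳 x)) (i : ι), a.e x hx (y.1 x) i = s.σ x (v i) := by
  haveI := h𝒳
  obtain ⟨g, hg⟩ := exists_globSect (C := ASieve.all 𝒳) zloc_all Q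
    (fun z => (a.e z.obj z.property).symm (v.mapRange (s.σ z.obj) (map_zero _))) (fun z' z φ => by
      apply (a.e z'.obj z'.property).injective
      ext i
      rw [a.comm φ.hom z'.property z.property, LinearEquiv.apply_symm_apply, LinearEquiv.apply_symm_apply,
        Finsupp.mapRange_apply, Finsupp.mapRange_apply]
      exact congrArg (fun k : A →+* _ => k (v i)) (s.comm φ.hom))
  refine ⟨g, fun x hx i => ?_⟩
  have h1 := hg ⟨x, hx⟩
  change g.1 x = _ at h1
  rw [h1]
  exact (congrArg (fun k : ι →₀ Γ(sch 𝒳 x, ⊤) => k i) (LinearEquiv.apply_symm_apply (a.e x hx) _)).trans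
    (Finsupp.mapRange_apply)

theorem fn_injective (h𝒳 : FibCat.IsFibGrpd 𝒳.p) (hs : IsFn s) {y : 𝒳.obj} (hc : Cov1 y) :
    Function.Injective (s.σ y) := by
  intro a b hab
  apply hs.1
  refine globSect_ext_aff h𝒳 (OQ 𝒳) fun x hx => ?_
  exact hc.ext (OQ 𝒳) (a := fnSec s a) (b := fnSec s b) hab x hx

/-- Flatness of the functions over a base ring. -/
theorem flat_of_flat (h𝒳 : FibCat.IsFibGrpd 𝒳.p) (hs : IsFn s) (hex : Exact 𝒳) (P : K906.Pres 𝒳) {y : 𝒳.obj}
    (hy : IsAffine (sch 𝒳 y)) (hc : Cov1 y) {R : Type u} [CommRing R] (ρ : R →+* A)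
    (hρ : ((s.σ y).comp ρ).Flat) : ρ.Flat := by
  letI : Algebra R A := ρ.toAlgebra
  letI : Algebra R Γ(sch 𝒳 y, ⊤) := ((s.σ y).comp ρ).toAlgebra
  haveI : Module.Flat R Γ(sch 𝒳 y, ⊤) := hρ
  change Module.Flat R A
  refine Module.Flat.of_forall_isTrivialRelation fun {l f x} h0 => ?_
  have h1 : ∑ i, f i • (s.σ y (x i) : Γ(sch 𝒳 y, ⊤)) = 0 := by
    have h2 := congrArg (s.σ y) h0
    rw [map_zero, map_sum] at h2
    rw [← h2]
    refine Finset.sum_congr rfl fun i _ => ?_
    change s.σ y (ρ (f i)) * s.σ y (x i) = s.σ y (ρ (f i) * x i)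
    rw [map_mul]
  obtain ⟨k, a, b, hb, hf⟩ := Module.Flat.isTrivialRelation_of_sum_smul_eq_zero h1
  obtain ⟨Q, ⟨e⟩⟩ := exists_free h𝒳 (ULift.{u} (Fin l))
  choose sec hsec using fun v : ULift.{u} (Fin l) →₀ A => e.exists_sec s h𝒳 v
  let X : Q.obj.GlobSect := sec (Finsupp.equivFunOnFinite.symm fun i => x i.down)
  let t : ULift.{u} (Fin k) → Q.obj.GlobSect := fun j =>
    sec (Finsupp.equivFunOnFinite.symm fun i => ρ (a i.down j.down))
  have hX : ∀ (z : 𝒳.obj) (hz : IsAffine (sch 𝒳 z)) (i : ULift.{u} (Fin l)), e.e z hz (X.1 z) i = s.σ z (x i.down) :=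
    fun z hz i => hsec _ z hz i
  have ht : ∀ (z : 𝒳.obj) (hz : IsAffine (sch 𝒳 z)) (j : ULift.{u} (Fin k)) (i : ULift.{u} (Fin l)),
      e.e z hz ((t j).1 z) i = s.σ z (ρ (a i.down j.down)) := fun z hz j i => hsec _ z hz i
  obtain ⟨c, hc'⟩ := exists_linComb' s h𝒳 hs hex P hy hc Q t X (by
    have h3 : X.1 y = ∑ j : ULift.{u} (Fin k), b j.down • (t j).1 y := by
      apply (e.e y hy).injective
      ext i
      have hb' : s.σ y (x i.down) = ∑ j, a i.down j • b j := hb i.down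
      rw [hX, hb', map_sum, Finsupp.finsetSum_apply]
      refine (Equiv.ulift.{u} (α := Fin k)).symm.sum_comp (fun j => e.e y hy (b j.down • (t j).1 y) i) ▸ ?_
      refine Finset.sum_congr rfl fun j _ => ?_
      rw [map_smul, Finsupp.smul_apply, ht]
      exact mul_comm _ _
    rw [h3]
    exact Submodule.sum_mem _ fun j _ => Submodule.smul_mem _ _ (Submodule.subset_span ⟨j, rfl⟩))
  refine ⟨k, a, fun j => c ⟨j⟩, fun i => ?_, hf⟩
  apply fn_injective s h𝒳 hs hc
  have h4 := congrArg (fun k : ULift.{u} (Fin l) →₀ Γ(sch 𝒳 y, ⊤) => k ⟨i⟩) (congrArg (e.e y hy) (hc' y hy))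
  have h5 : e.e y hy (X.1 y) ⟨i⟩ = e.e y hy (c.sum (fun i a => (s.σ y a : Γ(sch 𝒳 y, ⊤)) • (t i).1 y)) ⟨i⟩ := h4
  rw [hX, Finsupp.sum, map_sum, Finsupp.finsetSum_apply] at h5
  rw [h5, map_sum]
  refine (Finset.sum_subset (Finset.subset_univ _) fun j _ hj => ?_).trans ?_
  · rw [Finsupp.notMem_support_iff] at hj
    rw [hj, map_zero, zero_smul, map_zero]
    rfl
  · refine (Equiv.ulift.{u} (α := Fin k)).symm.sum_comp
      (fun j => e.e y hy ((s.σ y (c j) : Γ(sch 𝒳 y, ⊤)) • (t j).1 y) ⟨i⟩) ▸ ?_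
    refine Finset.sum_congr rfl fun j _ => ?_
    rw [map_smul, Finsupp.smul_apply, ht]
    change s.σ y (c ⟨j⟩) * s.σ y (ρ (a i j)) = s.σ y (ρ (a i j) * c ⟨j⟩)
    rw [map_mul, mul_comm]

end K907.Free
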