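import Groth.Agent.StMod.K907.Closed
import Groth.Agent.StMod.K907.FlatM

/-!
# Points of closed subsets over primes of the ring of functions

`exists_point` : for an exact `𝒳` with ring of functions `A` and a quasi-compact atlas `y`, a closed `W ⊆ |𝒳|` and a prime
`p` of `A` containing the functions vanishing on `W`, there is a point of `W` over `p`.
-/

set_option autoImplicit false
set_option linter.unusedVariables false
set_option linter.style.haveILetI false
set_option backward.isDefEq.respectTransparency false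
set_option backward.isDefEq.respectTransparency.types false

universe t w' v' w v u

open CategoryTheory CategoryTheory.Limits AlgebraicGeometry Opposite StMod AlgSt AlgSp

namespace K907.ClosedPt

open K907.Free K907.Sec K907.Atl K907.QDesc K907.Quot K907.Tens K907.Gen K907.Alg K907.Pt K907.Van K907.Closed

section Algebra

variable {A B : Type u} [CommRing A] [CommRing B] (σ : A →+* B)

theorem exists_prime (p : Ideal A) [hp : p.IsPrime] (I : Ideal B) (h : ∀ f : A, σ f ∈ p.map σ ⊔ I → f ∈ p) :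
    ∃ P : Ideal B, P.IsPrime ∧ I ≤ P ∧ P.comap σ = p := by
  obtain ⟨P, hP, h1, h2⟩ := Ideal.exists_le_prime_disjoint (p.map σ ⊔ I) (p.primeCompl.map σ) (by
    rw [Set.disjoint_left]
    rintro _ hx ⟨f, hf, rfl⟩
    exact hf (h f hx))
  refine ⟨P, hP, le_sup_right.trans h1, le_antisymm ?_ ?_⟩
  · intro f hf
    by_contra hfp
    exact Set.disjoint_left.1 h2 hf ⟨f, hfp, rfl⟩
  · rw [← Ideal.map_le_iff_le_comap]
    exact le_sup_left.trans h1

end Algebra

variable {S : Scheme.{u}} {𝒳 : BasedCategory.{v, w} (Over S)}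

theorem cov1_of_smCov {y : 𝒳.obj} (hy : SmCov (fun _ : PUnit.{t + 1} => y)) : Cov1 y := by
  intro z hz
  obtain ⟨z', f, j, d, h1, h2, h3⟩ := hy.cov z hz
  exact ⟨z', f, d, h1, isFCov_of_smooth h2 h3⟩

variable {A : Type u} [CommRing A] (s : Fn A 𝒳)

theorem exists_point (h𝒳 : FibCat.IsFibGrpd 𝒳.p) (hs : IsFn s) (hex : Exact 𝒳) {y : 𝒳.obj}
    (hy : SmCov (fun _ : PUnit.{t + 1} => y)) {W : Set (Points 𝒳)} (hW : IsCl h𝒳 W) (p : Ideal A) [p.IsPrime]
    (hp : ∀ f : A, s.σ y f ∈ van (prei h𝒳 W y) → f ∈ p) :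
    ∃ t : ↥(sch 𝒳 y), pt h𝒳 y t ∈ W ∧ Ideal.comap (s.σ y) (sp t).asIdeal = p := by
  haveI := h𝒳
  have haff : IsAffine (sch 𝒳 y) := hy.aff ⟨⟩
  obtain ⟨Q, q, hq, hker⟩ := exists_quotient_atlas h𝒳 hy.covers (OQ 𝒳) (compat_fam h𝒳 hy hW)
  have hkery : ∀ a : Γ(sch 𝒳 y, ⊤), (q.hom.app y).app ⊤ a = 0 ↔ a ∈ van (prei h𝒳 W y) := by
    intro a
    refine (hker y a).trans ?_
    have h1 := allI_atlas h𝒳 hy hW ⟨⟩
    rw [← h1]
    rfl
  obtain ⟨P, hP, h1, h2⟩ := exists_prime (s.σ y) p (van (prei h𝒳 W y)) (by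
    intro f hf
    obtain ⟨b, hb, i, hi, hbi⟩ := Submodule.mem_sup.1 hf
    let x : Q.obj.GlobSect := Mod.globSectMap q.hom (fnSec s f)
    let t : p → Q.obj.GlobSect := fun a => Mod.globSectMap q.hom (fnSec s a.1)
    have hx : x.1 y ∈ Submodule.span Γ(sch 𝒳 y, ⊤) (Set.range fun i => (t i).1 y) := by
      have h3 : x.1 y = lin q.hom y b := by
        have h4 : x.1 y = lin q.hom y (s.σ y f) := rfl
        have h5 : lin q.hom y i = 0 := (hkery i).2 hi
        have h6 : lin q.hom y (b + i) = lin q.hom y b + lin q.hom y i := (lin q.hom y).map_add b i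
        rw [h4, ← hbi, h6, h5, add_zero]
      rw [h3]
      clear h3 hbi
      have key : p.map (s.σ y) ≤ (Submodule.span Γ(sch 𝒳 y, ⊤) (Set.range fun i => (t i).1 y)).comap (lin q.hom y) := by
        rw [Ideal.map, Ideal.span_le]
        rintro _ ⟨a, ha, rfl⟩
        exact Submodule.subset_span ⟨⟨a, ha⟩, rfl⟩
      exact key hb
    obtain ⟨c, hc⟩ := exists_linComb s h𝒳 hs hex hy (cov1_of_smCov hy) Q t x hx
    have h3 := hc y haff
    have h4 : lin q.hom y (s.σ y f) = lin q.hom y (s.σ y (c.sum fun a r => r * a.1)) := by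
      have h5 : lin q.hom y (s.σ y f) = c.sum (fun i a => (s.σ y a : Γ(sch 𝒳 y, ⊤)) • lin q.hom y (s.σ y i.1)) := h3
      rw [h5, Finsupp.sum, Finsupp.sum, map_sum, map_sum]
      refine Finset.sum_congr rfl fun a _ => ?_
      rw [map_mul]
      exact ((lin q.hom y).map_smul (s.σ y (c a)) (s.σ y a.1)).symm
    have h5 : f - (c.sum fun a r => r * a.1) ∈ p := by
      refine hp _ ((hkery _).1 ?_)
      have h6 : lin q.hom y (s.σ y (f - (c.sum fun a r => r * a.1))) =
          lin q.hom y (s.σ y f) - lin q.hom y (s.σ y (c.sum fun a r => r * a.1)) := by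
        rw [map_sub]
        exact (lin q.hom y).map_sub _ _
      exact h6.trans (sub_eq_zero.2 h4)
    have h6 : (c.sum fun a r => r * a.1) ∈ p := Ideal.sum_mem _ fun a _ => Ideal.mul_mem_left _ _ a.2
    have h7 := p.add_mem h5 h6
    rwa [sub_add_cancel] at h7)
  obtain ⟨t, ht⟩ := (sp_bijective (X := sch 𝒳 y)).2 ⟨P, hP⟩
  refine ⟨t, ?_, ?_⟩
  · refine mem_of_forall_van (hW y haff) fun f hf => ?_
    rw [ht]
    exact h1 hf
  · rw [ht]
    exact h2

end K907.ClosedPt
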