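import Groth.Agent.StMod.K862.FunC
import Groth.Agent.StMod.K907.ClosedPt
import Groth.Agent.StMod.K907.FlatM
import Groth.Agent.StMod.K908.AffPush

/-!
# Functions on closed substacks of an exact stack

* `isRep_of_repByAlgSpWith`: universal arrows with structure morphism in `P`.
* `exists_fn_of_closed`: functions on a closed substack extend.
-/

set_option autoImplicit false
set_option linter.unusedVariables false
set_option linter.style.haveILetI false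
set_option backward.isDefEq.respectTransparency false
set_option backward.isDefEq.respectTransparency.types false

universe t v' w' v w u

open CategoryTheory CategoryTheory.Limits AlgebraicGeometry Opposite StMod AlgSt AlgSp

namespace K907.ClosedFn

open K908.Aff K734.Fib K862.Rep K862.PushO K907.Sec K907.Atl K907.Free K907.Tens K907.QDesc K908.QSec K908.AMod

variable {S : Scheme.{u}}

/-- The terminal element of a representable sheaf. -/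
theorem terminal_ofSp {F : AlgSp.Sp S} {W : Over S} (a : (AlgSp.yon S).obj W ⟶ F) [IsIso a] (b : (ofSp F).obj) :
    ∃! m : b ⟶ (⟨W, a.hom.app (op W) ⟨𝟙 W⟩⟩ : (ofSp F).obj), True := by
  let x : F.obj.obj (op W) := a.hom.app (op W) ⟨𝟙 W⟩
  have hb : ∀ V : Over S, Function.Bijective (a.hom.app (op V)) := by
    intro V
    have h1 : IsIso a.hom := inferInstanceAs (IsIso ((sheafToPresheaf _ _).map a))
    have h2 : IsIso (a.hom.app (op V)) := inferInstance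
    exact (isIso_iff_bijective _).1 h2
  have hx : ∀ (V : Over S) (g : V ⟶ W), F.obj.map g.op x = a.hom.app (op V) ⟨g⟩ := by
    intro V g
    have h1 := congrArg (fun k => k (⟨𝟙 W⟩ : ULift (W ⟶ W))) (a.hom.naturality g.op)
    refine h1.symm.trans ?_
    change a.hom.app (op V) ⟨g ≫ 𝟙 W⟩ = _
    rw [Category.comp_id]
  obtain ⟨⟨g⟩, hg⟩ := (hb b.base).2 b.sec
  refine ⟨⟨g, (hx _ g).trans hg⟩, trivial, fun m _ => ?_⟩
  apply Stk.EltObj.hom_ext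
  have h1 : a.hom.app (op b.base) ⟨m.hom⟩ = a.hom.app (op b.base) ⟨g⟩ := by
    rw [hg, ← hx]
    exact m.map_sec
  exact congrArg ULift.down ((hb b.base).1 h1)

variable {𝒳 : BasedCategory.{v, w} (Over S)} {𝒴 : BasedCategory.{v', w'} (Over S)}

/-- Universal arrows with structure morphism in `P`. -/
theorem exists_isTerm_prop {P : MorphismProperty Scheme.{u}} [P.RespectsIso] (h𝒳 : FibCat.IsFibGrpd 𝒳.p)
    (p : 𝒴 ⥤ᵇ 𝒳) (hp : RepByAlgSpWith (RepWith P) p) (ξ : 𝒳.obj) :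
    ∃ (w : 𝒴.obj) (α : p.obj w ⟶ ξ), IsTerm p α ∧ P (str p α) := by
  obtain ⟨y, ε, hε⟩ := exists_yo h𝒳 ξ rfl
  obtain ⟨F, e, he, hP⟩ := hp (𝒳.p.obj ξ) y
  obtain ⟨W, i, fst, sq⟩ := hP.1 (𝟙 ((yon S).obj (𝒳.p.obj ξ)))
  have hi : P i.left := hP.2 _ _ _ sq
  have : IsIso fst := sq.isIso_fst_of_isIso
  have hT : IsTerminal (⟨W, fst.hom.app (op W) ⟨𝟙 W⟩⟩ : (ofSp F.obj).obj) :=
    IsTerminal.ofUniqueHom (fun b => (terminal_ofSp fst b).choose)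
      (fun b m => (terminal_ofSp fst b).choose_spec.2 m trivial)
  have hE := isEquivalence_of he
  have hT' : IsTerminal (e.toFunctor.obj (⟨W, fst.hom.app (op W) ⟨𝟙 W⟩⟩ : (ofSp F.obj).obj)) :=
    IsTerminal.isTerminalObj e.toFunctor _ hT
  set X₀ : (FibCat.fp y p).obj := e.obj (⟨W, fst.hom.app (op W) ⟨𝟙 W⟩⟩ : (ofSp F.obj).obj) with hX₀
  have hW : (FibCat.fp y p).p.obj X₀ = W := e.w_obj _
  have hi2 : eqToHom hW.symm ≫ X₀.obj.fst.hom = i := by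
    have h1 := congrArg (fun k => k.hom.app (op W) (⟨𝟙 W⟩ : ULift (W ⟶ W))) sq.w
    have h2 : (⟨secHom (BasedFunctor.comp e (FibCat.fpFst y p)) ⟨W, fst.hom.app (op W) ⟨𝟙 W⟩⟩⟩ : ULift (W ⟶ 𝒳.p.obj ξ)) =
      ⟨𝟙 W ≫ i⟩ := h1
    have h3 := congrArg ULift.down h2
    rw [Category.id_comp] at h3
    exact h3
  refine ⟨X₀.obj.snd, arrX p y ε X₀, isTerm_of_isTerminal h𝒳 p y ε hε _ fun X => ?_, ?_⟩
  · exact ⟨hT'.from X, trivial, fun m _ => hT'.hom_ext _ _⟩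
  · have h4 := isHomLift_arr y ε hε X₀.obj.fst
    have h5 : 𝒳.p.map (arr y ε X₀.obj.fst) = eqToHom (y.w_obj X₀.obj.fst) ≫ X₀.obj.fst.hom := by
      rw [IsHomLift.fac' 𝒳.p X₀.obj.fst.hom (arr y ε X₀.obj.fst)]
      simp
    have h6 : 𝒳.p.map X₀.obj.iso.inv = eqToHom (iso_vert X₀).inv.obj_eq := (iso_vert X₀).inv.map_eq
    have h7 : X₀.obj.fst.hom = eqToHom hW ≫ i := by
      rw [← hi2]
      simp
    have h8 : ∃ e : 𝒴.p.obj X₀.obj.snd = W, baseOver p X₀.obj.snd (arrX p y ε X₀) = eqToHom e ≫ i := by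
      have e : 𝒴.p.obj X₀.obj.snd = W := ((FibCat.fpSnd y p).w_obj X₀).trans hW
      refine ⟨e, ?_⟩
      change eqToHom _ ≫ 𝒳.p.map (X₀.obj.iso.inv ≫ arr y ε X₀.obj.fst) = _
      rw [Functor.map_comp, h5, h6, h7]
      simp
    obtain ⟨e, h9⟩ := h8
    change P (baseOver p X₀.obj.snd (arrX p y ε X₀)).left
    rw [h9, Over.comp_left]
    haveI : IsIso (eqToHom e : 𝒴.p.obj X₀.obj.snd ⟶ W).left := K906.Span.isIso_left (eqToIso e)
    exact (P.cancel_left_of_respectsIso _ _).2 hi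

section Main

variable {A : Type u} [CommRing A] (s : Fn A 𝒳)

/-- Functions on a closed substack of an exact stack extend. -/
theorem exists_fn_of_closed (h𝒳 : FibCat.IsFibGrpd 𝒳.p) (h𝒴 : FibCat.IsFibGrpd 𝒴.p) {p : 𝒴 ⥤ᵇ 𝒳}
    (hcl : IsRep @IsClosedImmersion p) (hs : IsFn s) (hex : Free.Exact 𝒳) {ζ : 𝒳.obj}
    (hζ : SmCov (fun _ : PUnit.{t + 1} => ζ)) (hc : Cov1 ζ) (c : (OQ 𝒴).obj.GlobSect) :
    ∃ a : A, ∀ θ : 𝒴.obj, IsAffine (sch 𝒴 θ) →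
      K862.FunC.vO c θ = (eqSch p θ).hom.appTop (s.σ (p.obj θ) a) := by
  haveI := h𝒳
  haveI := h𝒴
  have hp : IsAff p := by
    intro ξ hξ
    obtain ⟨w, α, h1, h2⟩ := hcl ξ hξ
    exact ⟨w, α, isAffine_of_isAffineHom (str p α), h1⟩
  obtain ⟨E, ⟨h⟩⟩ := K908.AffPush.exists_isPush_of_isAff p hp (OQ 𝒴)
  let Ev : K907.L1.PushEv p (OQ 𝒴).obj E.obj := ⟨fun ξ hξ => (h.ev ξ hξ).toLinearMap, fun φ h' h'' x => h.comm φ h' h'' x⟩
  have hbij : ∀ (z : 𝒳.obj) (hz : IsAffine (sch 𝒳 z)) (b : z ⟶ ζ), Flat (bmap 𝒳 b) → Function.Bijective (Ev.ev z hz) :=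
    fun z hz _ _ => (h.ev z hz).bijective
  obtain ⟨t1, ht1⟩ := exists_up h𝒳 Ev hζ hbij (K862.FunC.oneSec 𝒴)
  obtain ⟨tc, htc⟩ := exists_up h𝒳 Ev hζ hbij c
  have hζa : IsAffine (sch 𝒳 ζ) := hζ.aff ⟨⟩
  obtain ⟨w, α, hα, hαc⟩ := hcl ζ hζa
  have hfl : Flat (bmap 𝒳 (𝟙 ζ)) := by rw [bmap_id]; infer_instance
  have h1 := ht1 ζ hζa (𝟙 ζ) hfl
  have h2 := htc ζ hζa (𝟙 ζ) hfl
  have hw : IsAffine (sch 𝒴 w) := isAffine_of_isAffineHom (str p α)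
  obtain ⟨g, hg⟩ : ∃ g : Γ(sch 𝒳 ζ, ⊤), (str p α).appTop g = K862.FunC.vO c w := by
    have : Function.Surjective (str p α).appTop.hom := (IsClosedImmersion.isAffine_surjective_of_isAffine (str p α)).2
    exact this _
  obtain ⟨c', hc'⟩ := exists_linComb s h𝒳 hs hex hζ hc E (ι := PUnit.{u + 1}) (fun _ => t1) tc (by
    refine Submodule.mem_span.2 fun W hW => ?_
    have h3 : tc.1 ζ = g • t1.1 ζ := by
      apply (h.ev ζ hζa).injective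
      rw [map_smul]
      apply (bijective_evT (OQ 𝒴).obj hα).1
      rw [evT_smul]
      have e1 : (h.ev ζ hζa) (tc.1 ζ) = relOf c ζ := h2
      have e2 : (h.ev ζ hζa) (t1.1 ζ) = relOf (K862.FunC.oneSec 𝒴) ζ := h1
      rw [e1, e2, hg]
      exact (mul_one (K862.FunC.vO c w)).symm
    rw [h3]
    exact W.smul_mem _ (hW ⟨⟨⟩, rfl⟩))
  refine ⟨c' ⟨⟩, fun θ hθ => ?_⟩
  obtain ⟨c₁, hc₁⟩ := exists_down h𝒴 Ev tc
  obtain ⟨c₂, hc₂⟩ := exists_down h𝒴 Ev t1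
  have hcc : c₁ = c := globSect_ext_term h𝒳 h𝒴 hc hα (OQ 𝒴) (congrArg (fun k => k.1 w α) ((hc₁ ζ hζa).symm.trans h2))
  have hcc' : c₂ = K862.FunC.oneSec 𝒴 :=
    globSect_ext_term h𝒳 h𝒴 hc hα (OQ 𝒴) (congrArg (fun k => k.1 w α) ((hc₂ ζ hζa).symm.trans h1))
  subst hcc hcc'
  have hz : IsAffine (sch 𝒳 (p.obj θ)) := isAffine_pobj hθ
  have e1 := congrArg (fun k => k.1 θ (𝟙 _)) (hc₁ _ hz)
  have e2 : tc.1 (p.obj θ) = (s.σ (p.obj θ) (c' ⟨⟩) : Γ(sch 𝒳 (p.obj θ), ⊤)) • t1.1 (p.obj θ) := by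
    rw [hc' _ hz, Finsupp.sum_fintype _ _ (fun i => by rw [map_zero, zero_smul])]
    simp
  have e3 := congrArg (fun k => k.1 θ (𝟙 _)) (hc₂ _ hz)
  have e4 : evT (OQ 𝒴).obj (𝟙 (p.obj θ)) (Ev.ev (p.obj θ) hz (tc.1 (p.obj θ))) =
      (str p (𝟙 (p.obj θ))).appTop (s.σ (p.obj θ) (c' ⟨⟩)) •
        evT (OQ 𝒴).obj (𝟙 (p.obj θ)) (Ev.ev (p.obj θ) hz (t1.1 (p.obj θ))) := by
    rw [e2, map_smul, evT_smul]
  have e5 : evT (OQ 𝒴).obj (𝟙 (p.obj θ)) (Ev.ev (p.obj θ) hz (t1.1 (p.obj θ))) = (1 : Γ(sch 𝒴 θ, ⊤)) := e3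
  have e6 : evT (OQ 𝒴).obj (𝟙 (p.obj θ)) (Ev.ev (p.obj θ) hz (tc.1 (p.obj θ))) = K862.FunC.vO c₁ θ := e1
  rw [e5, e6, str_id] at e4
  have e7 : K862.FunC.vO c₁ θ = ((eqSch p θ).hom.appTop (s.σ (p.obj θ) (c' ⟨⟩)) : Γ(sch 𝒴 θ, ⊤)) * (1 : Γ(sch 𝒴 θ, ⊤)) := e4
  rw [mul_one] at e7
  exact e7

end Main

end K907.ClosedFn
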