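import Groth.Agent.StMod.K907.ResFld
import Groth.Agent.StMod.K907.ClosedFn

/-!
# Finite points of the fibres of a good moduli space

* `exists_finite_point_over`: S19114.
-/

set_option autoImplicit false
set_option linter.unusedVariables false
set_option linter.style.haveILetI false
set_option backward.isDefEq.respectTransparency false
set_option backward.isDefEq.respectTransparency.types false

universe t w' v' w v u

open CategoryTheory CategoryTheory.Limits AlgebraicGeometry Opposite StMod AlgSt AlgSp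

namespace K907.FinPt

open K907.Free K907.Sec K907.Atl K907.Tens K907.Pt K907.Van K907.Closed K907.ClosedPt K907.TermE K907.Rows K907.UnivCl
open K907.GoodFp K907.DiagPt K907.OnePt K907.ResFld K862.Rep

theorem finite_of_range {k K K' : Type*} [CommRing k] [CommRing K] [CommRing K'] (i₀ : k →+* K') (i : K →+* K')
    (h : ∀ a, ∃ b, i₀ a = i b) (hf : i₀.Finite) : i.Finite := by
  letI := i₀.toAlgebra
  letI := i.toAlgebra
  have hf' : Module.Finite k K' := hf
  obtain ⟨s, hs⟩ := hf'.fg_top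
  refine (⟨s, ?_⟩ : Module.Finite K K')
  rw [eq_top_iff]
  rintro x -
  have hx : x ∈ Submodule.span k (s : Set K') := by
    rw [hs]
    trivial
  induction hx using Submodule.span_induction with
  | mem x hx => exact Submodule.subset_span hx
  | zero => exact Submodule.zero_mem _
  | add x y _ _ hx hy => exact Submodule.add_mem _ hx hy
  | smul a x _ hx =>
    obtain ⟨b, hb⟩ := h a
    have : a • x = b • x := by
      rw [Algebra.smul_def, Algebra.smul_def]
      exact congrArg (fun z => z * x) hb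
    rw [this]
    exact Submodule.smul_mem _ b hx

theorem over_eq {C : Type*} [Category C] {T : C} {A B : Over T} {E : C} (e : A.left = E) (f : E ⟶ B.left) (φ : A ⟶ B)
    (h : φ.left = eqToHom e ≫ f) : A = Over.mk (f ≫ B.hom) := by
  subst e
  rw [eqToHom_refl, Category.id_comp] at h
  rw [← h, Over.w φ]
  rfl

theorem eqToHom_hom {C : Type*} [Category C] {T : C} {A B : Over T} (h : A = B) {E : C} (e : E = A.left) :
    eqToHom e ≫ A.hom = eqToHom (e.trans (congrArg (fun x : Over T => x.left) h)) ≫ B.hom := by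
  subst h
  rfl

variable {S : Scheme.{u}}

/-- Objects of the fibre product give lifts of restrictions. -/
theorem exists_fibSec {𝒳 : BasedCategory.{u, w} (Over S)} (h𝒳 : FibCat.IsFibGrpd 𝒳.p) {M : Sp S} {π : 𝒳 ⥤ᵇ ofSp M} {T : Over S}
    (y : (yon S).obj T ⟶ M) (w : (FibCat.fp (chart y) π).obj) {E : Over S} (f : E ⟶ (w.obj.fst : Over T).left) :
    ∃ x : 𝒳.p.Fiber E, fibSec π x = (J S).uliftYonedaEquiv ((yon S).map (f ≫ (w.obj.fst : Over T).hom) ≫ y) := by
  have hfp := K735.Fp.isFibGrpd_fp (K735.Fp.isFibGrpd_overCat T) h𝒳 FibTerm.isFibGrpd_ofSp (chart y) π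
  obtain ⟨w', ψ, hψ⟩ := K734.Fib.exists_lift (a := w) hfp (rfl : (FibCat.fp (chart y) π).p.obj w = (w.obj.fst : Over T).left) f
  have hE : (w'.obj.fst : Over T).left = E := IsHomLift.domain_eq (FibCat.fp (chart y) π).p f ψ
  have hw' : (w'.obj.fst : Over T) = Over.mk (f ≫ (w.obj.fst : Over T).hom) := by
    refine over_eq hE f ψ.hom.fst ?_
    have h2 := IsHomLift.fac' (FibCat.fp (chart y) π).p f ψ
    refine h2.trans ?_
    rw [eqToHom_refl, Category.comp_id]
  have h1 : π.obj w'.obj.snd = (chart y).obj w'.obj.fst :=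
    (K734.Fib.obj_eq_of_iso (FibCat.fpIso (chart y) π) w').symm
  refine ⟨⟨w'.obj.snd, ?_⟩, ?_⟩
  · exact ((K735.Fp.fp_snd_eq w').trans hE)
  · rw [K746.fibSec_eq_iff, h1, hw', yoneda_app]
    rfl

section Main

variable [QuasiSeparatedSpace S] {𝒳 : AlgSt.Cat S} (h𝒳 : IsAlgStack Scheme.fppfPrecoverage 𝒳)
  (M : Space S) (hM : IsQuasiSeparatedSp M.obj) (π : 𝒳 ⥤ᵇ ofSp M.obj)
  (hqc : IsQuasiCompactMor Scheme.fppfPrecoverage π) (hqs : IsQuasiSeparatedMor π)
  (h : IsGoodModuli π) (hN : SmoothLocally (fun T => IsLocallyNoetherian T) 𝒳)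

include h𝒳 hN in
/-- The fibre over a point locally of finite type is locally Noetherian. -/
theorem locNoeth_fp {T : Over S} (y : (yon S).obj T ⟶ M.obj) (hy : LocP @LocallyOfFiniteType y) :
    SmoothLocally (fun T => IsLocallyNoetherian T) (FibCat.fp (chart y) π) := by
  have h𝒲 := isAlgStack_fp h𝒳 M π (K744.AlgOver.isAlgStack_overCat T) (chart y)
  have hm : RepByAlgSpWith (LocP @LocallyOfFiniteType) (chart y) :=
    (K735.Top.repByAlgSpWith_chart_iff y).2 (K736.Prod.algRepWith_ofSpMap (K736.Prod.stabBC_locP K597.etLoc_lft)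
      (IsAlgSpace.yon_obj _) M.property hy)
  exact K742.LN.smoothLocally_LN_of_lft h𝒲.isStack.1 (FibCat.fpSnd (chart y) π)
    (K742.EvQ.locQ_of_rep K742.nice_lft h𝒲.isStack.1 h𝒳.isStack.1 h𝒲.atlas h𝒳.atlas _
      (K742.RepComp.repByAlgSpWith_fpSnd (chart y) π hm)) hN

include h𝒳 hqs in
/-- The fibre over a quasi-separated scheme is quasi-separated. -/
theorem isQuasiSeparatedOver_fp {T : Over S} [QuasiSeparated T.hom] (y : (yon S).obj T ⟶ M.obj) :
    IsQuasiSeparatedOver (FibCat.fp (chart y) π) := by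
  have hT := K744.AlgOver.isAlgStack_overCat T
  have h𝒲 := isAlgStack_fp h𝒳 M π hT (chart y)
  have hAM := K740.SpDM.isAlgStack_ofSp M.property
  exact isQuasiSeparatedOver_of h𝒲.isStack.1 hT.isStack.1 (FibCat.fpFst (chart y) π)
    (K739.Sect.repByAlgSpWith_diag_fpFst (chart y) π h𝒳.isStack.1 hAM.isStack.1 hT.isStack.1 h𝒲.isStack.1 hqs)
    (isQuasiSeparatedOver_overCat T)

include h𝒳 hM hqc hqs h hN in
/-- S19114. -/
theorem exists_finite_point_over (K : Type u) [Field K] (t : Spec (CommRingCat.of K) ⟶ S)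
    (y : (AlgSp.yon S).obj (Over.mk t) ⟶ M.obj) (hy : AlgSp.LocP @LocallyOfFiniteType y) :
    ∃ (K' : Type u) (_ : Field K') (i : K →+* K'), i.Finite ∧
      ∃ x : 𝒳.p.Fiber (Over.mk (Spec.map (CommRingCat.ofHom i) ≫ t)),
        AlgSt.fibSec π x =
          (AlgSp.J S).uliftYonedaEquiv
            ((AlgSp.yon S).map (Over.homMk (Spec.map (CommRingCat.ofHom i)) rfl :
                Over.mk (Spec.map (CommRingCat.ofHom i) ≫ t) ⟶ Over.mk t) ≫ y) := by
  have hT := K744.AlgOver.isAlgStack_overCat (Over.mk t)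
  have hTa : IsAffine (Over.mk t).left := inferInstanceAs (IsAffine (Spec (CommRingCat.of K)))
  have h𝒲 := isAlgStack_fp h𝒳 M π hT (chart y)
  haveI : QuasiSeparated (Over.mk t).hom := by
    change QuasiSeparated t
    infer_instance
  have hWN := locNoeth_fp h𝒳 M π hN y hy
  have hWs := isQuasiSeparatedOver_fp h𝒳 M π hqs y
  have hWc : AlgSt.IsQuasiCompact (FibCat.fp (chart y) π) := hqc _ hT (K906.isQuasiCompact_overCat hTa) (chart y)
  haveI hWn : Nonempty (Points (FibCat.fp (chart y) π)) := by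
    obtain ⟨w, -⟩ := (isClosedMap_affine h𝒳 M hM π hqc hqs h hTa (chart y)).2
      (Points.ofChart (BasedFunctor.id (FibCat.overCat (Over.mk t))) (IsLocalRing.closedPoint K : ↥(Spec (CommRingCat.of K))))
    exact ⟨w⟩
  obtain ⟨Q, hQ, hne, hss, hred, hLN, hqs'⟩ := exists_closedSub h𝒲 hWN hWs hWc
  obtain ⟨k, _, str, r, V, v, ρ, hV, hρ, hobj⟩ := exists_field_cover hQ.2.1 hne hss hred hLN hqs'
  obtain ⟨K', hK', j, i₀, hj, hi₀⟩ := exists_finite_point ρ.left
  let 𝒲 := FibCat.fp (chart y) π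
  let 𝒵 := fullSub 𝒲 Q
  let p : 𝒵 ⥤ᵇ 𝒲 := subIncl 𝒲 Q
  let q : 𝒲 ⥤ᵇ FibCat.overCat (Over.mk t) := FibCat.fpFst (chart y) π
  let E : Over S := Over.mk (j ≫ V.hom)
  let j' : E ⟶ V := Over.homMk j rfl
  let θ : 𝒵.obj := v.obj (Over.mk j')
  have hθ : 𝒵.p.obj θ = E := v.w_obj _
  let e : E ⟶ 𝒵.p.obj θ := eqToHom hθ.symm
  haveI : IsIso e.left := inferInstanceAs (IsIso ((Over.forget S).map (eqToHom hθ.symm)))
  have haff : IsAffine (sch 𝒵 θ) := by
    haveI : IsAffine E.left := inferInstanceAs (IsAffine (Spec (CommRingCat.of K')))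
    exact IsAffine.of_isIso (inv e.left)
  obtain ⟨ζ, hζ⟩ := exists_smCov_fp.{0} h𝒳 M π hqc hT (K906.isQuasiCompact_overCat hTa) (chart y)
  have hs := isFn_fp h𝒳 M hM π hqc hqs h hT.isStack.1 (chart y) (tmT (Over.mk t))
  have hex := exact_fp h𝒳 M hM π hqc hqs h.1 hT (chart y) (tmT (Over.mk t)) hTa
  have hcl : IsRep @IsClosedImmersion p := fun ξ hξ => K907.ClosedFn.exists_isTerm_prop h𝒲.isStack.1 p hQ.2.2 ξ
  let w : 𝒲.obj := p.obj θ
  let f : E ⟶ (w.obj.fst : Over (Over.mk t)).left := e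
  have h1 : ∀ a : Γ((Over.mk str).left, ⊤), ∃ b : Γ((Over.mk t).left, ⊤),
      (j' ≫ ρ).left.appTop a = (f ≫ (w.obj.fst : Over (Over.mk t)).hom).left.appTop b := by
    intro a
    obtain ⟨b, hb⟩ := K907.ClosedFn.exists_fn_of_closed (fnτ q (tmT (Over.mk t))) h𝒲.isStack.1 hQ.2.1.isStack.1 hcl hs hex hζ
      (cov1_of_smCov hζ) (fnSec (fnτ r (tmT (Over.mk str))) a)
    refine ⟨b, ?_⟩
    have hb' := hb θ haff
    have h2 : e ≫ baseOver r θ (tmT (Over.mk str) _).default = j' ≫ ρ := by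
      have h4 : baseOver r θ (tmT (Over.mk str) _).default = eqToHom (r.w_obj θ).symm ≫ (r.obj θ).hom := by
        change _ ≫ (Over.mkIdTerminal.from (r.obj θ)).left = _
        simp
      rw [h4, eqToHom_hom (hobj E j')]
      change eqToHom _ ≫ eqToHom _ ≫ (j' ≫ ρ) = _
      rw [eqToHom_trans_assoc, eqToHom_refl, Category.id_comp]
    have h5 : (eqSch p θ).hom ≫ (baseOver q w (tmT (Over.mk t) _).default).left = (w.obj.fst : Over (Over.mk t)).hom.left := by
      have h6 : baseOver q w (tmT (Over.mk t) _).default = (w.obj.fst : Over (Over.mk t)).hom := by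
        change 𝟙 _ ≫ (Over.mkIdTerminal.from (w.obj.fst : Over (Over.mk t))).left = _
        simp
      rw [h6]
      exact Category.id_comp _
    have h3 := congrArg (fun k => e.left.appTop k) hb'
    rw [← h2, Over.comp_left, Over.comp_left, ← h5, Scheme.Hom.comp_appTop, Scheme.Hom.comp_appTop, Scheme.Hom.comp_appTop]
    exact h3
  obtain ⟨i, hi⟩ := Spec.map_surjective (f ≫ (w.obj.fst : Over (Over.mk t)).hom).left
  have hfin : i.hom.Finite := by
    refine finite_of_range i₀ i.hom (fun a => ?_) hi₀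
    obtain ⟨b, hb⟩ := h1 ((Scheme.ΓSpecIso (CommRingCat.of k)).inv a)
    refine ⟨(Scheme.ΓSpecIso (CommRingCat.of K)).hom b, ?_⟩
    have h6 : (j' ≫ ρ).left = Spec.map (CommRingCat.ofHom i₀) := hj
    rw [h6, ← hi] at hb
    have h7 := congrArg (Scheme.ΓSpecIso (CommRingCat.of K')).hom hb
    have h8 := congrArg (fun m => m.hom ((Scheme.ΓSpecIso (CommRingCat.of k)).inv a))
      (Scheme.ΓSpecIso_naturality (CommRingCat.ofHom i₀))
    have h9 := congrArg (fun m => m.hom b) (Scheme.ΓSpecIso_naturality i)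
    have h10 : (Scheme.ΓSpecIso (CommRingCat.of k)).hom ((Scheme.ΓSpecIso (CommRingCat.of k)).inv a) = a :=
      congrArg (fun m => m.hom a) (Scheme.ΓSpecIso (CommRingCat.of k)).inv_hom_id
    have h11 := (h8.symm.trans h7).trans h9
    exact (congrArg i₀ h10).symm.trans h11
  have hE : j ≫ V.hom = Spec.map i ≫ t := by
    rw [hi]
    exact (Over.w (f ≫ (w.obj.fst : Over (Over.mk t)).hom)).symm
  refine ⟨K', hK', i.hom, hfin, ?_⟩
  let f' : Over.mk (Spec.map (CommRingCat.ofHom i.hom) ≫ t) ⟶ E := Over.homMk (𝟙 _) (by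
    change 𝟙 _ ≫ j ≫ V.hom = _
    rw [Category.id_comp, hE]
    rfl)
  obtain ⟨x, hx⟩ := exists_fibSec h𝒳.isStack.1 y w (f' ≫ f)
  refine ⟨x, hx.trans ?_⟩
  congr 3
  ext1
  change (𝟙 _ ≫ f.left) ≫ _ = Spec.map i
  rw [Category.id_comp, hi]
  rfl

end Main

end K907.FinPt
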