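import Groth.Agent.StMod.K907.Term
import Groth.Prelude.Def_AlgSp3

/-!
# Affine morphisms to a sheaf are cohomologically affine
-/

set_option autoImplicit false
set_option backward.isDefEq.respectTransparency false
set_option backward.isDefEq.respectTransparency.types false

universe w' v' w v u

open CategoryTheory CategoryTheory.Limits AlgebraicGeometry Opposite

namespace K907.Aff

open K907.Term

variable {S : Scheme.{u}}

theorem isEquivalence_of_isEquivOver {𝒳 : BasedCategory.{v, w} (Over S)} {𝒴 : BasedCategory.{v', w'} (Over S)}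
    {e : 𝒳 ⥤ᵇ 𝒴} (he : FibCat.IsEquivOver e) : e.toFunctor.IsEquivalence := by
  obtain ⟨G, ⟨e1⟩, ⟨e2⟩⟩ := he
  exact Functor.IsEquivalence.mk' G.toFunctor ((BasedNatTrans.forgetful _ _).mapIso e1).symm
    ((BasedNatTrans.forgetful _ _).mapIso e2)

/-- the pair `(W, f)` is terminal in the category of a sheaf when `f : h_W ⟶ F` is an isomorphism. -/
noncomputable def isTerminalOfIso {F : AlgSp.Sp S} {W : Over S} (f : (AlgSp.yon S).obj W ⟶ F) [IsIso f] :
    IsTerminal (⟨W, (AlgSp.J S).uliftYonedaEquiv f⟩ : (AlgSt.ofSp F).obj) := by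
  refine IsTerminal.ofUniqueHom (fun X => ?_) ?_
  · refine ⟨((inv f).hom.app (op X.base) X.sec).down, ?_⟩
    have h := (AlgSp.J S).map_uliftYonedaEquiv f ((inv f).hom.app (op X.base) X.sec).down
    refine h.trans ?_
    change (f.hom.app (op X.base)) ((inv f).hom.app (op X.base) X.sec) = X.sec
    have h2 : (inv f).hom ≫ f.hom = 𝟙 F.obj := congrArg (fun k => k.hom) (IsIso.inv_hom_id f)
    exact congrArg (fun k : F.obj ⟶ F.obj => k.app (op X.base) X.sec) h2
  · intro X m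
    apply Stk.EltObj.hom_ext
    change m.hom = ((inv f).hom.app (op X.base) X.sec).down
    have h := (AlgSp.J S).map_uliftYonedaEquiv f m.hom
    have h3 : F.obj.map m.hom.op ((AlgSp.J S).uliftYonedaEquiv f) = X.sec := m.map_sec
    rw [← h3, h]
    have h2 : f.hom ≫ (inv f).hom = 𝟙 _ := congrArg (fun k => k.hom) (IsIso.hom_inv_id f)
    exact (congrArg (fun k : ((AlgSp.yon S).obj W).obj ⟶ ((AlgSp.yon S).obj W).obj =>
      (k.app (op X.base) ⟨m.hom⟩).down) h2).symm

/-- An affine morphism has, over an affine test object, a terminal pair lying over an affine scheme. -/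
theorem exists_isTerminal_of_isAffineMor {𝒳 : BasedCategory.{v, w} (Over S)} {M : AlgSp.Sp S}
    {π : 𝒳 ⥤ᵇ AlgSt.ofSp M} (hπ : AlgSt.RepByAlgSpWith AlgSp.IsAffineMor π) (η : (AlgSt.ofSp M).obj)
    (hη : IsAffine η.base.left) :
    ∃ (z : (FibCat.fp (yo η) π).obj), Nonempty (IsTerminal z) ∧ IsAffine (StMod.sch 𝒳 z.obj.snd) := by
  obtain ⟨F, e, he, hP⟩ := hπ η.base (yo η)
  obtain ⟨W, i, fst, sq, hW⟩ := hP hη (𝟙 _)
  have := sq.isIso_fst_of_isIso
  have := isEquivalence_of_isEquivOver he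
  refine ⟨e.obj ⟨W, (AlgSp.J S).uliftYonedaEquiv fst⟩,
    ⟨IsTerminal.isTerminalObj e.toFunctor _ (isTerminalOfIso fst)⟩, ?_⟩
  have h1 := e.w_obj (⟨W, (AlgSp.J S).uliftYonedaEquiv fst⟩ : (AlgSt.ofSp F.obj).obj)
  have h2 := (FibCat.fpSnd (yo η) π).w_obj (e.obj ⟨W, (AlgSp.J S).uliftYonedaEquiv fst⟩)
  have h3 : 𝒳.p.obj (e.obj ⟨W, (AlgSp.J S).uliftYonedaEquiv fst⟩).obj.snd = W := h2.trans h1
  unfold StMod.sch
  rw [h3]
  exact hW

theorem isCohAffine_of_repByAlgSpWith_isAffineMor {𝒳 : BasedCategory.{v, w} (Over S)} {M : AlgSp.Sp S}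
    {π : 𝒳 ⥤ᵇ AlgSt.ofSp M} (hπ : AlgSt.RepByAlgSpWith AlgSp.IsAffineMor π) : StMod.IsCohAffine π := by
  intro F G u hu E hE
  obtain ⟨z, ⟨hz⟩, ha⟩ := exists_isTerminal_of_isAffineMor hπ (StMod.etaOf E) hE
  exact relSectMap_surjective_of_isTerminal hz ha u.hom hu

end K907.Aff
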