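import Groth.Agent.StMod.K907.Aff
import Groth.Agent.AlgSt.K743.BC
import Groth.Agent.AlgSt.K735.Rep
import Groth.Prelude.Def_AlgSt4

/-!
# Charts of fibre products: base change of a chart along a projection
-/

set_option autoImplicit false
set_option backward.isDefEq.respectTransparency false
set_option backward.isDefEq.respectTransparency.types false

universe v₆ u₆ v₅ u₅ v₄ u₄ v₃ u₃ v₂ u₂ v u

open CategoryTheory CategoryTheory.Limits AlgebraicGeometry Opposite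

namespace K907.Qc

open K735.Fib K735.Fp K735.Rep K743.BC

section Pre

variable {C : Type u} [Category.{v} C] {𝒰 : BasedCategory.{v₂, u₂} C} {𝒵 : BasedCategory.{v₃, u₃} C}
  {𝒴 : BasedCategory.{v₄, u₄} C} {𝒳 : BasedCategory.{v₅, u₅} C}

/-- `𝒰 ×_𝒴 𝒳 ⟶ 𝒵 ×_𝒴 𝒳` for `𝒰 ⟶ 𝒵`. -/
def pre (x : 𝒰 ⥤ᵇ 𝒵) (g : 𝒵 ⥤ᵇ 𝒴) (f : 𝒳 ⥤ᵇ 𝒴) : FibCat.fp (BasedFunctor.comp x g) f ⥤ᵇ FibCat.fp g f :=
  FibCat.fpLift (BasedFunctor.comp (FibCat.fpFst (BasedFunctor.comp x g) f) x) (FibCat.fpSnd (BasedFunctor.comp x g) f)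
    (FibCat.fpIso (BasedFunctor.comp x g) f)

variable (x : 𝒰 ⥤ᵇ 𝒵) (g : 𝒵 ⥤ᵇ 𝒴) (f : 𝒳 ⥤ᵇ 𝒴)

/-- The square `pre`, `fpFst`, `fpFst`, `x` is 2-cartesian. -/
theorem isCart_pre : IsCart (pre x g f) x (FibCat.fpFst (BasedFunctor.comp x g) f) (FibCat.fpFst g f) (Iso.refl _) where
  full := ⟨by
    intro A B h
    have w1 := fp_w h
    have e1 : h.hom.fst.hom.fst = x.map h.hom.snd := by
      have : h.hom.fst.hom.fst ≫ 𝟙 _ = 𝟙 _ ≫ x.map h.hom.snd := w1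
      simpa using this
    have w2 : g.map h.hom.fst.hom.fst ≫ B.obj.iso.hom = A.obj.iso.hom ≫ f.map h.hom.fst.hom.snd := fp_w h.hom.fst
    refine ⟨homFp h.hom.snd h.hom.fst.hom.snd ?_, ?_⟩
    · rw [e1] at w2
      exact w2
    · refine fp_hom_ext (fp_hom_ext ?_ rfl) rfl
      exact e1.symm⟩
  faithful := ⟨by
    intro A B h k e
    refine fp_hom_ext ?_ ?_
    · exact congrArg (fun t => t.hom.snd) e
    · exact congrArg (fun t => t.hom.fst.hom.snd) e⟩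
  surj := by
    intro η
    have hv := fp_vert η
    let i : η.obj.fst.obj.fst ≅ x.obj η.obj.snd := η.obj.iso
    let A : (FibCat.fp (BasedFunctor.comp x g) f).obj :=
      mkFp (BasedFunctor.comp x g) f η.obj.snd η.obj.fst.obj.snd (g.mapIso i.symm ≪≫ η.obj.fst.obj.iso)
        ((Vert.map g (Vert.iso_inv (φ := i) hv)).comp (fp_vert η.obj.fst))
    have hw : g.map i.symm.hom ≫ η.obj.fst.obj.iso.hom = (g.mapIso i.symm ≪≫ η.obj.fst.obj.iso).hom ≫ f.map (𝟙 _) := by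
      rw [f.map_id, Category.comp_id]
      rfl
    let θ₁ : (pre x g f).obj A ≅ η.obj.fst := isoFp i.symm (Iso.refl _) hw
    refine ⟨A, isoFp θ₁ (Iso.refl _) ?_, ?_⟩
    · change i.inv ≫ η.obj.iso.hom = 𝟙 _ ≫ x.map (𝟙 _)
      rw [x.map_id]
      change i.inv ≫ i.hom = _
      simp
    · have : Vert (FibCat.fp (FibCat.fpFst g f) x).p (isoFp (x := (FibCat.fpLift (pre x g f) (FibCat.fpFst (BasedFunctor.comp x g) f)
          (Iso.refl _)).obj A) (y := η) θ₁ (Iso.refl _) (by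
            change i.inv ≫ η.obj.iso.hom = 𝟙 _ ≫ x.map (𝟙 _)
            rw [x.map_id]
            change i.inv ≫ i.hom = _
            simp)).hom := by
        rw [vert_fp_iff_snd]
        exact vert_id _
      exact this.isHomLift' rfl

theorem repByAlgSpWith_pre {S : Scheme.{u}} {𝒰 : BasedCategory.{v₂, u₂} (Over S)} {𝒵 : BasedCategory.{v₃, u₃} (Over S)}
    {𝒴 : BasedCategory.{v₄, u₄} (Over S)} {𝒳 : BasedCategory.{v₅, u₅} (Over S)} (x : 𝒰 ⥤ᵇ 𝒵) (g : 𝒵 ⥤ᵇ 𝒴) (f : 𝒳 ⥤ᵇ 𝒴)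
    {P : MorphismProperty (AlgSp.Sp S)} (h : AlgSt.RepByAlgSpWith P x) : AlgSt.RepByAlgSpWith P (pre x g f) :=
  (isCart_pre x g f).repByAlgSpWith h

/-- Precomposition with an equivalence. -/
theorem repByAlgSpWith_comp_equiv {S : Scheme.{u}} {𝒰 : BasedCategory.{v₂, u₂} (Over S)} {𝒵 : BasedCategory.{v₃, u₃} (Over S)}
    {𝒴 : BasedCategory.{v₄, u₄} (Over S)} (E : 𝒰 ⥤ᵇ 𝒵) (hE : FibCat.IsEquivOver E) (f : 𝒵 ⥤ᵇ 𝒴)
    {P : MorphismProperty (AlgSp.Sp S)} (h : AlgSt.RepByAlgSpWith P f) : AlgSt.RepByAlgSpWith P (BasedFunctor.comp E f) :=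
  repByAlgSpWith_of_sq P f (BasedFunctor.comp E f) E (BasedFunctor.id _) hE isEquivOver_id (Iso.refl _) h

end Pre

variable {S : Scheme.{u}}

/-- A morphism representable by algebraic spaces and affine is quasi-compact. -/
theorem isQuasiCompactMor_of_repByAlgSpWith_isAffineMor {𝒳 : BasedCategory.{v₂, u₂} (Over S)} {𝒴 : BasedCategory.{v₃, u₃} (Over S)}
    {π : 𝒳 ⥤ᵇ 𝒴} (hπ : AlgSt.RepByAlgSpWith AlgSp.IsAffineMor π) (K : Precoverage Scheme.{u}) :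
    AlgSt.IsQuasiCompactMor K π := by
  intro 𝒵 _ hq g
  obtain ⟨U, x, hU, hx1, hx2⟩ := hq
  obtain ⟨F, e, he, hP⟩ := hπ U (BasedFunctor.comp x g)
  obtain ⟨W, i, fst, sq, hW⟩ := hP hU (𝟙 _)
  have := sq.isIso_fst_of_isIso
  let E : FibCat.overCat W ⥤ᵇ FibCat.fp (BasedFunctor.comp x g) π :=
    BasedFunctor.comp (BasedFunctor.comp (AlgSt.ofOverCat W) (AlgSt.ofSpMap fst)) e
  have hE : FibCat.IsEquivOver E :=
    IsEquivOver.comp (IsEquivOver.comp (isEquivOver_ofOverCat W) (isEquivOver_ofSpMap_of_isIso fst)) he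
  exact ⟨W, BasedFunctor.comp E (pre x g π), hW,
    repByAlgSpWith_comp_equiv E hE _ (repByAlgSpWith_pre x g π hx1),
    repByAlgSpWith_comp_equiv E hE _ (repByAlgSpWith_pre x g π hx2)⟩

end K907.Qc
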