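import Groth.Agent.StMod.K907.GoodFp
import Groth.Agent.AlgSt.K746.GeomBij
import Groth.Agent.AlgSt.K735.Prod

/-!
# The image of the diagonal on points, for morphisms bijective on geometric points

* `mem_range_diag`: points of the image of the diagonal `|𝒳| → |𝒳 × 𝒳|`.
* `map_mem_range_iff`: comparison with the equalizer of two maps to `M`.
* `isSeparatedSp_iff`: the criterion.
-/

set_option autoImplicit false
set_option linter.unusedVariables false
set_option linter.style.haveILetI false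
set_option backward.isDefEq.respectTransparency false
set_option backward.isDefEq.respectTransparency.types false

universe v' w' v w u

open CategoryTheory CategoryTheory.Limits AlgebraicGeometry Opposite StMod AlgSt AlgSp

namespace K907.DiagPt

open K735.Fib K735.Fp K735.Pts K735.PtsSp K735.Top K735.Prod

variable {S : Scheme.{u}}

/-- Objects of `ofSp M` over the same base with the same morphism to a third object are equal. -/
theorem ofSp_ext {M : AlgSp.Sp S} {x y z : (ofSp M).obj} (f : x ⟶ z) (g : y ⟶ z) (hb : x.base = y.base)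
    (h : f.hom ≍ g.hom) : x = y := by
  obtain ⟨X, s⟩ := x
  obtain ⟨Y, t⟩ := y
  dsimp only at hb
  subst hb
  have h' : f.hom = g.hom := eq_of_heq h
  have h1 := f.map_sec
  have h2 := g.map_sec
  rw [h', h2] at h1
  dsimp only at h1
  rw [h1]

/-- Images under `π` of two objects over the same object, with equal base maps. -/
theorem obj_eq_of_hom {M : AlgSp.Sp S} {𝒳 : BasedCategory.{v, w} (Over S)} (π : 𝒳 ⥤ᵇ ofSp M) {x y z : 𝒳.obj}
    (f : x ⟶ z) (g : y ⟶ z) (hb : 𝒳.p.obj x = 𝒳.p.obj y) (h : 𝒳.p.map f ≍ 𝒳.p.map g) : π.obj x = π.obj y := by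
  refine ofSp_ext (π.map f) (π.map g) ((π.w_obj x).trans (hb.trans (π.w_obj y).symm)) ?_
  exact (heq_w π f).trans (h.trans (heq_w π g).symm)

theorem heq_of_lift {𝒳 : BasedCategory.{v, w} (Over S)} {X Y : Over S} {f : X ⟶ Y} {a b : 𝒳.obj} {φ : a ⟶ b}
    (h : 𝒳.p.IsHomLift f φ) : 𝒳.p.map φ ≍ f := by
  obtain rfl := IsHomLift.domain_eq 𝒳.p f φ
  obtain rfl := IsHomLift.codomain_eq 𝒳.p f φ
  rw [IsHomLift.fac' 𝒳.p f φ]
  simp

section

variable {𝒳 : BasedCategory.{v, w} (Over S)} {M : AlgSp.Sp S} {π : 𝒳 ⥤ᵇ ofSp M}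

variable (𝒳) in
/-- The product over the base. -/
abbrev Pr : BasedCategory.{v, max w u} (Over S) := FibCat.fp (FibCat.toSelf 𝒳) (FibCat.toSelf 𝒳)

theorem isFibGrpd_Pr (h𝒳 : FibCat.IsFibGrpd 𝒳.p) : FibCat.IsFibGrpd (Pr 𝒳).p :=
  isFibGrpd_fp h𝒳 h𝒳 isFibGrpd_selfOver _ _

/-- Points of the image of the diagonal. -/
theorem mem_range_diag (h𝒳 : FibCat.IsFibGrpd 𝒳.p) (hg : GeomPtBij π) (p : FPt (Pr 𝒳)) :
    Points.mk p ∈ Set.range (Points.map (FibCat.diag (FibCat.toSelf 𝒳))) ↔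
      ∃ (Ω : Type u) (_ : Field Ω) (_ : IsAlgClosed Ω) (t : Spec (CommRingCat.of Ω) ⟶ S) (h : (Pr 𝒳).obj)
        (φ : h ⟶ p.obj), (Pr 𝒳).p.obj h = Over.mk t ∧ π.obj h.obj.fst = π.obj h.obj.snd := by
  have hP := isFibGrpd_Pr h𝒳
  constructor
  · rintro ⟨m, hm⟩
    obtain ⟨r, rfl⟩ := Points.mk_surjective m
    obtain ⟨r', a, b, -⟩ := (mk_eq_mk_iff hP).1 (show Points.mk (r.map (FibCat.diag (FibCat.toSelf 𝒳))) = Points.mk p from hm)
    obtain ⟨Ω, hΩ, hΩ', t, ⟨f⟩⟩ := K746.GeomBij.exists_geom r'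
    obtain ⟨h, φ, hφ⟩ := K734.Fib.exists_lift hP r'.lies f
    have hb : (Pr 𝒳).p.obj h = Over.mk t := IsHomLift.domain_eq (Pr 𝒳).p f φ
    refine ⟨Ω, hΩ, hΩ', t, h, φ ≫ b, hb, ?_⟩
    have c : h ⟶ (FibCat.diag (FibCat.toSelf 𝒳)).obj r.obj := φ ≫ a
    exact obj_eq_of_hom π c.hom.fst c.hom.snd (fp_snd_eq h).symm ((prod_w _ _).1 c.hom.w)
  · rintro ⟨Ω, _, _, t, h, φ, hb, he⟩
    have hb' : 𝒳.p.obj h.obj.snd = Over.mk t := (fp_snd_eq h).trans hb
    obtain ⟨e, hev⟩ := K746.GeomBij.inj hg t hb hb' he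
    refine ⟨Points.mk ⟨Ω, t, h.obj.fst, hb⟩, ?_⟩
    refine mk_eq_of_hom (p := (FPt.map (FibCat.diag (FibCat.toSelf 𝒳)) ⟨Ω, t, h.obj.fst, hb⟩)) (?_ ≫ φ)
    refine homFp (x := (FibCat.diag (FibCat.toSelf 𝒳)).obj h.obj.fst) (y := h) (𝟙 _) e
      ((prod_w (x := (FibCat.diag (FibCat.toSelf 𝒳)).obj h.obj.fst) (y := h) (𝟙 _) e).2 ?_)
    have h1 : 𝒳.p.map e = eqToHom (hb.trans hb'.symm) := hev.map_eq
    rw [h1, 𝒳.p.map_id]
    exact heq_eqToHom (C := Over S) rfl (hb.trans hb'.symm) rfl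

/-- The chart of `M` given by a section. -/
noncomputable abbrev chart {T : Over S} (a : (yon S).obj T ⟶ M) : FibCat.overCat T ⥤ᵇ ofSp M :=
  BasedFunctor.comp (ofOverCat T) (ofSpMap a)

theorem yoneda_app {T : Over S} {F : AlgSp.Sp S} (a : (yon S).obj T ⟶ F) {V : Over S} (k : V ⟶ T) :
    (J S).uliftYonedaEquiv ((yon S).map k ≫ a) = a.hom.app (op V) ⟨k⟩ := by
  rw [GrothendieckTopology.uliftYonedaEquiv_comp, GrothendieckTopology.uliftYonedaEquiv_uliftYoneda_map]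

/-- Factoring through the equalizer. -/
theorem chart_eq_iff {T E : Over S} {g : (yon S).obj T ⟶ M ⨯ M} {fst : (yon S).obj E ⟶ M} {ι : E ⟶ T}
    (sq : IsPullback fst ((yon S).map ι) (Limits.diag M) g) (k : (FibCat.overCat T).obj) :
    (chart (g ≫ prod.fst)).obj k = (chart (g ≫ prod.snd)).obj k ↔ ∃ e : k.left ⟶ E, e ≫ ι = k.hom := by
  constructor
  · intro h
    have h1 := K734.Fib.elt_inj (T := k.left) h
    have h2 : (yon S).map k.hom ≫ g ≫ prod.fst = (yon S).map k.hom ≫ g ≫ prod.snd := by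
      apply (J S).uliftYonedaEquiv.injective
      rw [yoneda_app, yoneda_app]
      exact h1
    obtain ⟨e, he⟩ := (yon S).map_surjective
      (sq.lift ((yon S).map k.hom ≫ g ≫ prod.fst) ((yon S).map k.hom) (by
        apply Limits.prod.hom_ext
        · simp
        · simp [h2]))
    refine ⟨e, (yon S).map_injective ?_⟩
    rw [Functor.map_comp, he, sq.lift_snd]
  · rintro ⟨e, he⟩
    have h2 : (yon S).map k.hom ≫ g ≫ prod.fst = (yon S).map k.hom ≫ g ≫ prod.snd := by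
      rw [← he, Functor.map_comp]
      have h3 : (yon S).map ι ≫ g = fst ≫ Limits.diag M := sq.w.symm
      simp only [Category.assoc, reassoc_of% h3]
      simp
    have h1 := congrArg (J S).uliftYonedaEquiv h2
    rw [yoneda_app, yoneda_app] at h1
    exact congrArg (fun s => (⟨k.left, s⟩ : (ofSp M).obj)) h1

/-- The equalizer of the two maps to `M` detects the image of the diagonal. -/
theorem map_mem_range_iff (h𝒳 : FibCat.IsFibGrpd 𝒳.p) (hg : GeomPtBij π) {T E : Over S}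
    {g : (yon S).obj T ⟶ M ⨯ M} {fst : (yon S).obj E ⟶ M} {ι : E ⟶ T}
    (sq : IsPullback fst ((yon S).map ι) (Limits.diag M) g) {𝒲 : BasedCategory.{v', w'} (Over S)}
    (h𝒲 : FibCat.IsFibGrpd 𝒲.p) (q : 𝒲 ⥤ᵇ FibCat.overCat T) (H : 𝒲 ⥤ᵇ Pr 𝒳)
    (H1 : ∀ w, π.obj (H.obj w).obj.fst = (chart (g ≫ prod.fst)).obj (q.obj w))
    (H2 : ∀ w, π.obj (H.obj w).obj.snd = (chart (g ≫ prod.snd)).obj (q.obj w)) (z : Points 𝒲) :
    Points.map H z ∈ Set.range (Points.map (FibCat.diag (FibCat.toSelf 𝒳))) ↔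
      Points.map q z ∈ Set.range (Points.map (overMap ι)) := by
  have hT := K735.Fp.isFibGrpd_overCat T
  have hE := K735.Fp.isFibGrpd_overCat E
  obtain ⟨p, rfl⟩ := Points.mk_surjective z
  rw [AlgSt.Points.map_mk, mem_range_diag h𝒳 hg]
  constructor
  · rintro ⟨Ω, _, _, t, h, φ, hb, he⟩
    obtain ⟨w', ψ, hψ⟩ := K734.Fib.exists_lift h𝒲 (H.w_obj p.obj).symm ((Pr 𝒳).p.map φ)
    have hHψ : (Pr 𝒳).p.IsHomLift ((Pr 𝒳).p.map φ) (H.map ψ) := BasedFunctor.preserves_isHomLift H _ _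
    have hbw : 𝒲.p.obj w' = Over.mk t := (IsHomLift.domain_eq 𝒲.p ((Pr 𝒳).p.map φ) ψ).trans hb
    have hbH : (Pr 𝒳).p.obj (H.obj w') = (Pr 𝒳).p.obj h := IsHomLift.domain_eq (Pr 𝒳).p ((Pr 𝒳).p.map φ) (H.map ψ)
    have hheq : (Pr 𝒳).p.map (H.map ψ) ≍ (Pr 𝒳).p.map φ := heq_of_lift hHψ
    have e1 : π.obj (H.obj w').obj.fst = π.obj h.obj.fst :=
      obj_eq_of_hom π (H.map ψ).hom.fst φ.hom.fst hbH hheq
    have e2 : π.obj (H.obj w').obj.snd = π.obj h.obj.snd :=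
      obj_eq_of_hom π (H.map ψ).hom.snd φ.hom.snd ((fp_snd_eq _).trans (hbH.trans (fp_snd_eq _).symm))
        (((prod_w _ _).1 (H.map ψ).hom.w).symm.trans (hheq.trans ((prod_w _ _).1 φ.hom.w)))
    obtain ⟨e, hee⟩ := (chart_eq_iff sq (q.obj w')).1 ((H1 w').symm.trans (e1.trans (he.trans (e2.symm.trans (H2 w')))))
    have hq : (FibCat.overCat T).p.obj (q.obj w') = Over.mk t := (q.w_obj w').trans hbw
    refine ⟨Points.mk ⟨Ω, t, Over.mk e, hq⟩, ?_⟩
    rw [AlgSt.Points.map_mk, AlgSt.Points.map_mk]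
    refine mk_eq_of_hom (p := FPt.map (overMap ι) ⟨Ω, t, Over.mk e, hq⟩) ?_
    refine (Over.isoMk (Iso.refl _) ?_ : (Over.mk (e ≫ ι) : Over T) ≅ q.obj w').hom ≫ q.map ψ
    simpa using hee.symm
  · rintro ⟨r, hr⟩
    obtain ⟨r, rfl⟩ := Points.mk_surjective r
    obtain ⟨w, a, b, -⟩ := exists_fp_of_rel hE h𝒲 hT q (overMap ι) p r
      ((mk_eq_mk_iff hT).1 (show Points.mk (p.map q) = Points.mk (r.map (overMap ι)) from hr.symm))
    obtain ⟨Ω, hΩ, hΩ', t, ⟨f⟩⟩ := K746.GeomBij.exists_geom w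
    obtain ⟨c, φ, hφ⟩ := K734.Fib.exists_lift (isFibGrpd_fp h𝒲 hE hT q (overMap ι)) w.lies f
    have hb : (FibCat.fp q (overMap ι)).p.obj c = Over.mk t := IsHomLift.domain_eq (FibCat.fp q (overMap ι)).p f φ
    refine ⟨Ω, hΩ, hΩ', t, H.obj c.obj.fst, H.map (φ.hom.fst ≫ a), (H.w_obj _).trans hb, ?_⟩
    rw [H1, H2]
    refine (chart_eq_iff sq _).2 ⟨c.obj.iso.hom.left ≫ c.obj.snd.hom, ?_⟩
    rw [Category.assoc]
    exact Over.w c.obj.iso.hom

/-- Functors from a scheme to `ofSp M` are charts. -/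
theorem exists_chart {U : Over S} (v : FibCat.overCat U ⥤ᵇ ofSp M) :
    ∃ a : (yon S).obj U ⟶ M, ∀ k, v.obj k = (chart a).obj k := by
  let s : M.obj.obj (op U) := K734.Fib.secOf v (Over.mk (𝟙 U)) rfl
  refine ⟨(GrothendieckTopology.uliftYonedaEquiv.{u + 1} (J S)).symm s, fun k => ?_⟩
  rw [K734.Fib.secOf_spec v k (rfl : (FibCat.overCat U).p.obj k = k.left)]
  change (⟨k.left, _⟩ : (ofSp M).obj) = ⟨k.left,
    ((GrothendieckTopology.uliftYonedaEquiv.{u + 1} (J S)).symm s).hom.app (op k.left) ⟨k.hom⟩⟩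
  congr 1
  rw [GrothendieckTopology.uliftYonedaEquiv_symm_app_apply]
  let φ : k ⟶ (Over.mk (𝟙 U) : (FibCat.overCat U).obj) := Over.homMk k.hom (by simp)
  have hφ : (FibCat.overCat U).p.IsHomLift k.hom φ := IsHomLift.map (FibCat.overCat U).p φ
  exact (K734.Fib.secOf_map v rfl rfl hφ).symm

end

section Main

variable [QuasiSeparatedSpace S] {𝒳 : AlgSt.Cat S} (h𝒳 : IsAlgStack Scheme.fppfPrecoverage 𝒳)
  (M : Space S) (hM : IsQuasiSeparatedSp M.obj) (π : 𝒳 ⥤ᵇ ofSp M.obj)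
  (hqc : IsQuasiCompactMor Scheme.fppfPrecoverage π) (hqs : IsQuasiSeparatedMor π)
  (h : IsGoodModuli π) (hg : GeomPtBij π)

omit [QuasiSeparatedSpace S] in
theorem range_overMap {T E : Over S} (ι : E ⟶ T) (t : ↥T.left) :
    Points.ofChart (BasedFunctor.id (FibCat.overCat T)) t ∈ Set.range (Points.map (overMap ι)) ↔
      t ∈ Set.range ι.left := by
  constructor
  · rintro ⟨z, hz⟩
    obtain ⟨e, rfl⟩ := exists_ofChart_id z
    rw [K735.ClosedLim.map_overMap] at hz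
    exact ⟨e, (ofChart_id_bijective T).1 hz⟩
  · rintro ⟨e, rfl⟩
    exact ⟨_, K735.ClosedLim.map_overMap ι e⟩

omit [QuasiSeparatedSpace S] in
include h𝒳 hg in
theorem isClosed_range (hs : IsSeparatedSp M.obj) :
    IsClosed (Set.range (Points.map (FibCat.diag (FibCat.toSelf 𝒳)))) := by
  rw [← isOpen_compl_iff]
  intro U x _
  obtain ⟨a₁, h1⟩ := exists_chart (BasedFunctor.comp (BasedFunctor.comp x (FibCat.fpFst _ _)) π)
  obtain ⟨a₂, h2⟩ := exists_chart (BasedFunctor.comp (BasedFunctor.comp x (FibCat.fpSnd _ _)) π)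
  obtain ⟨E, ι, fst, sq⟩ := hs.1 (prod.lift a₁ a₂)
  have hcl : IsClosedImmersion ι.left := hs.2 _ _ _ sq
  have key : Points.ofChart x ⁻¹' (Set.range (Points.map (FibCat.diag (FibCat.toSelf 𝒳)))) = Set.range ι.left := by
    ext t
    rw [Set.mem_preimage, ofChart_eq_map, ← range_overMap, ← K735.Pts.map_id (Points.ofChart _ t)]
    rw [map_mem_range_iff h𝒳.isStack.1 hg sq (K735.Fp.isFibGrpd_overCat U) (BasedFunctor.id _) x
      (fun w => (h1 w).trans ?_) (fun w => (h2 w).trans ?_)]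
    · rw [K735.Pts.map_id]
    · rw [prod.lift_fst]; rfl
    · rw [prod.lift_snd]; rfl
  rw [Set.preimage_compl, key]
  exact (ι.left.isClosedEmbedding.isClosed_range).isOpen_compl

include h𝒳 hM hqc hqs h hg in
theorem isSeparated_of_isClosed (hls : IsLocallySeparatedSp M.obj)
    (hcl : IsClosed (Set.range (Points.map (FibCat.diag (FibCat.toSelf 𝒳))))) : IsSeparatedSp M.obj := by
  refine ⟨hls.1, fun T E g fst ι sq => ?_⟩
  have himm : IsImmersion ι.left := hls.2 _ _ _ sq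
  have hT := K744.AlgOver.isAlgStack_overCat T
  let m₁ : FibCat.overCat T ⥤ᵇ ofSp M.obj := chart (g ≫ prod.fst)
  let m₂ : FibCat.overCat T ⥤ᵇ ofSp M.obj := chart (g ≫ prod.snd)
  let q₁ : FibCat.fp m₁ π ⥤ᵇ FibCat.overCat T := FibCat.fpFst m₁ π
  have h𝒯₁ := GoodFp.isAlgStack_fp h𝒳 M π hT m₁
  let q₂ : FibCat.fp (BasedFunctor.comp q₁ m₂) π ⥤ᵇ FibCat.fp m₁ π := FibCat.fpFst (BasedFunctor.comp q₁ m₂) π
  have h𝒯₂ := GoodFp.isAlgStack_fp h𝒳 M π h𝒯₁ (BasedFunctor.comp q₁ m₂)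
  have hs := GoodFp.isSurjective h𝒳 M hM π hqc hqs h
  have hu := GoodFp.isUnivClosed h𝒳 M hM π hqc hqs h
  have hsp := K740.SpDM.isAlgStack_ofSp M.property
  have hc1 : IsClosedMap (Points.map q₁) := hu _ hT m₁
  have hc2 : IsClosedMap (Points.map q₂) := hu _ h𝒯₁ _
  have hs1 : Function.Surjective (Points.map q₁) :=
    surjective_fpFst h𝒳.isStack.1 hT.isStack.1 hsp.isStack.1 m₁ π hs
  have hs2 : Function.Surjective (Points.map q₂) :=
    surjective_fpFst h𝒳.isStack.1 h𝒯₁.isStack.1 hsp.isStack.1 _ π hs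
  let q : FibCat.fp (BasedFunctor.comp q₁ m₂) π ⥤ᵇ FibCat.overCat T := BasedFunctor.comp q₂ q₁
  let H : FibCat.fp (BasedFunctor.comp q₁ m₂) π ⥤ᵇ Pr 𝒳 :=
    FibCat.fpLift (BasedFunctor.comp q₂ (FibCat.fpSnd m₁ π)) (FibCat.fpSnd _ π) (selfIso _ _)
  have key := map_mem_range_iff h𝒳.isStack.1 hg sq h𝒯₂.isStack.1 q H
    (fun w => (K734.Fib.obj_eq_of_iso (FibCat.fpIso m₁ π) (q₂.obj w)).symm)
    (fun w => (K734.Fib.obj_eq_of_iso (FibCat.fpIso (BasedFunctor.comp q₁ m₂) π) w).symm)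
  have himg : Set.range (Points.map (overMap ι)) =
      Points.map q₁ '' (Points.map q₂ '' (Points.map H ⁻¹' Set.range (Points.map (FibCat.diag (FibCat.toSelf 𝒳))))) := by
    ext t
    constructor
    · intro ht
      obtain ⟨z₁, rfl⟩ := hs1 t
      obtain ⟨z₂, rfl⟩ := hs2 z₁
      refine ⟨_, ⟨z₂, (key z₂).2 ?_, rfl⟩, rfl⟩
      rwa [← K735.Pts.map_comp] at ht
    · rintro ⟨_, ⟨z₂, hz₂, rfl⟩, rfl⟩
      have := (key z₂).1 hz₂
      rwa [← K735.Pts.map_comp]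
  have hcont : Continuous (Points.map H) := continuous_map (chartCont_of_isAlgStack (K734.Rep.isAlgStack_prod h𝒳 h𝒳)) H
  have hcl2 : IsClosed (Set.range (Points.map (overMap ι))) := by
    rw [himg]
    exact hc1 _ (hc2 _ (hcl.preimage hcont))
  have hcl3 : IsClosed (Set.range ι.left) := by
    have := hcl2.preimage (continuous_ofChart_id T)
    convert this using 1
    ext t
    exact (range_overMap ι t).symm
  exact IsClosedImmersion.of_isPreimmersion ι.left hcl3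

include h𝒳 hM hqc hqs h hg in
theorem isSeparatedSp_iff (hls : IsLocallySeparatedSp M.obj) :
    IsSeparatedSp M.obj ↔ IsClosed (Set.range (Points.map (FibCat.diag (FibCat.toSelf 𝒳)))) :=
  ⟨isClosed_range h𝒳 M π hg, isSeparated_of_isClosed h𝒳 M hM π hqc hqs h hg hls⟩

end Main

end K907.DiagPt
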