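import Groth.Agent.StMod.K907.Quot
import Groth.Agent.StMod.K906.Pres

/-!
# Smooth atlases, kernels and images of morphisms of quasi-coherent modules

* `SmCov Z`: the family of affine objects `Z` is a smooth atlas with smooth charts of the fibre products;
  `smCov_of_smAtlas`, `smCov_of_pres`;
* `compat_of`, `all_eq_of_smooth`;
* `appLin`, `kerSub f ξ`, `pull_kerSub` (flat arrows), `exists_image`.
-/

set_option autoImplicit false
set_option linter.unusedVariables false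
set_option linter.style.haveILetI false
set_option backward.isDefEq.respectTransparency false
set_option backward.isDefEq.respectTransparency.types false

universe t w v u

open CategoryTheory CategoryTheory.Limits AlgebraicGeometry Opposite StMod

namespace K907.Alg

open Groth.Agent.CohqA.BaseChangeMod

variable {A B : Type u} [CommRing A] [CommRing B]

/-- The kernel commutes with flat base change. -/
theorem ext_ker_eq {φ : A →+* B} (hφ : φ.Flat) {M W M₁ W₁ : Type u} [AddCommGroup M] [Module A M]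
    [AddCommGroup W] [Module A W] [AddCommGroup M₁] [Module B M₁] [AddCommGroup W₁] [Module B W₁]
    {f : M →+ M₁} {g : W →+ W₁} (hf : IsBC φ f) (hg : IsBC φ g) (d : M →ₗ[A] W) (d' : M₁ →ₗ[B] W₁)
    (comm : ∀ x, d' (f x) = g (d x)) : (ext f (LinearMap.ker d) : Submodule B M₁) = LinearMap.ker d' := by
  have hle : (ext f (LinearMap.ker d) : Submodule B M₁) ≤ LinearMap.ker d' := by
    rw [ext_le]
    intro x hx
    rw [LinearMap.mem_ker, comm, LinearMap.mem_ker.1 hx, map_zero]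
  refine le_antisymm hle ?_
  intro x hx
  let d₁ : (M ⧸ LinearMap.ker d) →ₗ[A] W := (LinearMap.ker d).liftQ d le_rfl
  let d₁' : (M₁ ⧸ (ext f (LinearMap.ker d) : Submodule B M₁)) →ₗ[B] W₁ :=
    (ext f (LinearMap.ker d) : Submodule B M₁).liftQ d' hle
  have h1 : Function.Injective d₁ := by
    rw [← LinearMap.ker_eq_bot]
    exact Submodule.ker_liftQ_eq_bot _ _ _ le_rfl
  have h2 : Function.Injective d₁' := injective_of_flat hφ (isBC_quotMap hf (LinearMap.ker d)) hg d₁ d₁'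
    (fun x => by
      induction x using Submodule.Quotient.induction_on with
      | H x => exact comm x) h1
  have h3 : d₁' (Submodule.Quotient.mk x) = d₁' 0 := by
    rw [map_zero]
    exact LinearMap.mem_ker.1 hx
  exact (Submodule.Quotient.mk_eq_zero _).1 (h2 h3)

end K907.Alg

namespace K907.Atl

open Groth.Agent.CohqA.BaseChangeMod K907.Alg K907.Sec K907.QDesc K907.Quot

variable {S : Scheme.{u}} {𝒳 : BasedCategory.{v, w} (Over S)}

/-- A smooth atlas with smooth charts of its fibre products. -/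
structure SmCov {J : Type t} (Z : J → 𝒳.obj) : Prop where
  aff : ∀ j, IsAffine (sch 𝒳 (Z j))
  cov : ∀ z : 𝒳.obj, IsAffine (sch 𝒳 z) → ∃ (z' : 𝒳.obj) (f : z' ⟶ z) (j : J) (_ : z' ⟶ Z j),
    IsAffine (sch 𝒳 z') ∧ Smooth (bmap 𝒳 f) ∧ Surjective (bmap 𝒳 f)
  span : ∀ (z : 𝒳.obj) (i j : J) (a : z ⟶ Z i) (b : z ⟶ Z j), IsAffine (sch 𝒳 z) →
    ∃ (z' θ : 𝒳.obj) (f : z' ⟶ z) (p : θ ⟶ Z i) (q : θ ⟶ Z j) (e : z' ⟶ θ),
      IsAffine (sch 𝒳 z') ∧ IsAffine (sch 𝒳 θ) ∧ IsFCov f ∧ Smooth (bmap 𝒳 p) ∧ Smooth (bmap 𝒳 q) ∧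
        e ≫ p = f ≫ a ∧ e ≫ q = f ≫ b

theorem isFCov_of_smooth {ξ' ξ : 𝒳.obj} {φ : ξ' ⟶ ξ} (h : Smooth (bmap 𝒳 φ)) (h' : Surjective (bmap 𝒳 φ)) :
    IsFCov φ := ⟨inferInstance, h'⟩

theorem smCov_of_smAtlas (A : K906.SmAtlas 𝒳) : SmCov A.Z where
  aff := A.affine
  cov := A.cov
  span z i j a b hz := by
    obtain ⟨z', θ, f, p, q, e, h1, h2, h3, h4, h5, h6, h7⟩ := A.span z (A.Z i) j a b hz
    exact ⟨z', θ, f, p, q, e, h1, h2, isFCov_of_smooth inferInstance h4, A.smooth _ _ _ _ _ h5,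
      A.smooth _ _ _ _ _ h5.swap, h6, h7⟩

theorem smCov_of_pres (P : K906.Pres 𝒳) : SmCov (fun _ : PUnit.{t + 1} => P.ζ) where
  aff _ := P.affζ
  cov z hz := by
    obtain ⟨z', f, d, h⟩ := P.cov z hz
    exact ⟨z', f, ⟨⟩, d, h⟩
  span z i j a b hz := by
    obtain ⟨z', f, e, h1, h2, h3, h4, h5⟩ := P.lift z a b hz
    exact ⟨z', P.ρ, f, P.s, P.t, e, h1, P.affρ, isFCov_of_smooth inferInstance h3, P.smooth_s, P.smooth_t, h4, h5⟩

variable {J : Type t} {Z : J → 𝒳.obj} {F G : QCoh 𝒳}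

theorem SmCov.covers (hZ : SmCov Z) : Covers Z := by
  intro ξ hξ
  obtain ⟨z', f, j, d, h1, h2, h3⟩ := hZ.cov ξ hξ
  exact ⟨⟨z', h1, f, isFCov_of_smooth h2 h3, j, d⟩⟩

/-- Compatibility from the values on smooth charts. -/
theorem SmCov.compat (hZ : SmCov Z) {K : Fam Z F}
    (L : ∀ θ : 𝒳.obj, Submodule Γ(sch 𝒳 θ, ⊤) Γ(F.obj.obj θ, ⊤))
    (hL : ∀ ⦃θ : 𝒳.obj⦄ ⦃j : J⦄ (p : θ ⟶ Z j), IsAffine (sch 𝒳 θ) → Smooth (bmap 𝒳 p) → pull p (K j) = L θ) :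
    Compat K := by
  haveI := hZ.aff
  refine Compat.of_local fun z hz i j a b => ?_
  obtain ⟨z', θ, f, p, q, e, h1, h2, h3, h4, h5, h6, h7⟩ := hZ.span z i j a b hz
  refine ⟨z', f, h1, h3, ?_⟩
  rw [← h6, ← h7, pull_comp, pull_comp, hL p h2 h4, hL q h2 h5]

theorem all_eq_pull (h𝒳 : FibCat.IsFibGrpd 𝒳.p) (hZ : Covers Z) {K : Fam Z F} (hK : Compat K) {ξ : 𝒳.obj}
    [IsAffine (sch 𝒳 ξ)] {j : J} [IsAffine (sch 𝒳 (Z j))] (p : ξ ⟶ Z j) : all hZ K ξ = pull p (K j) := by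
  rw [← all_atlas h𝒳 hZ hK j, pull_all h𝒳 hZ hK p]

section Ker

/-- The linear map on global sections under a morphism. -/
noncomputable def appLin (f : F ⟶ G) (ξ : 𝒳.obj) : Γ(F.obj.obj ξ, ⊤) →ₗ[Γ(sch 𝒳 ξ, ⊤)] Γ(G.obj.obj ξ, ⊤) :=
  { ((f.hom.app ξ).app ⊤).hom with
    map_smul' := fun r x => Scheme.Modules.Hom.app_smul (f.hom.app ξ) r x }

theorem appLin_apply (f : F ⟶ G) (ξ : 𝒳.obj) (x : Γ(F.obj.obj ξ, ⊤)) :
    appLin f ξ x = (f.hom.app ξ).app ⊤ x := rfl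

theorem appLin_mapTop (f : F ⟶ G) {ξ' ξ : 𝒳.obj} (φ : ξ' ⟶ ξ) (x : Γ(F.obj.obj ξ, ⊤)) :
    appLin f ξ' (F.obj.mapTop φ x) = G.obj.mapTop φ (appLin f ξ x) := (Mod.mapTop_app f.hom φ x).symm

/-- The kernel on global sections. -/
noncomputable def kerSub (f : F ⟶ G) (ξ : 𝒳.obj) : Submodule Γ(sch 𝒳 ξ, ⊤) Γ(F.obj.obj ξ, ⊤) :=
  LinearMap.ker (appLin f ξ)

theorem mem_kerSub {f : F ⟶ G} {ξ : 𝒳.obj} {x : Γ(F.obj.obj ξ, ⊤)} :
    x ∈ kerSub f ξ ↔ (f.hom.app ξ).app ⊤ x = 0 := Iff.rfl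

theorem pull_kerSub (f : F ⟶ G) {ξ' ξ : 𝒳.obj} (φ : ξ' ⟶ ξ) [IsAffine (sch 𝒳 ξ)] [IsAffine (sch 𝒳 ξ')]
    (h : Flat (bmap 𝒳 φ)) : pull φ (kerSub f ξ) = kerSub f ξ' :=
  ext_ker_eq (ringMap_flat φ h) (isBC_resTop F φ) (isBC_resTop G φ) (appLin f ξ) (appLin f ξ')
    (fun x => appLin_mapTop f φ x)

theorem pull_kerSub_le (f : F ⟶ G) {ξ' ξ : 𝒳.obj} (φ : ξ' ⟶ ξ) : pull φ (kerSub f ξ) ≤ kerSub f ξ' := by
  unfold pull
  rw [ext_le]
  intro x hx
  rw [mem_kerSub]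
  have := appLin_mapTop f φ x
  rw [show appLin f ξ x = 0 from hx, Mod.mapTop_zero] at this
  exact this

/-- The image of a morphism of quasi-coherent modules: `f = q ≫ i` with `q` surjective and `i` injective on the smooth
charts. -/
theorem exists_image (h𝒳 : FibCat.IsFibGrpd 𝒳.p) (hZ : SmCov Z) (f : F ⟶ G) :
    ∃ (I : QCoh 𝒳) (q : F ⟶ I) (i : I ⟶ G), q ≫ i = f ∧ Mod.IsSurj q.hom ∧
      ∀ (ξ : 𝒳.obj) (j : J) (p : ξ ⟶ Z j), IsAffine (sch 𝒳 ξ) → Flat (bmap 𝒳 p) →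
        Function.Injective ((i.hom.app ξ).app ⊤) := by
  haveI := hZ.aff
  let K : Fam Z F := fun j => kerSub f (Z j)
  have hK : Compat K := hZ.compat (kerSub f) fun θ j p hθ hp => pull_kerSub f p inferInstance
  obtain ⟨I, q, hq, hker⟩ := exists_quotient_atlas h𝒳 hZ.covers F hK
  have hle : ∀ (ξ : 𝒳.obj) [IsAffine (sch 𝒳 ξ)], all hZ.covers K ξ ≤ kerSub f ξ := by
    intro ξ hξ x hx
    let c := (hZ.covers ξ inferInstance).some
    rw [mem_all_iff h𝒳 hZ.covers hK c] at hx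
    have h1 := pull_kerSub_le f c.d hx
    rw [← pull_kerSub f c.f c.cov.flat, mem_pull_iff c.f c.cov] at h1
    exact h1
  obtain ⟨i, hi⟩ := exists_factor h𝒳 q hq f fun ξ hξ x hx => hle ξ ((hker ξ x).1 hx)
  refine ⟨I, q, i, hi, hq, ?_⟩
  intro ξ j p hξ hp
  have h1 : Function.Injective (appLin i ξ) := by
    rw [← LinearMap.ker_eq_bot, LinearMap.ker_eq_bot']
    intro x hx
    obtain ⟨y, rfl⟩ := hq ξ hξ x
    have h2 : appLin f ξ y = 0 := by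
      rw [← hi]
      exact hx
    refine (hker ξ y).2 ?_
    rw [all_eq_pull h𝒳 hZ.covers hK p, show K j = kerSub f (Z j) from rfl, pull_kerSub f p hp]
    exact h2
  exact h1

end Ker

end K907.Atl
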