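import Groth.Agent.StMod.K907.FibTerm
import Groth.Agent.StMod.K907.Atl
import Groth.Agent.StMod.K908.Dense
import Groth.Agent.StMod.K906.SchFac

/-!
# Generating classes of affine objects (not closed under arrows)

`GenCl P`: every affine object has a faithfully flat covering with an arrow to an object of the class `P`, and two arrows
to objects of `P` factor, after a covering, through a span in `P`.  Global sections of a quasi-coherent module are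
families on `P` compatible with the arrows between objects of `P` (`exists_globSect`, `globSect_ext`).

`genCl_fib`: for `E` affine étale over `M` and a smooth atlas `Z` of `𝒳`, the class of the affine objects of
`fibCat π (etaOf E)` with a flat arrow to some `Z j`.
-/

set_option autoImplicit false
set_option linter.unusedVariables false
set_option linter.style.haveILetI false
set_option backward.isDefEq.respectTransparency false
set_option backward.isDefEq.respectTransparency.types false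

universe t w' v' w v u

open CategoryTheory CategoryTheory.Limits AlgebraicGeometry Opposite StMod AlgSt AlgSp

namespace K907.Gen

open K906 K907.Sec K907.Atl K907.QDesc K908.AMod

variable {S : Scheme.{u}} {𝒳 : BasedCategory.{v, w} (Over S)}

/-- A generating class of affine objects. -/
structure GenCl (P : 𝒳.obj → Prop) : Prop where
  aff : ∀ x, P x → IsAffine (sch 𝒳 x)
  cov : ∀ x, IsAffine (sch 𝒳 x) → ∃ (x' : 𝒳.obj) (f : x' ⟶ x) (y : 𝒳.obj) (_ : x' ⟶ y),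
    IsAffine (sch 𝒳 x') ∧ IsFCov f ∧ P y
  span : ∀ (x y₁ y₂ : 𝒳.obj) (a : x ⟶ y₁) (b : x ⟶ y₂), IsAffine (sch 𝒳 x) → P y₁ → P y₂ →
    ∃ (x' y : 𝒳.obj) (f : x' ⟶ x) (p : y ⟶ y₁) (q : y ⟶ y₂) (e : x' ⟶ y),
      IsAffine (sch 𝒳 x') ∧ IsFCov f ∧ P y ∧ e ≫ p = f ≫ a ∧ e ≫ q = f ≫ b

variable {P : 𝒳.obj → Prop}

/-- The sieve generated by the class. -/
def GenCl.sieve (P : 𝒳.obj → Prop) : ASieve 𝒳 where
  P x := IsAffine (sch 𝒳 x) ∧ ∃ (y : 𝒳.obj) (_ : x ⟶ y), P y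
  aff _ h := h.1
  down _ _ φ h h' := ⟨h', h.2.choose, φ ≫ h.2.choose_spec.choose, h.2.choose_spec.choose_spec⟩

theorem GenCl.dense (h : GenCl P) : K908.Desc.Dense (GenCl.sieve P) := by
  intro ξ hξ
  obtain ⟨x', f, y, e, h1, h2, h3⟩ := h.cov ξ hξ
  exact ⟨⟨x', h1, y, e, h3⟩, f, h2⟩

/-- Restriction of global sections along a covering is injective. -/
theorem mapTop_injective (F : QCoh 𝒳) {ξ' ξ : 𝒳.obj} (φ : ξ' ⟶ ξ) (hξ : IsAffine (sch 𝒳 ξ)) (hξ' : IsAffine (sch 𝒳 ξ'))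
    (h : IsFCov φ) {x y : Γ(F.obj.obj ξ, ⊤)} (hxy : F.obj.mapTop φ x = F.obj.mapTop φ y) : x = y :=
  K908.Desc.map_injective (C := ASieve.all 𝒳) (K908.QSec.rest F.obj (ASieve.all 𝒳)) (K908.QSec.rest_isCart F _)
    (ζ' := ⟨ξ', hξ'⟩) (ζ := ⟨ξ, hξ⟩) (ObjectProperty.homMk φ) h hxy

/-- Global sections are determined on a generating class. -/
theorem GenCl.globSect_ext [hX : FibCat.IsFibGrpd 𝒳.p] (h : GenCl P) (F : QCoh 𝒳) {s t : F.obj.GlobSect}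
    (hst : ∀ y, P y → s.1 y = t.1 y) : s = t := by
  refine K908.Dense.globSect_ext h.dense F fun ζ => ?_
  obtain ⟨h1, y, e, hy⟩ := ζ.property
  rw [← s.2 e, ← t.2 e, hst y hy]

/-- Global sections from compatible families on a generating class. -/
theorem GenCl.exists_globSect [hX : FibCat.IsFibGrpd 𝒳.p] (h : GenCl P) (F : QCoh 𝒳)
    (s : ∀ y, P y → Γ(F.obj.obj y, ⊤))
    (hs : ∀ ⦃y' y : 𝒳.obj⦄ (φ : y' ⟶ y) (hy' : P y') (hy : P y), F.obj.mapTop φ (s y hy) = s y' hy') :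
    ∃ t : F.obj.GlobSect, ∀ y (hy : P y), t.1 y = s y hy := by
  have key : ∀ (x y₁ y₂ : 𝒳.obj) (a : x ⟶ y₁) (b : x ⟶ y₂), IsAffine (sch 𝒳 x) → ∀ (h₁ : P y₁) (h₂ : P y₂),
      F.obj.mapTop a (s y₁ h₁) = F.obj.mapTop b (s y₂ h₂) := by
    intro x y₁ y₂ a b hx h₁ h₂
    obtain ⟨x', y, f, p, q, e, hx', hf, hy, h3, h4⟩ := h.span x y₁ y₂ a b hx h₁ h₂
    refine mapTop_injective F f hx hx' hf ?_
    rw [← Mod.mapTop_comp, ← Mod.mapTop_comp, ← h3, ← h4, Mod.mapTop_comp, Mod.mapTop_comp, hs p hy h₁, hs q hy h₂]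
  obtain ⟨t, ht⟩ := K908.Dense.exists_globSect h.dense F
    (fun ζ => F.obj.mapTop ζ.property.2.choose_spec.choose (s ζ.property.2.choose ζ.property.2.choose_spec.choose_spec))
    (fun ζ' ζ φ => by
      rw [← Mod.mapTop_comp]
      exact key _ _ _ _ _ ζ'.property.1 _ _)
  refine ⟨t, fun y hy => ?_⟩
  have h1 := ht ⟨y, h.aff y hy, y, 𝟙 y, hy⟩
  refine h1.trans ?_
  refine (key _ _ _ _ (𝟙 y) (h.aff y hy) _ hy).trans ?_
  rw [Mod.mapTop_id]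

/-- An open and closed subset of an affine scheme is affine. -/
theorem isAffineOpen_of_isClosed {X : Scheme.{u}} [IsAffine X] (W : X.Opens) (h : IsClosed (W : Set X)) :
    IsAffineOpen W := by
  have h1 : IsClosedImmersion W.ι := IsClosedImmersion.of_isPreimmersion _ (by
    rw [Scheme.Opens.range_ι]
    exact h)
  exact isAffine_of_isAffineHom W.ι

section Fib

variable {M : Sp S} (h𝒳 : FibCat.IsFibGrpd 𝒳.p) (π : 𝒳 ⥤ᵇ ofSp M) (E : EtOver M) {J : Type t} (Z : J → 𝒳.obj)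

/-- The objects of `𝒳_E` over affine schemes, flat over some `Z j`. -/
def FlCl (y : (fibCat π (etaOf E)).obj) : Prop :=
  IsAffine (sch (fibCat π (etaOf E)) y) ∧ ∃ (j : J) (d : FObj.pt y ⟶ Z j), Flat (bmap 𝒳 d)

variable {Z}

include h𝒳 in
theorem cov_fib_etale (hZ : SmCov Z) (x : (fibCat π (etaOf E)).obj)
    (hx : IsAffine (sch (fibCat π (etaOf E)) x)) :
    ∃ (x' : (fibCat π (etaOf E)).obj) (f : x' ⟶ x) (y : (fibCat π (etaOf E)).obj) (_ : x' ⟶ y),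
      IsAffine (sch (fibCat π (etaOf E)) x') ∧ IsFCov f ∧ IsAffine (sch (fibCat π (etaOf E)) y) ∧
        ∃ (j : J) (d : FObj.pt y ⟶ Z j), Etale (bmap 𝒳 d) := by
  obtain ⟨z', f, j, d, h1, h2, h3⟩ := hZ.cov (FObj.pt x) hx
  let x₁ : FObj π (etaOf E) := ⟨z', π.map f ≫ FObj.arr x⟩
  obtain ⟨y, φ, hφ, het, -, -⟩ := FibTerm.exists_fibObj h𝒳 π E (Z j)
  obtain ⟨c, hc, -⟩ := hφ x₁ d
  have haff : IsAffine (sch 𝒳 z') := h1
  obtain ⟨V, V', g, e, k, hV, hV', hg, hgs, hk, hgk⟩ := SchFac.exists_affine_factor (bmap 𝒳 c.hom)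
  obtain ⟨z₂, l, i, hi⟩ := Grpd.exists_lift_sch h𝒳 z' g
  obtain ⟨z₃, l', i', hi'⟩ := Grpd.exists_lift_sch h𝒳 y.pt k
  obtain ⟨χ, ⟨hχ1, hχ2⟩, -⟩ := Grpd.existsUnique_hom_sch h𝒳 l' (l ≫ c.hom) (i.hom ≫ e ≫ i'.inv) (by
    rw [hi', bmap_comp, hi, Category.assoc, Category.assoc, Iso.inv_hom_id_assoc, ← hgk, Category.assoc])
  let x₂ : FObj π (etaOf E) := ⟨z₂, π.map l ≫ x₁.arr⟩
  let y₂ : FObj π (etaOf E) := ⟨z₃, π.map l' ≫ y.arr⟩
  refine ⟨x₂, FObj.mkHom (l ≫ f) ?_, y₂, FObj.mkHom χ ?_, ?_, ?_, ?_, ?_⟩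
  · rw [Functor.map_comp, Category.assoc]
  · change π.map χ ≫ π.map l' ≫ y.arr = π.map l ≫ x₁.arr
    rw [← Category.assoc, ← Functor.map_comp, hχ2, Functor.map_comp, Category.assoc]
    rw [c.comm]
  · exact IsAffine.of_isIso i.hom
  · constructor
    · change Flat (bmap 𝒳 (l ≫ f))
      rw [bmap_comp, hi]
      infer_instance
    · change Surjective (bmap 𝒳 (l ≫ f))
      rw [bmap_comp, hi]
      infer_instance
  · exact IsAffine.of_isIso i'.hom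
  · refine ⟨j, l' ≫ φ, ?_⟩
    rw [bmap_comp, hi']
    infer_instance

include h𝒳 in
theorem cov_fib (hZ : SmCov Z) (x : (fibCat π (etaOf E)).obj)
    (hx : IsAffine (sch (fibCat π (etaOf E)) x)) :
    ∃ (x' : (fibCat π (etaOf E)).obj) (f : x' ⟶ x) (y : (fibCat π (etaOf E)).obj) (_ : x' ⟶ y),
      IsAffine (sch (fibCat π (etaOf E)) x') ∧ IsFCov f ∧ FlCl π E Z y := by
  obtain ⟨x', f, y, e, h1, h2, h3, j, d, h4⟩ := cov_fib_etale h𝒳 π E hZ x hx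
  exact ⟨x', f, y, e, h1, h2, h3, j, d, inferInstance⟩

include h𝒳 in
theorem span_fib (hE : IsAffine E.obj.left.left) (hZ : SmCov Z) (x y₁ y₂ : (fibCat π (etaOf E)).obj) (a : x ⟶ y₁)
    (b : x ⟶ y₂) (hx : IsAffine (sch (fibCat π (etaOf E)) x)) (h₁ : FlCl π E Z y₁) (h₂ : FlCl π E Z y₂) :
    ∃ (x' y : (fibCat π (etaOf E)).obj) (f : x' ⟶ x) (p : y ⟶ y₁) (q : y ⟶ y₂) (e : x' ⟶ y),
      IsAffine (sch (fibCat π (etaOf E)) x') ∧ IsFCov f ∧ FlCl π E Z y ∧ e ≫ p = f ≫ a ∧ e ≫ q = f ≫ b := by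
  obtain ⟨haff₁, i, d₁, hd₁⟩ := h₁
  obtain ⟨haff₂, j, d₂, hd₂⟩ := h₂
  obtain ⟨z', θ, f, p, q, e, h1, h2, h3, h4, h5, h6, h7⟩ :=
    hZ.span (FObj.pt x) i j (FObj.Hom.hom a ≫ d₁) (FObj.Hom.hom b ≫ d₂) hx
  obtain ⟨θ₁, k₁, l₁, sq₁⟩ := Grpd.exists_isPullback h𝒳 p d₁
  obtain ⟨θ₂, k₂, l₂, sq₂⟩ := Grpd.exists_isPullback h𝒳 (k₁ ≫ q) d₂
  have hai : IsAffine (sch 𝒳 (Z i)) := hZ.aff i
  have haj : IsAffine (sch 𝒳 (Z j)) := hZ.aff j
  have ha₁ : IsAffine (sch 𝒳 (FObj.pt y₁)) := haff₁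
  have ha₂ : IsAffine (sch 𝒳 (FObj.pt y₂)) := haff₂
  have s₁ := Grpd.isPullback_bmap h𝒳 sq₁
  have s₂ := Grpd.isPullback_bmap h𝒳 sq₂
  have haθ₁ : IsAffine (sch 𝒳 θ₁) := isAffine_of_isPullback s₁
  have haθ₂ : IsAffine (sch 𝒳 θ₂) := isAffine_of_isPullback s₂
  have fk₁ : Flat (bmap 𝒳 k₁) := MorphismProperty.of_isPullback (P := @Flat) s₁.flip hd₁
  have fk₂ : Flat (bmap 𝒳 k₂) := MorphismProperty.of_isPullback (P := @Flat) s₂.flip hd₂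
  obtain ⟨W, hW1, hW2⟩ := FibTerm.exists_agree h𝒳 π E hE (π.map (k₂ ≫ l₁) ≫ FObj.arr y₁) (π.map l₂ ≫ FObj.arr y₂)
  let c₁ : z' ⟶ θ₁ := sq₁.lift e (f ≫ FObj.Hom.hom a) (by rw [h6, Category.assoc])
  let c₂ : z' ⟶ θ₂ := sq₂.lift c₁ (f ≫ FObj.Hom.hom b) (by
    rw [← Category.assoc, sq₁.lift_fst, h7, Category.assoc])
  have e1 : c₂ ≫ k₂ ≫ l₁ = f ≫ FObj.Hom.hom a := by
    rw [← Category.assoc, sq₂.lift_fst, sq₁.lift_snd]
  have e2 : c₂ ≫ l₂ = f ≫ FObj.Hom.hom b := sq₂.lift_snd _ _ _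
  have hc : π.map c₂ ≫ π.map (k₂ ≫ l₁) ≫ FObj.arr y₁ = π.map c₂ ≫ π.map l₂ ≫ FObj.arr y₂ := by
    have e3 : π.map c₂ ≫ π.map (k₂ ≫ l₁) ≫ FObj.arr y₁ = π.map (c₂ ≫ k₂ ≫ l₁) ≫ FObj.arr y₁ := by
      simp only [Functor.map_comp, Category.assoc]
    have e4 : π.map c₂ ≫ π.map l₂ ≫ FObj.arr y₂ = π.map (c₂ ≫ l₂) ≫ FObj.arr y₂ := by
      simp only [Functor.map_comp, Category.assoc]
    rw [e3, e4, e1, e2, Functor.map_comp, Functor.map_comp, Category.assoc, Category.assoc, a.comm, b.comm]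
  have hcW := (hW2 c₂).1 hc
  have hWaff : IsAffineOpen W := isAffineOpen_of_isClosed W hW1
  haveI := h𝒳
  obtain ⟨θ₃, k₃, hk₃, hk₃'⟩ := K908.Fib.exists_restr (𝒳 := 𝒳) θ₂ W
  obtain ⟨c₃, hc₃⟩ := K908.Fib.exists_lift_open k₃ c₂ (by
    intro t ht
    have : t ∈ (bmap 𝒳 k₃).opensRange := by
      rw [hk₃']
      exact hcW ht
    exact this)
  have hag : π.map k₃ ≫ π.map (k₂ ≫ l₁) ≫ FObj.arr y₁ = π.map k₃ ≫ π.map l₂ ≫ FObj.arr y₂ := by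
    rw [hW2 k₃]
    intro t ht
    have : t ∈ (bmap 𝒳 k₃).opensRange := ht
    rw [hk₃'] at this
    exact this
  let x' : FObj π (etaOf E) := ⟨z', π.map f ≫ FObj.arr x⟩
  let y : FObj π (etaOf E) := ⟨θ₃, π.map k₃ ≫ π.map (k₂ ≫ l₁) ≫ FObj.arr y₁⟩
  refine ⟨x', y, FObj.mkHom f rfl, FObj.mkHom (k₃ ≫ k₂ ≫ l₁) ?_, FObj.mkHom (k₃ ≫ l₂) ?_, FObj.mkHom c₃ ?_,
    h1, ⟨h3.flat, h3.surj⟩, ⟨?_, i, k₃ ≫ k₂ ≫ k₁ ≫ p, ?_⟩, ?_, ?_⟩
  · rw [Functor.map_comp, Category.assoc]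
  · rw [Functor.map_comp, Category.assoc]
    exact hag.symm
  · change π.map c₃ ≫ π.map k₃ ≫ π.map (k₂ ≫ l₁) ≫ FObj.arr y₁ = π.map f ≫ FObj.arr x
    have e5 : π.map c₃ ≫ π.map k₃ ≫ π.map (k₂ ≫ l₁) ≫ FObj.arr y₁ = π.map ((c₃ ≫ k₃) ≫ k₂ ≫ l₁) ≫ FObj.arr y₁ := by
      simp only [Functor.map_comp, Category.assoc]
    rw [e5, hc₃, e1, Functor.map_comp, Category.assoc, a.comm]
  · have : IsAffine (sch 𝒳 θ₃) := K908.Fib.isAffine_of_opensRange k₃ (by rw [hk₃']; exact hWaff)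
    exact this
  · have f3 : Flat (bmap 𝒳 k₃) := inferInstance
    have f4 : Flat (bmap 𝒳 p) := inferInstance
    rw [bmap_comp, bmap_comp, bmap_comp]
    infer_instance
  · apply FObj.hom_ext
    change c₃ ≫ k₃ ≫ k₂ ≫ l₁ = f ≫ FObj.Hom.hom a
    rw [← Category.assoc, hc₃, ← Category.assoc, sq₂.lift_fst, sq₁.lift_snd]
  · apply FObj.hom_ext
    change c₃ ≫ k₃ ≫ l₂ = f ≫ FObj.Hom.hom b
    rw [← Category.assoc, hc₃, sq₂.lift_snd]

include h𝒳 in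
/-- The objects of `𝒳_E` flat over the atlas of `𝒳` generate. -/
theorem genCl_fib (hE : IsAffine E.obj.left.left) (hZ : SmCov Z) : GenCl (FlCl π E Z) where
  aff x h := h.1
  cov x hx := cov_fib h𝒳 π E hZ x hx
  span x y₁ y₂ a b hx h₁ h₂ := span_fib h𝒳 π E hE hZ x y₁ y₂ a b hx h₁ h₂

end Fib

end K907.Gen
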