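import Groth.Agent.StMod.K907.Tens
import Groth.Agent.StMod.K907.Gen

/-!
# Free quasi-coherent modules and purity

* `IsFree ι Q`, `exists_free`, `IsFree.exists_hom`, `IsFree.exists_coeff`;
* `Exact 𝒳` : global sections preserve surjections of quasi-coherent modules;
* `exists_linComb` (purity): for an exact `𝒳` with functions `A` and a quasi-compact atlas `ζ`, a global section of `F`
  which over `ζ` is a combination of given global sections is a combination with coefficients in `A`.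
-/

set_option autoImplicit false
set_option linter.unusedVariables false
set_option linter.style.haveILetI false
set_option backward.isDefEq.respectTransparency false
set_option backward.isDefEq.respectTransparency.types false

universe t w' v' w v u

open CategoryTheory CategoryTheory.Limits AlgebraicGeometry Opposite StMod
open Groth.Agent.CohqA.BaseChangeMod

namespace K907.Free

open K907.Sec K907.Atl K907.QDesc K907.Quot K907.Tens K907.Gen K908.AMod K908.Fam K908.Ext K908.QSec K908.QHom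

section Algebra

variable {B B' : Type u} [CommRing B] [CommRing B']

/-- The base change of a free module. -/
theorem isBC_mapRange (φ : B →+* B') (ι : Type u) :
    IsBC φ (Finsupp.mapRange.addMonoidHom (ι := ι) φ.toAddMonoidHom) := by
  refine ⟨?_, ?_⟩
  · intro r x
    ext i
    simp
  · intro Q _ _ g hg
    refine ⟨Finsupp.linearCombination B' (fun i => g (Finsupp.single i 1)), ?_, ?_⟩
    · intro x
      induction x using Finsupp.induction_linear with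
      | zero => simp
      | add x y hx hy =>
        change Finsupp.linearCombination B' _ (Finsupp.mapRange.addMonoidHom φ.toAddMonoidHom (x + y)) = _
        rw [map_add, map_add, map_add]
        exact congrArg₂ (· + ·) hx hy
      | single i b =>
        rw [Finsupp.mapRange.addMonoidHom_apply, Finsupp.mapRange_single, Finsupp.linearCombination_single]
        change φ b • g (Finsupp.single i 1) = _
        rw [← hg, Finsupp.smul_single, smul_eq_mul, mul_one]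
    · intro G hG
      apply Finsupp.lhom_ext'
      intro i
      apply LinearMap.ext_ring
      have := hG (Finsupp.single i 1)
      rw [Finsupp.mapRange.addMonoidHom_apply, Finsupp.mapRange_single] at this
      change G (Finsupp.single i (φ 1)) = _ at this
      rw [map_one] at this
      simpa using this

/-- The free module. -/
abbrev Fr (B : Type u) [CommRing B] (ι : Type u) : Type u := ι →₀ B

/-- The change of coefficients. -/
noncomputable def frMap (φ : B →+* B') (ι : Type u) : Fr B ι →+ Fr B' ι :=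
  Finsupp.mapRange.addMonoidHom (ι := ι) φ.toAddMonoidHom

theorem frMap_apply (φ : B →+* B') (ι : Type u) (x : Fr B ι) (i : ι) : frMap φ ι x i = φ (x i) := rfl

theorem isBC_frMap (φ : B →+* B') (ι : Type u) : IsBC φ (frMap φ ι) := isBC_mapRange φ ι

end Algebra

section Geometry

variable {S : Scheme.{u}} {𝒳 : BasedCategory.{v, w} (Over S)}

/-- `Q` is free on `ι`. -/
structure IsFree (ι : Type u) (Q : Mod 𝒳) where
  e : ∀ (x : 𝒳.obj), IsAffine (sch 𝒳 x) → Γ(Q.obj x, ⊤) ≃ₗ[Γ(sch 𝒳 x, ⊤)] (ι →₀ Γ(sch 𝒳 x, ⊤))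
  comm : ∀ {x' x : 𝒳.obj} (φ : x' ⟶ x) (h' : IsAffine (sch 𝒳 x')) (h : IsAffine (sch 𝒳 x)) (y : Γ(Q.obj x, ⊤)) (i : ι),
    e x' h' (Q.mapTop φ y) i = ringMap φ (e x h y i)

/-- The family of free modules. -/
noncomputable def freeA (ι : Type u) : AMod (ASieve.all 𝒳).cat where
  obj ζ := Fr Γ(sch 𝒳 ζ.obj, ⊤) ι
  grp ζ := inferInstanceAs (AddCommGroup (Fr Γ(sch 𝒳 ζ.obj, ⊤) ι))
  mod ζ := inferInstanceAs (Module Γ(sch 𝒳 ζ.obj, ⊤) (Fr Γ(sch 𝒳 ζ.obj, ⊤) ι))
  map {ζ' ζ} φ := frMap (ringMap φ.hom) ι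
  map_smul {ζ' ζ} φ r x := (isBC_frMap (ringMap φ.hom) ι).map_smul r x
  map_id ζ x := by
    ext i
    change ringMap (𝟙 ζ.obj) (x i) = x i
    rw [ringMap_id]
    rfl
  map_comp {ζ'' ζ' ζ} ψ φ x := by
    ext i
    change ringMap (ψ.hom ≫ φ.hom) (x i) = ringMap ψ.hom (ringMap φ.hom (x i))
    rw [ringMap_comp]
    rfl

theorem exists_free (h𝒳 : FibCat.IsFibGrpd 𝒳.p) (ι : Type u) : ∃ Q : QCoh 𝒳, Nonempty (IsFree ι Q.obj) := by
  obtain ⟨Q, e, h1, h2⟩ := exists_ofA h𝒳 (freeA ι) (fun ζ' ζ φ => isBC_frMap (ringMap φ.hom) ι)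
  refine ⟨Q, ⟨⟨fun x hx => { e ⟨x, hx⟩ with map_smul' := fun r y => h1 ⟨x, hx⟩ r y }, ?_⟩⟩⟩
  intro x' x φ h' h y i
  exact congrArg (fun k : ι →₀ Γ(sch 𝒳 x', ⊤) => k i) (h2 (ζ' := ⟨x', h'⟩) (ζ := ⟨x, h⟩) (ObjectProperty.homMk φ) y)

/-- Global sections define a morphism from a free module. -/
theorem IsFree.exists_hom (h𝒳 : FibCat.IsFibGrpd 𝒳.p) {ι : Type u} {Q F : QCoh 𝒳} (a : IsFree ι Q.obj)
    (t : ι → F.obj.GlobSect) : ∃ g : Q ⟶ F, ∀ (x : 𝒳.obj) (hx : IsAffine (sch 𝒳 x)) (y : Γ(Q.obj.obj x, ⊤)),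
      (g.hom.app x).app ⊤ y = Finsupp.linearCombination Γ(sch 𝒳 x, ⊤) (fun i => (t i).1 x) (a.e x hx y) := by
  haveI := h𝒳
  have hZ : ∀ ξ, ZLoc (ASieve.all 𝒳) ξ := zloc_all
  let r : AHom (rest Q.obj (ASieve.all 𝒳)) (rest F.obj (ASieve.all 𝒳)) :=
    { app := fun ζ => (Finsupp.linearCombination Γ(sch 𝒳 ζ.obj, ⊤) (fun i => (t i).1 ζ.obj)).comp
        (a.e ζ.obj ζ.property).toLinearMap
      comm := fun {ζ' ζ} φ x => by
        change Finsupp.linearCombination Γ(sch 𝒳 ζ'.obj, ⊤) (fun i => (t i).1 ζ'.obj)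
          (a.e ζ'.obj ζ'.property (Q.obj.mapTop φ.hom x)) = F.obj.mapTop φ.hom
          (Finsupp.linearCombination Γ(sch 𝒳 ζ.obj, ⊤) (fun i => (t i).1 ζ.obj) (a.e ζ.obj ζ.property x))
        have h1 : a.e ζ'.obj ζ'.property (Q.obj.mapTop φ.hom x) =
            Finsupp.mapRange.addMonoidHom (ringMap φ.hom).toAddMonoidHom (a.e ζ.obj ζ.property x) := by
          ext i
          exact a.comm φ.hom ζ'.property ζ.property x i
        rw [h1]
        generalize a.e ζ.obj ζ.property x = z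
        induction z using Finsupp.induction_linear with
        | zero => rw [map_zero, map_zero, map_zero, Mod.mapTop_zero]
        | add x y hx hy => rw [map_add, map_add, map_add, Mod.mapTop_add, hx, hy]
        | single i b =>
          rw [Finsupp.mapRange.addMonoidHom_apply, Finsupp.mapRange_single, Finsupp.linearCombination_single,
            Finsupp.linearCombination_single, Mod.mapTop_smul, (t i).2]
          rfl }
  refine ⟨ObjectProperty.homMk (homMk hZ r), fun x hx y => ?_⟩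
  exact homMk_app hZ r ⟨x, hx⟩ y

variable {A : Type u} [CommRing A] (s : Fn A 𝒳)

/-- The global function given by an element of `A`. -/
noncomputable def fnSec (a : A) : (O 𝒳).GlobSect :=
  ⟨fun x => (s.σ x a : Γ(sch 𝒳 x, ⊤)), fun x' x φ => by
    change (O 𝒳).mapTop φ (s.σ x a : Γ(sch 𝒳 x, ⊤)) = (s.σ x' a : Γ(sch 𝒳 x', ⊤))
    rw [O_mapTop, ← s.comm φ]
    rfl⟩

theorem fnSec_val (a : A) (x : 𝒳.obj) : (fnSec s a).1 x = s.σ x a := rfl

/-- `A` is the ring of global functions. -/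
def IsFn : Prop := Function.Bijective (fnSec s)

/-- Global sections are exact. -/
def Exact (𝒳 : BasedCategory.{v, w} (Over S)) : Prop :=
  ∀ ⦃F G : QCoh 𝒳⦄ (u : F ⟶ G), Mod.IsSurj u.hom → Function.Surjective (Mod.globSectMap u.hom)

/-- `ζ` covers: every affine object has a faithfully flat covering with an arrow to `ζ`. -/
def Cov1 (ζ : 𝒳.obj) : Prop :=
  ∀ x : 𝒳.obj, IsAffine (sch 𝒳 x) → ∃ (x' : 𝒳.obj) (f : x' ⟶ x) (_ : x' ⟶ ζ), IsAffine (sch 𝒳 x') ∧ IsFCov f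

/-- Global sections are determined on a covering object. -/
theorem Cov1.ext {ζ : 𝒳.obj} (h : Cov1 ζ) (F : QCoh 𝒳) {a b : F.obj.GlobSect} (hab : a.1 ζ = b.1 ζ) (x : 𝒳.obj)
    (hx : IsAffine (sch 𝒳 x)) : a.1 x = b.1 x := by
  obtain ⟨x', f, d, hx', hf⟩ := h x hx
  refine mapTop_injective F f hx hx' hf ?_
  rw [a.2, b.2, ← a.2 d, ← b.2 d, hab]

/-- Equality of global sections on affine objects. -/
theorem globSect_ext_aff (h𝒳 : FibCat.IsFibGrpd 𝒳.p) (F : QCoh 𝒳) {a b : F.obj.GlobSect}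
    (hab : ∀ x : 𝒳.obj, IsAffine (sch 𝒳 x) → a.1 x = b.1 x) : a = b := by
  haveI := h𝒳
  exact globSect_ext (C := ASieve.all 𝒳) zloc_all F fun ζ => hab ζ.obj ζ.property

/-- The coefficients of a global section of a free module. -/
theorem IsFree.exists_coeff (h𝒳 : FibCat.IsFibGrpd 𝒳.p) (hs : IsFn s) {ζ : 𝒳.obj} (hζ : IsAffine (sch 𝒳 ζ))
    (hc : Cov1 ζ) {ι : Type u} {Q : QCoh 𝒳} (a : IsFree ι Q.obj) (y : Q.obj.GlobSect) :
    ∃ c : ι →₀ A, ∀ (x : 𝒳.obj) (hx : IsAffine (sch 𝒳 x)) (i : ι), a.e x hx (y.1 x) i = s.σ x (c i) := by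
  haveI := h𝒳
  have key : ∀ i : ι, ∃ r : A, ∀ (x : 𝒳.obj) (hx : IsAffine (sch 𝒳 x)), a.e x hx (y.1 x) i = s.σ x r := by
    intro i
    obtain ⟨g, hg⟩ := exists_globSect (C := ASieve.all 𝒳) zloc_all (OQ 𝒳)
      (fun z => (a.e z.obj z.property (y.1 z.obj) i : Γ(sch 𝒳 z.obj, ⊤))) (fun z' z φ => by
        refine (O_mapTop 𝒳 φ.hom _).trans ?_
        rw [← y.2 φ.hom, a.comm φ.hom z'.property z.property]
        rfl)
    obtain ⟨r, hr⟩ := hs.2 g
    refine ⟨r, fun x hx => ?_⟩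
    have h1 := hg ⟨x, hx⟩
    rw [← hr] at h1
    exact h1.symm
  choose r hr using key
  have hfin : (Function.support r).Finite := by
    refine Set.Finite.subset (a.e ζ hζ (y.1 ζ)).support.finite_toSet ?_
    intro i hi
    rw [Finset.mem_coe, Finsupp.mem_support_iff]
    intro h0
    apply hi
    apply hs.1
    refine globSect_ext_aff h𝒳 (OQ 𝒳) fun x hx => ?_
    refine hc.ext (OQ 𝒳) ?_ x hx
    change s.σ ζ (r i) = s.σ ζ 0
    rw [← hr i ζ hζ, h0, map_zero]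
  refine ⟨Finsupp.ofSupportFinite r hfin, fun x hx i => ?_⟩
  rw [hr i x hx]
  rfl

/-- The objects flat over an atlas generate. -/
theorem genCl_flat (h𝒳 : FibCat.IsFibGrpd 𝒳.p) {J : Type t} {Z : J → 𝒳.obj} (hZ : SmCov Z) :
    GenCl (fun x : 𝒳.obj => IsAffine (sch 𝒳 x) ∧ ∃ (j : J) (d : x ⟶ Z j), Flat (bmap 𝒳 d)) where
  aff x h := h.1
  cov x hx := by
    obtain ⟨z', f, j, d, h1, h2, h3⟩ := hZ.cov x hx
    refine ⟨z', f, Z j, d, h1, ⟨inferInstance, h3⟩, hZ.aff j, j, 𝟙 _, ?_⟩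
    rw [bmap_id]
    infer_instance
  span x y₁ y₂ a b hx h₁ h₂ := by
    obtain ⟨haff₁, i, d₁, hd₁⟩ := h₁
    obtain ⟨haff₂, j, d₂, hd₂⟩ := h₂
    obtain ⟨z', θ, f, p, q, e, h1, h2, h3, h4, h5, h6, h7⟩ := hZ.span x i j (a ≫ d₁) (b ≫ d₂) hx
    obtain ⟨θ₁, k₁, l₁, sq₁⟩ := K906.Grpd.exists_isPullback h𝒳 p d₁
    obtain ⟨θ₂, k₂, l₂, sq₂⟩ := K906.Grpd.exists_isPullback h𝒳 (k₁ ≫ q) d₂
    have hai : IsAffine (sch 𝒳 (Z i)) := hZ.aff i
    have haj : IsAffine (sch 𝒳 (Z j)) := hZ.aff j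
    have s₁ := K906.Grpd.isPullback_bmap h𝒳 sq₁
    have s₂ := K906.Grpd.isPullback_bmap h𝒳 sq₂
    have haθ₁ : IsAffine (sch 𝒳 θ₁) := isAffine_of_isPullback s₁
    have haθ₂ : IsAffine (sch 𝒳 θ₂) := isAffine_of_isPullback s₂
    have fk₁ : Flat (bmap 𝒳 k₁) := MorphismProperty.of_isPullback (P := @Flat) s₁.flip hd₁
    have fk₂ : Flat (bmap 𝒳 k₂) := MorphismProperty.of_isPullback (P := @Flat) s₂.flip hd₂
    refine ⟨z', θ₂, f, k₂ ≫ l₁, l₂, sq₂.lift (sq₁.lift e (f ≫ a) (by rw [h6, Category.assoc])) (f ≫ b) (by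
      rw [← Category.assoc, sq₁.lift_fst, h7, Category.assoc]), h1, h3, ⟨haθ₂, i, k₂ ≫ k₁ ≫ p, ?_⟩, ?_, ?_⟩
    · rw [bmap_comp, bmap_comp]
      infer_instance
    · rw [← Category.assoc, sq₂.lift_fst, sq₁.lift_snd]
    · rw [sq₂.lift_snd]

/-- PURITY. -/
theorem exists_linComb (h𝒳 : FibCat.IsFibGrpd 𝒳.p) (hs : IsFn s) (hex : Exact 𝒳) {ζ : 𝒳.obj}
    (hζ : SmCov (fun _ : PUnit.{t + 1} => ζ)) (hc : Cov1 ζ) (F : QCoh 𝒳) {ι : Type u} (t : ι → F.obj.GlobSect)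
    (x : F.obj.GlobSect) (hx : x.1 ζ ∈ Submodule.span Γ(sch 𝒳 ζ, ⊤) (Set.range fun i => (t i).1 ζ)) :
    ∃ c : ι →₀ A, ∀ z : 𝒳.obj, IsAffine (sch 𝒳 z) →
      x.1 z = c.sum (fun i a => (s.σ z a : Γ(sch 𝒳 z, ⊤)) • (t i).1 z) := by
  haveI := h𝒳
  have haff : IsAffine (sch 𝒳 ζ) := hζ.aff ⟨⟩
  obtain ⟨Q, ⟨a⟩⟩ := exists_free h𝒳 ι
  obtain ⟨g, hg⟩ := a.exists_hom h𝒳 t
  obtain ⟨I, q, i, hqi, hq, hi⟩ := exists_image h𝒳 hζ g
  have hgen := genCl_flat h𝒳 hζ
  -- the section `x` lies in the image over `ζ`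
  obtain ⟨y₀, hy₀⟩ : ∃ y₀ : Γ(I.obj.obj ζ, ⊤), (i.hom.app ζ).app ⊤ y₀ = x.1 ζ := by
    rw [Finsupp.mem_span_range_iff_exists_finsupp] at hx
    obtain ⟨c, hc'⟩ := hx
    refine ⟨(q.hom.app ζ).app ⊤ ((a.e ζ haff).symm c), ?_⟩
    have h1 := congrArg (fun k : Q ⟶ F => (k.hom.app ζ).app ⊤ ((a.e ζ haff).symm c)) hqi
    refine (h1 : (i.hom.app ζ).app ⊤ ((q.hom.app ζ).app ⊤ ((a.e ζ haff).symm c)) = _).trans ?_
    rw [hg ζ haff, LinearEquiv.apply_symm_apply, Finsupp.linearCombination_apply]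
    exact hc'
  have hex₁ : ∀ z : 𝒳.obj, (IsAffine (sch 𝒳 z) ∧ ∃ (j : PUnit.{t + 1}) (d : z ⟶ ζ), Flat (bmap 𝒳 d)) →
      ∃ y : Γ(I.obj.obj z, ⊤), (i.hom.app z).app ⊤ y = x.1 z := by
    rintro z ⟨hz, -, d, hd⟩
    refine ⟨I.obj.mapTop d y₀, ?_⟩
    rw [← Mod.mapTop_app, hy₀, x.2]
  choose y hy using hex₁
  obtain ⟨Y, hY⟩ := hgen.exists_globSect I (fun z hz => y z hz) (fun z' z φ hz' hz => by
    obtain ⟨h1, j, d, hd⟩ := id hz'
    refine hi z' j d h1 hd ?_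
    change (i.hom.app z').app ⊤ (I.obj.mapTop φ (y z hz)) = (i.hom.app z').app ⊤ (y z' hz')
    rw [hy, ← Mod.mapTop_app, hy, x.2])
  obtain ⟨W, hW⟩ := hex q hq Y
  obtain ⟨c, hc'⟩ := a.exists_coeff s h𝒳 hs haff hc W
  refine ⟨c, fun z hz => ?_⟩
  have hx' : x = Mod.globSectMap g.hom W := by
    refine hgen.globSect_ext F fun z hz => ?_
    rw [Mod.globSectMap_val, ← hy z hz, ← hY z hz, ← hW, Mod.globSectMap_val]
    exact congrArg (fun k : Q ⟶ F => (k.hom.app z).app ⊤ (W.1 z)) hqi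
  rw [hx', Mod.globSectMap_val, hg z hz, Finsupp.linearCombination_apply]
  have h2 : a.e z hz (W.1 z) = c.mapRange (s.σ z) (map_zero _) := by
    ext i
    exact hc' z hz i
  rw [h2]
  exact Finsupp.sum_mapRange_index (fun i => zero_smul _ _)

end Geometry

end K907.Free
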