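import Groth.Agent.StMod.K907.Gen
import Groth.Agent.StMod.K907.Free
import Groth.Agent.StMod.K906.Atlas

/-!
# Good affine charts of `𝒳_E`

* `exists_smAtlas_etale` : a smooth atlas of `𝒳` by affine objects étale over a given smooth chart;
* `exists_chart` : one affine object of `𝒳_E` covering it, étale over an object of the atlas of `𝒳`.
-/

set_option autoImplicit false
set_option linter.unusedVariables false
set_option linter.style.haveILetI false
set_option backward.isDefEq.respectTransparency false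
set_option backward.isDefEq.respectTransparency.types false

universe t w' v' w v u

open CategoryTheory CategoryTheory.Limits AlgebraicGeometry Opposite StMod AlgSt AlgSp

namespace K907.Chart

open K906 K906.Grpd K906.Span K606.YonSec K734.Fib K907.Sec K907.Atl K907.Free K907.Gen

variable {S : Scheme.{u}} {𝒳 : BasedCategory.{v, w} (Over S)}

/-- A smooth atlas by affine objects étale over a given smooth surjective chart. -/
theorem exists_smAtlas_etale (h : FibCat.IsFibGrpd 𝒳.p) {U : Over S} (x : FibCat.overCat U ⥤ᵇ 𝒳)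
    (h1 : AlgSt.RepByAlgSpWith (LocP @Smooth) x) (h2 : AlgSt.RepByAlgSpWith IsSurjectiveMor x) :
    ∃ A : SmAtlas 𝒳, ∀ j, ∃ c : A.Z j ⟶ x.obj (one U), Etale (bmap 𝒳 c) := by
  let κ : U.left ⟶ sch 𝒳 (x.obj (one U)) := (eqToHom (x.w_obj (one U)).symm : U ⟶ 𝒳.p.obj (x.obj (one U))).left
  have hκ : IsIso κ := isIso_left (eqToIso (x.w_obj (one U)).symm)
  have key : ∀ t : Finset U.left.affineOpens, ∃ (Zt : 𝒳.obj) (ct : Zt ⟶ x.obj (one U))
      (et : sch 𝒳 Zt ≅ SchFac.finAff U.left t), bmap 𝒳 ct = et.hom ≫ SchFac.finAffι U.left t ≫ κ := fun t =>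
    Grpd.exists_lift_sch h (x.obj (one U)) (SchFac.finAffι U.left t ≫ κ)
  choose Z c e hc using key
  have hce : ∀ t, Etale (bmap 𝒳 (c t)) := fun t => by rw [hc]; infer_instance
  refine ⟨⟨Finset U.left.affineOpens, Z, fun t => IsAffine.of_isIso (e t).hom, ?_, ?_, ?_⟩, fun t => ⟨c t, hce t⟩⟩
  · intro z hz
    obtain ⟨z', f, d, hz', hf, hfs⟩ := exists_cover h h1 h2 z hz
    obtain ⟨W, t, g, m, hW, hg, hgs, hm⟩ := SchFac.exists_affine_factor_fin (bmap 𝒳 d ≫ inv κ)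
    obtain ⟨z₁, φ, ez, hφ⟩ := Grpd.exists_lift_sch h z' g
    obtain ⟨ψ, -, -⟩ := Grpd.existsUnique_hom_sch h (c t) (φ ≫ d) (ez.hom ≫ m ≫ (e t).inv) (by
      rw [hc, bmap_comp, hφ]
      have : g ≫ bmap 𝒳 d = m ≫ SchFac.finAffι U.left t ≫ κ := by
        rw [← reassoc_of% hm]; simp
      simp [this])
    refine ⟨z₁, φ ≫ f, t, ψ, IsAffine.of_isIso ez.hom, ?_, ?_⟩
    · rw [bmap_comp, hφ]; infer_instance
    · rw [bmap_comp, hφ]; infer_instance
  · intro z ζ t a b hz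
    obtain ⟨F, π, R, -, -⟩ := exists_spanRep_atlas h h1 ζ
    obtain ⟨z', θ, f, p, q, i, hz', hθ, hf, hfs, hpq, -, hip, hiq⟩ := R.exists_chart h F.property hz a (b ≫ c t)
    obtain ⟨θ₁, k, l, hp⟩ := Grpd.exists_isPullback h q (c t)
    have H := hpq.base_right hp
    let m : z' ⟶ θ₁ := hp.lift i (f ≫ b) (by rw [hiq, Category.assoc])
    obtain ⟨W, V', g, n, j, hW, hV', hg, hgs, hj, hn⟩ := SchFac.exists_affine_factor (bmap 𝒳 m)
    obtain ⟨θ₂, s, eθ, hs⟩ := Grpd.exists_lift_sch h θ₁ j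
    obtain ⟨z₁, φ, ez, hφ⟩ := Grpd.exists_lift_sch h z' g
    obtain ⟨ψ, ⟨-, hψ⟩, -⟩ := Grpd.existsUnique_hom_sch h s (φ ≫ m) (ez.hom ≫ n ≫ eθ.inv) (by
      rw [hs, bmap_comp, hφ]; simp [hn])
    refine ⟨z₁, θ₂, φ ≫ f, s ≫ k ≫ p, s ≫ l, ψ, IsAffine.of_isIso ez.hom, IsAffine.of_isIso eθ.hom, ?_, ?_, ?_,
      ?_, ?_⟩
    · rw [bmap_comp, hφ]; infer_instance
    · rw [bmap_comp, hφ]; infer_instance
    · exact H.comp_left h s (by rw [hs]; infer_instance)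
    · rw [← Category.assoc, hψ, Category.assoc, ← Category.assoc m, hp.lift_fst, hip, Category.assoc]
    · rw [← Category.assoc, hψ, Category.assoc, hp.lift_snd, Category.assoc]
  · intro θ ζ t p q H
    exact smooth_of_spanWith h h1 (H.comp_right h (c t) (hce t))

/-- Coverings by one object compose. -/
theorem cov1_of_cover {ζ : 𝒳.obj} (h𝒳 : FibCat.IsFibGrpd 𝒳.p) (h : Cov1 ζ) (hζ : IsAffine (sch 𝒳 ζ)) {ζ' y : 𝒳.obj} (f : ζ' ⟶ ζ) (d : ζ' ⟶ y)
    (hζ' : IsAffine (sch 𝒳 ζ')) (hf : IsFCov f) : Cov1 y := by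
  intro x hx
  obtain ⟨x', g, e, hx', hg⟩ := h x hx
  obtain ⟨x'', k, l, sq⟩ := exists_isPullback h𝒳 e f
  have s' := isPullback_bmap h𝒳 sq
  have ha : IsAffine (sch 𝒳 x'') := isAffine_of_isPullback s'
  exact ⟨x'', k ≫ g, l ≫ d, ha, (IsFCov.of_isPullback s'.flip hf).comp hg⟩

theorem cov1_of_pres (P : Pres 𝒳) : Cov1 P.ζ := by
  intro x hx
  obtain ⟨z', f, d, h1, h2, h3⟩ := P.cov x hx
  exact ⟨z', f, d, h1, ⟨inferInstance, h3⟩⟩

variable {M : Sp S}

/-- An affine object covering `𝒳_E`, étale over the atlas of `𝒳`. -/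
theorem exists_chart (h𝒳 : FibCat.IsFibGrpd 𝒳.p) (π : 𝒳 ⥤ᵇ ofSp M) (E : EtOver M) (A : SmAtlas 𝒳)
    (P : Pres (fibCat π (etaOf E))) : ∃ y : (fibCat π (etaOf E)).obj, IsAffine (sch (fibCat π (etaOf E)) y) ∧ Cov1 y ∧
      ∃ (j : A.J) (d : FObj.pt y ⟶ A.Z j), Etale (bmap 𝒳 d) := by
  obtain ⟨x', f, y, e, h1, h2, h3, h4⟩ := cov_fib_etale h𝒳 π E (smCov_of_smAtlas A) P.ζ P.affζ
  exact ⟨y, h3, cov1_of_cover (isFibGrpd_fibCat h𝒳) (cov1_of_pres P) P.affζ f e h1 h2, h4⟩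

end K907.Chart
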