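import Groth.Agent.StMod.K907.Closed
import Groth.Agent.StMod.K907.EtNhd

/-!
# Images of disjoint closed sets under a good moduli space are disjoint

* `exists_lift_fun`: lifting an arrow `m ⟶ f x` along a functor `f` over the base;
* `map_ne_of_disjoint`: for `π : 𝒳 ⟶ M` a good moduli space and disjoint closed `W₁`, `W₂` in `|𝒳|`, points of `W₁` and
  `W₂` have different images in `|M|`.
-/

set_option autoImplicit false
set_option linter.unusedVariables false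
set_option linter.style.haveILetI false
set_option backward.isDefEq.respectTransparency false
set_option backward.isDefEq.respectTransparency.types false

universe t w' v' w v u

open CategoryTheory CategoryTheory.Limits AlgebraicGeometry Opposite StMod AlgSt

namespace K907.Disj

open K907.Atl K907.Pt K907.Van K907.Closed K907.EtNhd

variable {S : Scheme.{u}} {𝒳 : BasedCategory.{v, w} (Over S)} {𝒴 : BasedCategory.{v', w'} (Over S)}

/-- Lifting an arrow to the image of an object. -/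
theorem exists_lift_fun (h𝒳 : FibCat.IsFibGrpd 𝒳.p) (h𝒴 : FibCat.IsFibGrpd 𝒴.p) (f : 𝒳 ⥤ᵇ 𝒴) {x : 𝒳.obj}
    {m : 𝒴.obj} (c : m ⟶ f.obj x) : ∃ (y : 𝒳.obj) (φ : y ⟶ x) (i : f.obj y ⟶ m), IsIso i ∧ i ≫ c = f.map φ := by
  obtain ⟨y, φ, e, hφ⟩ := K735.Fib.exists_lift h𝒳 (x := x) (𝒴.p.map c ≫ eqToHom (f.w_obj x))
  obtain ⟨i, hi1, hi2⟩ := K735.Fib.exists_hom h𝒴 c (f.map φ) (eqToHom ((f.w_obj y).trans e)) (by
    rw [K735.Fib.map_map, hφ]
    simp)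
  refine ⟨y, φ, i, ?_, hi2⟩
  have : IsIso (𝒴.p.map i) := by rw [hi1]; infer_instance
  exact K735.Fib.isIso_of_isIso_map h𝒴 i

theorem baseOver_isIso (f : 𝒳 ⥤ᵇ 𝒴) {y : 𝒳.obj} {m : 𝒴.obj} (i : f.obj y ⟶ m) [IsIso i] :
    IsIso (baseOver f y i).left := by
  have h1 : IsIso (baseOver f y i) := by
    unfold baseOver
    infer_instance
  have : IsIso ((Over.forget S).map (baseOver f y i)) := inferInstance
  exact this

theorem mk_eq_pt_self (h𝒳 : FibCat.IsFibGrpd 𝒳.p) (p : FPt 𝒳) (s : ↥(sch 𝒳 p.obj)) :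
    Points.mk p = pt h𝒳 p.obj s := by
  have h1 := mk_eq_pt h𝒳 p (𝟙 p.obj) s
  have h2 := pt_map h𝒳 (𝟙 p.obj) s
  exact h1.trans h2

/-- Images of disjoint closed sets are disjoint. -/
theorem map_ne_of_disjoint (h𝒳 : FibCat.IsFibGrpd 𝒳.p) {J : Type t} {Z : J → 𝒳.obj} (hZ : SmCov Z)
    {M : AlgSp.Sp S} (hM : AlgSp.IsAlgSpace M) (π : 𝒳 ⥤ᵇ ofSp M) (h : IsGoodModuli π)
    {W₁ W₂ : Set (Points 𝒳)} (h₁ : IsCl h𝒳 W₁) (h₂ : IsCl h𝒳 W₂) (hd : Disjoint W₁ W₂)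
    {x₁ x₂ : Points 𝒳} (hx₁ : x₁ ∈ W₁) (hx₂ : x₂ ∈ W₂) : Points.map π x₁ ≠ Points.map π x₂ := by
  intro heq
  obtain ⟨Q, q, e, hq, he⟩ := exists_sep h𝒳 hZ h₁ h₂ hd
  obtain ⟨p₁, rfl⟩ := Points.mk_surjective x₁
  obtain ⟨p₂, rfl⟩ := Points.mk_surjective x₂
  have hfib : FibCat.IsFibGrpd (ofSp M).p := inferInstance
  rw [Points.map_mk, Points.map_mk, K735.Pts.mk_eq_mk_iff hfib] at heq
  obtain ⟨r, a, b, -⟩ := heq
  obtain ⟨E, hE, m', a', b', hm', -, t', ht'⟩ := exists_etale_nhd hM r.obj (ptt r)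
  obtain ⟨y₁, φ₁, i₁, hi₁, hc₁⟩ := exists_lift_fun h𝒳 hfib π (x := p₁.obj) (a' ≫ a)
  obtain ⟨y₂, φ₂, i₂, hi₂, hc₂⟩ := exists_lift_fun h𝒳 hfib π (x := p₂.obj) (a' ≫ b)
  have I₁ := baseOver_isIso π i₁
  have I₂ := baseOver_isIso π i₂
  have hA : IsAffine ((ofSp M).p.obj m').left := hm'
  have hy₁ : IsAffine (sch 𝒳 y₁) := IsAffine.of_isIso (baseOver π y₁ i₁).left
  have hy₂ : IsAffine (sch 𝒳 y₂) := IsAffine.of_isIso (baseOver π y₂ i₂).left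
  -- the section of `Q` over `E` and its lift
  let e' : Mod.RelSect π Q.obj (etaOf E) := ⟨fun ξ _ => e.1 ξ, fun ξ' ξ φ α => e.2 φ⟩
  obtain ⟨s, hs⟩ := h.1 q hq E hE e'
  obtain ⟨g, rfl⟩ := (h.2 E).2 s
  have key : ∀ (ξ : 𝒳.obj) (α : π.obj ξ ⟶ etaOf E), (q.hom.app ξ).app ⊤ ((baseOver π ξ α).left.appTop g) = e.1 ξ := by
    intro ξ α
    have := congrArg (fun s : Mod.RelSect π Q.obj (etaOf E) => s.1 ξ α) hs
    exact this
  obtain ⟨t₁, ht₁⟩ := (Scheme.homeoOfIso (asIso (baseOver π y₁ i₁).left)).surjective t'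
  obtain ⟨t₂, ht₂⟩ := (Scheme.homeoOfIso (asIso (baseOver π y₂ i₂).left)).surjective t'
  have q₁ : pt h𝒳 y₁ t₁ = Points.mk p₁ := by
    rw [← pt_map h𝒳 φ₁ t₁, ← mk_eq_pt_self]
  have q₂ : pt h𝒳 y₂ t₂ = Points.mk p₂ := by
    rw [← pt_map h𝒳 φ₂ t₂, ← mk_eq_pt_self]
  have k₁ := (he y₁ hy₁ _ (key y₁ (i₁ ≫ b'))).1 t₁ (by rw [q₁]; exact hx₁)
  have k₂ := (he y₂ hy₂ _ (key y₂ (i₂ ≫ b'))).2 t₂ (by rw [q₂]; exact hx₂)
  have j₁ : (baseOver π y₁ (i₁ ≫ b')).left t₁ = b'.hom.left t' := by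
    rw [baseOver_comp, Over.comp_left]
    exact congrArg b'.hom.left ht₁
  have j₂ : (baseOver π y₂ (i₂ ≫ b')).left t₂ = b'.hom.left t' := by
    rw [baseOver_comp, Over.comp_left]
    exact congrArg b'.hom.left ht₂
  let g' : Γ(((ofSp M).p.obj (etaOf E)).left, ⊤) := g
  have l₁ : g' ∈ (sp (b'.hom.left t')).asIdeal := by
    have := (mem_sp_comp (baseOver π y₁ (i₁ ≫ b')).left t₁ g').2 k₁
    rwa [j₁] at this
  have l₂ : 1 - g' ∈ (sp (b'.hom.left t')).asIdeal := by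
    have := (mem_sp_comp (baseOver π y₂ (i₂ ≫ b')).left t₂ (1 - g')).2 (by
      rw [map_sub, map_one]
      exact k₂)
    rwa [j₂] at this
  have l₃ := Ideal.add_mem _ l₁ l₂
  rw [add_sub_cancel] at l₃
  exact (sp (b'.hom.left t')).isPrime.ne_top ((Ideal.eq_top_iff_one _).2 l₃)

end K907.Disj
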