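import Groth.Agent.StMod.K907.EtFib
import Groth.Agent.StMod.K907.Disj
import Groth.Agent.StMod.K906.FibCat
import Groth.Agent.StMod.K908.Aff

/-!
# The étale `𝒳_E ⟶ 𝒳` for `E` étale over `M`

* `existsUnique_hom_over` : lifting arrows through a functor of categories fibred in groupoids;
* `exists_fibObj` : over every object `z` of `𝒳` there is a universal arrow from an object of `fibCat π (etaOf E)`; the
  scheme under it is étale over `z`, separated if `E` is affine, quasi-compact if `M` is quasi-separated;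
* `exists_agree` : the locus where two arrows from `π z` to `etaOf E` agree.
-/

set_option autoImplicit false
set_option backward.isDefEq.respectTransparency false
set_option backward.isDefEq.respectTransparency.types false
set_option linter.unusedVariables false
set_option linter.style.haveILetI false

universe w' v' w v u

open CategoryTheory CategoryTheory.Limits AlgebraicGeometry Opposite StMod AlgSt AlgSp

namespace K907.FibTerm

open K906 K907.Disj

variable {S : Scheme.{u}} {𝒳 : BasedCategory.{v, w} (Over S)} {𝒴 : BasedCategory.{v', w'} (Over S)}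

/-- Lifting of arrows. -/
theorem existsUnique_hom_over (h𝒳 : FibCat.IsFibGrpd 𝒳.p) (h𝒴 : FibCat.IsFibGrpd 𝒴.p) (f : 𝒳 ⥤ᵇ 𝒴)
    {θ y z : 𝒳.obj} (φ : y ⟶ z) (β : θ ⟶ z) (γ : f.obj θ ⟶ f.obj y) (hγ : γ ≫ f.map φ = f.map β) :
    ∃! χ : θ ⟶ y, χ ≫ φ = β ∧ f.map χ = γ := by
  have h1 := congrArg (fun k => 𝒴.p.map k) hγ
  rw [Functor.map_comp, K735.Fib.map_map, K735.Fib.map_map] at h1
  obtain ⟨χ, ⟨h2, h3⟩, -⟩ := Grpd.existsUnique_hom h𝒳 φ β
    (eqToHom (f.w_obj θ).symm ≫ 𝒴.p.map γ ≫ eqToHom (f.w_obj y)) (by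
      have h4 := congrArg (fun k => eqToHom (f.w_obj θ).symm ≫ k ≫ eqToHom (f.w_obj z)) h1
      simpa using h4)
  refine ⟨χ, ⟨h3, ?_⟩, ?_⟩
  · refine Grpd.hom_ext h𝒴 (f.map φ) ?_ ?_
    · rw [K735.Fib.map_map, h2]
      simp
    · rw [hγ, ← Functor.map_comp, h3]
  · rintro χ' ⟨h5, h6⟩
    refine Grpd.hom_ext h𝒳 φ ?_ (h5.trans h3.symm)
    have h7 := congrArg (fun k => 𝒴.p.map k) h6
    rw [K735.Fib.map_map] at h7
    rw [h2, ← h7]
    simp

variable {M : Sp S}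

theorem isFibGrpd_ofSp : FibCat.IsFibGrpd (ofSp M).p := inferInstance

/-- The object of `fibCat π (etaOf E)` over `z`. -/
theorem exists_fibObj (h𝒳 : FibCat.IsFibGrpd 𝒳.p) (π : 𝒳 ⥤ᵇ ofSp M) (E : EtOver M) (z : 𝒳.obj) :
    ∃ (y : FObj π (etaOf E)) (φ : y.pt ⟶ z), K908.Aff.IsTerm (fibPt π (etaOf E)) (w := y) φ ∧ Etale (bmap 𝒳 φ) ∧
      (IsAffine E.obj.left.left → IsSeparated (bmap 𝒳 φ)) ∧
      (IsQuasiSeparatedSp M → QuasiCompact E.obj.left.hom → QuasiCompact (bmap 𝒳 φ)) := by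
  obtain ⟨m', p, q, h1, h2, h3, h4⟩ := EtFib.exists_prod E (π.obj z)
  obtain ⟨y, φ, i, hi, hc⟩ := exists_lift_fun h𝒳 isFibGrpd_ofSp π (x := z) p
  have I := baseOver_isIso π i
  have e1 : bmap 𝒳 φ = (baseOver π y i).left ≫ p.hom.left ≫ (eqToHom (π.w_obj z)).left := by
    have h5 : 𝒳.p.map φ = eqToHom (π.w_obj y).symm ≫ (ofSp M).p.map (π.map φ) ≫ eqToHom (π.w_obj z) := by
      rw [K735.Fib.map_map]
      simp
    have h6 : 𝒳.p.map φ = baseOver π y i ≫ p.hom ≫ eqToHom (π.w_obj z) := by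
      rw [h5, ← hc]
      unfold baseOver
      rw [Functor.map_comp, Category.assoc, Category.assoc]
      rfl
    exact congrArg (fun k => k.left) h6
  have I' : IsIso (eqToHom (π.w_obj z)).left := by
    have : IsIso ((Over.forget S).map (eqToHom (π.w_obj z))) := inferInstance
    exact this
  refine ⟨⟨y, i ≫ q⟩, φ, ?_, ?_, ?_, ?_⟩
  · intro θ β
    obtain ⟨c, ⟨hc1, hc2⟩, hc3⟩ := h4 (π.obj θ.pt) (π.map β) θ.arr
    obtain ⟨χ, ⟨hχ1, hχ2⟩, hχ3⟩ := existsUnique_hom_over h𝒳 isFibGrpd_ofSp π φ β (c ≫ inv i) (by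
      rw [Category.assoc, ← hc, IsIso.inv_hom_id_assoc, hc1])
    refine ⟨⟨χ, ?_⟩, hχ1, ?_⟩
    · change π.map χ ≫ i ≫ q = θ.arr
      rw [hχ2, Category.assoc, IsIso.inv_hom_id_assoc, hc2]
    · intro χ' hχ'
      refine FObj.hom_ext (hχ3 χ'.hom ⟨hχ', ?_⟩)
      have h7 := hc3 (π.map χ'.hom ≫ i) ⟨by
        rw [Category.assoc, hc, ← Functor.map_comp]
        exact congrArg (fun k => π.map k) hχ', by
        rw [Category.assoc]
        exact χ'.comm⟩
      rw [← h7, Category.assoc, IsIso.hom_inv_id, Category.comp_id]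
  · rw [e1]
    infer_instance
  · intro hE
    have := h2 hE
    rw [e1]
    infer_instance
  · intro hM hE
    have := h3 hM hE
    rw [e1]
    infer_instance

/-- The locus where two arrows to an affine étale scheme over `M` agree. -/
theorem exists_agree (h𝒳 : FibCat.IsFibGrpd 𝒳.p) (π : 𝒳 ⥤ᵇ ofSp M) (E : EtOver M) (hE : IsAffine E.obj.left.left) {z : 𝒳.obj}
    (a b : π.obj z ⟶ etaOf E) : ∃ W : (sch 𝒳 z).Opens, IsClosed (W : Set (sch 𝒳 z)) ∧
      ∀ {y : 𝒳.obj} (c : y ⟶ z), π.map c ≫ a = π.map c ≫ b ↔ Set.range (bmap 𝒳 c) ⊆ (W : Set (sch 𝒳 z)) := by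
  obtain ⟨W, h1, h2⟩ := EtFib.exists_agree E hE a b
  let i : sch 𝒳 z ≅ (π.obj z).base.left := (Over.forget S).mapIso (eqToIso (π.w_obj z).symm)
  refine ⟨i.hom ⁻¹ᵁ W, h1.preimage i.hom.continuous, fun {y} c => ?_⟩
  rw [h2]
  have e1 : (π.map c).hom.left = (eqToHom (π.w_obj y)).left ≫ bmap 𝒳 c ≫ i.hom := by
    have := K735.Fib.map_map π c
    exact congrArg (fun k => k.left) this
  let j : (π.obj y).base.left ≅ sch 𝒳 y := (Over.forget S).mapIso (eqToIso (π.w_obj y))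
  have e2 : (eqToHom (π.w_obj y)).left = j.hom := rfl
  rw [e1, e2]
  constructor
  · rintro h _ ⟨x, rfl⟩
    refine h ⟨j.inv x, ?_⟩
    change (j.hom ≫ bmap 𝒳 c ≫ i.hom) (j.inv x) = i.hom (bmap 𝒳 c x)
    have : (j.inv ≫ j.hom ≫ bmap 𝒳 c ≫ i.hom) x = (bmap 𝒳 c ≫ i.hom) x := by rw [Iso.inv_hom_id_assoc]
    exact this
  · rintro h _ ⟨x, rfl⟩
    exact h ⟨j.hom x, rfl⟩

end K907.FibTerm
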