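import Groth.Agent.StMod.K907.FibTerm
import Groth.Agent.StMod.K906.FBC
import Groth.Agent.StMod.K906.SchFac2

/-!
# Flat base change for `𝒳_E ⟶ 𝒳`

* `nonempty_pres_of_terminal` : an affine presentation of a category with a terminal object over a quasi-compact scheme
  separated over an affine one;
* `relBC_fibPt` : flat base change for `fibPt π (etaOf E) : fibCat π (etaOf E) ⥤ᵇ 𝒳`, `E` affine étale over a
  quasi-separated `M`.
-/

set_option autoImplicit false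
set_option linter.unusedVariables false
set_option linter.style.haveILetI false
set_option backward.isDefEq.respectTransparency false
set_option backward.isDefEq.respectTransparency.types false

universe t w' v' w v u

open CategoryTheory CategoryTheory.Limits AlgebraicGeometry Opposite StMod AlgSt AlgSp

namespace K907.PresTerm

open K906 K906.Span K907.Sec

variable {S : Scheme.{u}} {𝒳 : BasedCategory.{v, w} (Over S)} {𝒴 : BasedCategory.{v', w'} (Over S)}

theorem nonempty_pres_of_terminal (h : FibCat.IsFibGrpd 𝒳.p) (T : 𝒳.obj) (hT : ∀ x : 𝒳.obj, ∃! f : x ⟶ T, True)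
    {V : Scheme.{u}} [IsAffine V] (g : sch 𝒳 T ⟶ V) [QuasiCompact g] [IsSeparated g] : Nonempty (Pres 𝒳) := by
  have hc : CompactSpace (sch 𝒳 T) := QuasiCompact.compactSpace_of_compactSpace g
  obtain ⟨W', j, hW', hj, hjs⟩ := SchFac.exists_affine_refine (𝟙 (sch 𝒳 T)) (by
    rw [Scheme.Hom.id_base]
    exact IsOpenMap.id) inferInstance
  rw [Category.comp_id] at hjs
  obtain ⟨ζ, φ, e, hφ⟩ := Grpd.exists_lift_sch h T j
  obtain ⟨ρ, s, t, sq⟩ := Grpd.exists_isPullback h φ φ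
  have hζ : IsAffine (sch 𝒳 ζ) := IsAffine.of_isIso e.hom
  have hφe : Etale (bmap 𝒳 φ) := by rw [hφ]; infer_instance
  have hφs : Surjective (bmap 𝒳 φ) := by rw [hφ]; infer_instance
  have hφa : IsAffineHom (bmap 𝒳 φ) := by
    have : IsAffineHom (bmap 𝒳 φ ≫ g) := inferInstance
    exact IsAffineHom.of_comp (bmap 𝒳 φ) g
  have sq' := Grpd.isPullback_bmap h sq
  have hs : IsAffineHom (bmap 𝒳 s) := MorphismProperty.of_isPullback (P := @IsAffineHom) sq'.flip hφa
  have hse : Etale (bmap 𝒳 s) := MorphismProperty.of_isPullback (P := @Etale) sq'.flip hφe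
  have hte : Etale (bmap 𝒳 t) := MorphismProperty.of_isPullback (P := @Etale) sq' hφe
  have huniq : ∀ {x : 𝒳.obj} (a b : x ⟶ T), a = b := fun {x} a b => (hT x).unique trivial trivial
  have hρ : IsAffine (sch 𝒳 ρ) := isAffine_of_isAffineHom (bmap 𝒳 s)
  refine ⟨⟨ζ, ρ, s, t, hζ, hρ, ?_, inferInstance, inferInstance, ?_, ?_⟩⟩
  · intro χ x y
    refine ⟨χ, sq.lift x y (huniq _ _), 𝟙 χ, ⟨?_, ?_, ?_⟩, ?_⟩
    · rw [sq.lift_fst, Category.id_comp]
    · rw [sq.lift_snd, Category.id_comp]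
    · intro ρ' k' l' h1 h2
      refine ⟨l', ⟨?_, Category.comp_id _⟩, ?_⟩
      · apply sq.hom_ext
        · rw [Category.assoc, sq.lift_fst, h1]
        · rw [Category.assoc, sq.lift_snd, h2]
      · rintro m ⟨-, hm⟩
        rw [← hm, Category.comp_id]
    · rw [bmap_id]
      infer_instance
  · intro z hz
    obtain ⟨m, -, -⟩ := hT z
    obtain ⟨z', f, d, sqz⟩ := Grpd.exists_isPullback h m φ
    have sqz' := Grpd.isPullback_bmap h sqz
    have hf : IsAffineHom (bmap 𝒳 f) := MorphismProperty.of_isPullback (P := @IsAffineHom) sqz'.flip hφa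
    have hfe : Etale (bmap 𝒳 f) := MorphismProperty.of_isPullback (P := @Etale) sqz'.flip hφe
    have hfs : Surjective (bmap 𝒳 f) := MorphismProperty.of_isPullback (P := @Surjective) sqz'.flip hφs
    exact ⟨z', f, d, isAffine_of_isAffineHom (bmap 𝒳 f), inferInstance, hfs⟩
  · intro z a b hz
    refine ⟨z, 𝟙 z, sq.lift a b (huniq _ _), hz, ?_, ?_, ?_, ?_⟩
    · rw [bmap_id]; infer_instance
    · rw [bmap_id]; infer_instance
    · rw [sq.lift_fst, Category.id_comp]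
    · rw [sq.lift_snd, Category.id_comp]

variable {M : Sp S}

/-- A terminal object from a universal arrow. -/
theorem terminal_of_isTerm {p : 𝒴 ⥤ᵇ 𝒳} {ξ : 𝒳.obj} {y : 𝒴.obj} {α : p.obj y ⟶ ξ} (h : K908.Aff.IsTerm p α)
    (x : (fibCat p ξ).obj) : ∃! f : x ⟶ (⟨y, α⟩ : FObj p ξ), True := by
  obtain ⟨χ, hχ, hu⟩ := h (FObj.pt x) (FObj.arr x)
  exact ⟨FObj.mkHom χ hχ, trivial, fun f _ => FObj.hom_ext (hu _ f.comm)⟩

/-- Affine presentations of `z ×_M E`. -/
theorem nonempty_pres_fibPt (h𝒳 : FibCat.IsFibGrpd 𝒳.p) (π : 𝒳 ⥤ᵇ ofSp M) (E : EtOver M)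
    (hE : IsAffine E.obj.left.left) (hM : IsQuasiSeparatedSp M) (hES : QuasiCompact E.obj.left.hom) {z : 𝒳.obj}
    (hz : IsAffine (sch 𝒳 z)) : Nonempty (Pres (fibCat (fibPt π (etaOf E)) z)) := by
  obtain ⟨y, φ, h1, h2, h3, h4⟩ := FibTerm.exists_fibObj h𝒳 π E z
  have h5 := h3 hE
  have h6 := h4 hM hES
  have h7 : FibCat.IsFibGrpd (fibCat π (etaOf E)).p := isFibGrpd_fibCat h𝒳
  exact nonempty_pres_of_terminal (𝒳 := fibCat (fibPt π (etaOf E)) z) (isFibGrpd_fibCat h7)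
    (⟨y, φ⟩ : FObj (fibPt π (etaOf E)) z) (terminal_of_isTerm h1) (V := sch 𝒳 z) (bmap 𝒳 φ)

/-- Flat base change for `𝒳_E ⟶ 𝒳`. -/
theorem relBC_fibPt (h𝒳 : FibCat.IsFibGrpd 𝒳.p) (π : 𝒳 ⥤ᵇ ofSp M) (E : EtOver M)
    (hE : IsAffine E.obj.left.left) (hM : IsQuasiSeparatedSp M) (hES : QuasiCompact E.obj.left.hom)
    (F : QCoh (fibCat π (etaOf E))) {z' z : 𝒳.obj} (g : z' ⟶ z) (hz' : IsAffine (sch 𝒳 z')) (hz : IsAffine (sch 𝒳 z))
    (hg : Flat (bmap 𝒳 g)) : K908.Push.RelBC (fibPt π (etaOf E)) F.obj g := by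
  obtain ⟨P⟩ := nonempty_pres_fibPt h𝒳 π E hE hM hES hz
  exact FBC.relBC_of_pres (isFibGrpd_fibCat h𝒳) h𝒳 g hz hz' hg P F

end K907.PresTerm
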