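import Groth.Agent.StMod.K907.ResPt
import Groth.Agent.StMod.K907.PresTerm
import Groth.Prelude.Def_StMod2

/-!
# Exactness of global sections on `𝒳_E`

For `π : 𝒳 ⟶ M` cohomologically affine and `E` affine étale over a quasi-separated `M`, global sections are exact on
quasi-coherent modules on `𝒳_E = fibCat π (etaOf E)` (not only on those coming from `𝒳`).

* `PushEv p F E` : a quasi-coherent `E` on `𝒳` with natural maps `Γ(E_z) ⟶ RelSect p F z`;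
* `bijective_ev` : bijectivity spreads along flat arrows;
* `surjective_globSectMap` : the main theorem, given pushforwards (`PushEv` bijective on the atlas).
-/

set_option autoImplicit false
set_option linter.unusedVariables false
set_option linter.style.haveILetI false
set_option backward.isDefEq.respectTransparency false
set_option backward.isDefEq.respectTransparency.types false

universe t w' v' w v u

open CategoryTheory CategoryTheory.Limits AlgebraicGeometry Opposite StMod AlgSt AlgSp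
open Groth.Agent.CohqA.BaseChangeMod

namespace K907.L1

open K906 K907.Sec K907.Atl K907.Alg K907.QDesc K907.Quot K908.AMod K908.Push

variable {S : Scheme.{u}} {𝒳 : BasedCategory.{v, w} (Over S)} {𝒴 : BasedCategory.{v', w'} (Over S)}

/-- Natural maps from the sections of `E` to the sections of the pushforward of `F`. -/
structure PushEv (p : 𝒴 ⥤ᵇ 𝒳) (F : Mod 𝒴) (E : Mod 𝒳) where
  ev : ∀ (ξ : 𝒳.obj) (_ : IsAffine (sch 𝒳 ξ)), Γ(E.obj ξ, ⊤) →ₗ[Γ(sch 𝒳 ξ, ⊤)] Mod.RelSect p F ξ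
  comm : ∀ {ξ' ξ : 𝒳.obj} (φ : ξ' ⟶ ξ) (h' : IsAffine (sch 𝒳 ξ')) (h : IsAffine (sch 𝒳 ξ))
    (x : Γ(E.obj ξ, ⊤)), ev ξ' h' (E.mapTop φ x) = relRes p F φ (ev ξ h x)

section

variable {p : 𝒴 ⥤ᵇ 𝒳}

theorem isBC_precomp {A B : Type u} [CommRing A] [CommRing B] {φ : A →+* B} {M M' N : Type u} [AddCommGroup M]
    [AddCommGroup M'] [AddCommGroup N] [Module A M] [Module A M'] [Module B N] {f : M →+ N} (h : IsBC φ f)
    (e : M' ≃ₗ[A] M) : IsBC φ (f.comp e.toAddEquiv.toAddMonoidHom) := by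
  have h1 : IsBC (RingHom.id A) e.toAddEquiv.toAddMonoidHom :=
    IsBC.of_bijective _ Function.bijective_id _ e.bijective (fun r x => e.map_smul r x)
  have h2 := h1.comp h
  rwa [RingHom.comp_id] at h2

/-- Bijectivity of the evaluation spreads along arrows with base change. -/
theorem bijective_ev {F : Mod 𝒴} {E : QCoh 𝒳} (P : PushEv p F E.obj) {z z₀ : 𝒳.obj} (d : z ⟶ z₀)
    (hz : IsAffine (sch 𝒳 z)) (hz₀ : IsAffine (sch 𝒳 z₀)) (h₀ : Function.Bijective (P.ev z₀ hz₀))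
    (hBC : RelBC p F d) : Function.Bijective (P.ev z hz) := by
  obtain ⟨M, N, i1, i2, i3, i4, e, e', f, hf, hbc⟩ := hBC
  let a : Γ(E.obj.obj z₀, ⊤) ≃ₗ[Γ(sch 𝒳 z₀, ⊤)] M := (LinearEquiv.ofBijective (P.ev z₀ hz₀) h₀).trans e.symm
  have h1 := isBC_precomp hbc a
  let g : Γ(E.obj.obj z, ⊤) →ₗ[Γ(sch 𝒳 z, ⊤)] N := e'.symm.toLinearMap.comp (P.ev z hz)
  have h2 := (isBC_resTop E d).bijective_of_isBC h1 g (fun x => by
    change e'.symm (P.ev z hz (E.obj.mapTop d x)) = f (a x)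
    rw [LinearEquiv.symm_apply_eq, hf, P.comm d hz hz₀]
    congr 1
    exact (e.apply_symm_apply _).symm)
  have h3 : ⇑(P.ev z hz) = ⇑e' ∘ ⇑g := by
    funext x
    exact (e'.apply_symm_apply _).symm
  rw [h3]
  exact e'.bijective.comp h2

/-- The kernel of the composite with a morphism `F ⟶ G`. -/
noncomputable def kerEv {F G : Mod 𝒴} {E : Mod 𝒳} (P : PushEv p F E) (u : F ⟶ G) (z : 𝒳.obj)
    (hz : IsAffine (sch 𝒳 z)) : Submodule Γ(sch 𝒳 z, ⊤) Γ(E.obj z, ⊤) :=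
  LinearMap.ker ((Mod.relSectMap p u z).comp (P.ev z hz))

theorem mem_kerEv {F G : Mod 𝒴} {E : Mod 𝒳} {P : PushEv p F E} {u : F ⟶ G} {z : 𝒳.obj}
    {hz : IsAffine (sch 𝒳 z)} {x : Γ(E.obj z, ⊤)} :
    x ∈ kerEv P u z hz ↔ Mod.relSectMap p u z (P.ev z hz x) = 0 := Iff.rfl

theorem relSectMap_relRes {F G : Mod 𝒴} (u : F ⟶ G) {z' z : 𝒳.obj} (d : z' ⟶ z) (s : Mod.RelSect p F z) :
    Mod.relSectMap p u z' (relRes p F d s) = relRes p G d (Mod.relSectMap p u z s) := rfl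

/-- The kernels are compatible with flat arrows. -/
theorem pull_kerEv {F G : Mod 𝒴} {E : QCoh 𝒳} (P : PushEv p F E.obj) (u : F ⟶ G) {z z₀ : 𝒳.obj} (d : z ⟶ z₀)
    (hz : IsAffine (sch 𝒳 z)) (hz₀ : IsAffine (sch 𝒳 z₀)) (hd : Flat (bmap 𝒳 d)) (hBC : RelBC p G d) :
    pull d (kerEv P u z₀ hz₀) = kerEv P u z hz := by
  obtain ⟨M, N, i1, i2, i3, i4, e, e', f, hf, hbc⟩ := hBC
  let a : Γ(E.obj.obj z₀, ⊤) →ₗ[Γ(sch 𝒳 z₀, ⊤)] M :=
    e.symm.toLinearMap.comp ((Mod.relSectMap p u z₀).comp (P.ev z₀ hz₀))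
  let b : Γ(E.obj.obj z, ⊤) →ₗ[Γ(sch 𝒳 z, ⊤)] N :=
    e'.symm.toLinearMap.comp ((Mod.relSectMap p u z).comp (P.ev z hz))
  have ha : kerEv P u z₀ hz₀ = LinearMap.ker a := by
    ext x
    change _ ↔ e.symm (Mod.relSectMap p u z₀ (P.ev z₀ hz₀ x)) = 0
    rw [LinearEquiv.map_eq_zero_iff, mem_kerEv]
  have hb : kerEv P u z hz = LinearMap.ker b := by
    ext x
    change _ ↔ e'.symm (Mod.relSectMap p u z (P.ev z hz x)) = 0
    rw [LinearEquiv.map_eq_zero_iff, mem_kerEv]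
  rw [ha, hb]
  refine ext_ker_eq (ringMap_flat d hd) (isBC_resTop E d) hbc a b (fun x => ?_)
  change e'.symm (Mod.relSectMap p u z (P.ev z hz (E.obj.mapTop d x))) = f (e.symm _)
  rw [LinearEquiv.symm_apply_eq, hf, P.comm d hz hz₀, relSectMap_relRes]
  congr 1
  exact (e.apply_symm_apply _).symm

end

section Main

variable {M : Sp S} (h𝒳 : FibCat.IsFibGrpd 𝒳.p) (π : 𝒳 ⥤ᵇ ofSp M) (E : EtOver M) {J : Type t} {Z : J → 𝒳.obj}

include h𝒳 in
/-- MAIN THEOREM: global sections are exact on `𝒳_E`. -/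
theorem surjective_globSectMap (hE : IsAffine E.obj.left.left) (hM : IsQuasiSeparatedSp M)
    (hES : QuasiCompact E.obj.left.hom) (hZ : SmCov Z) (hπ : IsCohAffine π) {F G : QCoh (fibCat π (etaOf E))}
    (u : F ⟶ G) (hu : Mod.IsSurj u.hom) {A : QCoh 𝒳} (P : PushEv (fibPt π (etaOf E)) F.obj A.obj)
    (hP : ∀ j, Function.Bijective (P.ev (Z j) (hZ.aff j))) : Function.Surjective (Mod.globSectMap u.hom) := by
  classical
  intro g
  haveI hfib : FibCat.IsFibGrpd (fibCat π (etaOf E)).p := isFibGrpd_fibCat h𝒳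
  haveI := h𝒳
  let p := fibPt π (etaOf E)
  have hgen := Gen.genCl_fib h𝒳 π E hE hZ
  haveI := hZ.aff
  -- the evaluation is bijective on flat objects
  have hev : ∀ (z : 𝒳.obj) (hz : IsAffine (sch 𝒳 z)) (j : J) (d : z ⟶ Z j), Flat (bmap 𝒳 d) →
      Function.Bijective (P.ev z hz) := fun z hz j d hd =>
    bijective_ev P d hz (hZ.aff j) (hP j) (PresTerm.relBC_fibPt h𝒳 π E hE hM hES F d hz (hZ.aff j) hd)
  -- the quotient
  let K : Fam Z A := fun j => kerEv P u.hom (Z j) (hZ.aff j)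
  have hK : Compat K := by
    refine hZ.compat (fun θ => if hθ : IsAffine (sch 𝒳 θ) then kerEv P u.hom θ hθ else ⊤) ?_
    intro θ j q hθ hq
    rw [dif_pos hθ]
    exact pull_kerEv P u.hom q hθ (hZ.aff j) inferInstance
      (PresTerm.relBC_fibPt h𝒳 π E hE hM hES G q hθ (hZ.aff j) inferInstance)
  obtain ⟨Q, q, hq, hqK⟩ := exists_quotient_atlas h𝒳 hZ.covers A hK
  have hker : ∀ (z : 𝒳.obj) (hz : IsAffine (sch 𝒳 z)) (j : J) (d : z ⟶ Z j), Flat (bmap 𝒳 d) →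
      ∀ x : Γ(A.obj.obj z, ⊤), (q.hom.app z).app ⊤ x = 0 ↔ Mod.relSectMap p u.hom z (P.ev z hz x) = 0 := by
    intro z hz j d hd x
    haveI := hz
    rw [hqK z x, all_eq_pull h𝒳 hZ.covers hK d, ← mem_kerEv (P := P) (u := u.hom) (hz := hz)]
    rw [show pull d (K j) = kerEv P u.hom z hz from pull_kerEv P u.hom d hz (hZ.aff j) hd
      (PresTerm.relBC_fibPt h𝒳 π E hE hM hES G d hz (hZ.aff j) hd)]
  -- lifts of the section
  have hlift : ∀ y : (fibCat π (etaOf E)).obj, Gen.FlCl π E Z y → ∃ (f : Γ(F.obj.obj y, ⊤)) (a : Γ(A.obj.obj (FObj.pt y), ⊤)),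
      (u.hom.app y).app ⊤ f = g.1 y ∧ ∃ hy : IsAffine (sch 𝒳 (FObj.pt y)),
      (∀ (x : (fibCat π (etaOf E)).obj) (c : x ⟶ y), IsAffine (sch (fibCat π (etaOf E)) x) →
        (P.ev (FObj.pt y) hy a).1 x (FObj.Hom.hom c) = F.obj.mapTop c f) ∧
      (∀ X : FObj (fibPt π (etaOf E)) (FObj.pt y), IsAffine (sch 𝒳 (FObj.pt (FObj.pt X))) →
        ResPt.Dis π E X → (P.ev (FObj.pt y) hy a).1 X.pt X.arr = 0) := by
    intro y hy
    obtain ⟨hy1, j, d, hd⟩ := hy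
    obtain ⟨f, hf⟩ := hu y hy1 (g.1 y)
    obtain ⟨s, hs1, hs2⟩ := ResPt.exists_zext h𝒳 π E hE F y f
    obtain ⟨a, rfl⟩ := (hev (FObj.pt y) hy1 j d hd).2 s
    exact ⟨f, a, hf, hy1, hs1, hs2⟩
  choose f a hfa hya hsa hsa' using hlift
  -- comparison of two lifts
  have key : ∀ (y' y : (fibCat π (etaOf E)).obj) (φ : y' ⟶ y) (hy' : Gen.FlCl π E Z y') (hy : Gen.FlCl π E Z y),
      A.obj.mapTop (FObj.Hom.hom φ) (a y hy) - a y' hy' ∈ kerEv P u.hom (FObj.pt y') (hya y' hy') := by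
    intro y' y φ hy' hy
    rw [mem_kerEv, map_sub, map_sub, sub_eq_zero, P.comm (FObj.Hom.hom φ) (hya y' hy') (hya y hy), relSectMap_relRes]
    refine ResPt.relSect_ext_ad h𝒳 π E hE G y' fun X hX had => ?_
    rw [relRes_val, Mod.relSectMap_val, Mod.relSectMap_val]
    rcases had with hag | hdis
    · let c : X.pt ⟶ y' := FObj.mkHom X.arr hag
      have e1 : (P.ev (FObj.pt y) (hya y hy) (a y hy)).1 X.pt (X.arr ≫ FObj.Hom.hom φ) = F.obj.mapTop (c ≫ φ) (f y hy) :=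
        hsa y hy X.pt (c ≫ φ) hX
      have e2 : (P.ev (FObj.pt y') (hya y' hy') (a y' hy')).1 X.pt X.arr = F.obj.mapTop c (f y' hy') :=
        hsa y' hy' X.pt c hX
      rw [e1, e2, ← Mod.mapTop_app, ← Mod.mapTop_app, hfa, hfa, g.2, g.2]
    · have hdis' : ResPt.Dis π E (y := y) ⟨X.pt, X.arr ≫ FObj.Hom.hom φ⟩ := by
        intro X' k hX'
        let kh : X'.pt ⟶ X.pt := FObj.Hom.hom k
        let X₁ : FObj (fibPt π (etaOf E)) (FObj.pt y') := ⟨X'.pt, FObj.Hom.hom kh ≫ X.arr⟩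
        let k₁ : X₁ ⟶ X := FObj.mkHom (a := X₁) (b := X) kh rfl
        refine hdis X₁ k₁ ?_
        unfold ResPt.Agr at hX' ⊢
        rw [← hX']
        have e3 : FObj.Hom.hom (FObj.Hom.hom k) ≫ X.arr ≫ FObj.Hom.hom φ = X'.arr := k.comm
        rw [← e3, ← φ.comm]
        change π.map (FObj.Hom.hom (FObj.Hom.hom k) ≫ X.arr) ≫ π.map (FObj.Hom.hom φ) ≫ FObj.arr y = _
        simp only [Functor.map_comp, Category.assoc]
      have e1 : (P.ev (FObj.pt y) (hya y hy) (a y hy)).1 X.pt (X.arr ≫ FObj.Hom.hom φ) = 0 :=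
        hsa' y hy ⟨X.pt, X.arr ≫ FObj.Hom.hom φ⟩ hX hdis'
      have e2 : (P.ev (FObj.pt y') (hya y' hy') (a y' hy')).1 X.pt X.arr = 0 := hsa' y' hy' X hX hdis
      rw [e1, e2]
  -- the section of the quotient
  obtain ⟨s, hs⟩ := hgen.exists_globSect (ResPt.resQ π (etaOf E) Q)
    (fun y hy => (q.hom.app (FObj.pt y)).app ⊤ (a y hy)) (fun y' y φ hy' hy => by
      change Q.obj.mapTop (FObj.Hom.hom φ) ((q.hom.app (FObj.pt y)).app ⊤ (a y hy)) = _
      rw [Mod.mapTop_app, ← sub_eq_zero, ← map_sub]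
      obtain ⟨h1, j, d, hd⟩ := hy'
      rw [hker (FObj.pt y') h1 j d hd]
      exact mem_kerEv.1 (key y' y φ ⟨h1, j, d, hd⟩ hy))
  -- lift it
  obtain ⟨b, hb⟩ := hπ q hq E hE (ResPt.ofGlob s)
  have hb' : ∀ y : (fibCat π (etaOf E)).obj, (q.hom.app (FObj.pt y)).app ⊤ (b.1 (FObj.pt y) (FObj.arr y)) = s.1 y :=
    fun y => congrArg (fun k : Mod.RelSect π Q.obj (etaOf E) => k.1 (FObj.pt y) (FObj.arr y)) hb
  -- evaluate
  obtain ⟨t, ht⟩ := K908.QHom.exists_globSect (C := ASieve.all (fibCat π (etaOf E))) K908.Fam.zloc_all F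
    (fun ζ => (P.ev (FObj.pt ζ.obj) ζ.property (b.1 (FObj.pt ζ.obj) (FObj.arr ζ.obj))).1 ζ.obj (𝟙 _))
    (fun ζ' ζ φ => by
      let k : ζ'.obj ⟶ ζ.obj := φ.hom
      refine ((P.ev (FObj.pt ζ.obj) ζ.property (b.1 (FObj.pt ζ.obj) (FObj.arr ζ.obj))).2 k (𝟙 _)).trans ?_
      have e1 : A.obj.mapTop (FObj.Hom.hom k) (b.1 (FObj.pt ζ.obj) (FObj.arr ζ.obj)) =
          b.1 (FObj.pt ζ'.obj) (FObj.arr ζ'.obj) := by
        rw [b.2 (FObj.Hom.hom k) (FObj.arr ζ.obj), k.comm]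
      have e2 := P.comm (FObj.Hom.hom k) ζ'.property ζ.property (b.1 (FObj.pt ζ.obj) (FObj.arr ζ.obj))
      rw [e1] at e2
      rw [e2, relRes_val]
      rw [Category.comp_id, Category.id_comp]
      rfl)
  refine ⟨t, ?_⟩
  refine hgen.globSect_ext G fun y hy => ?_
  rw [Mod.globSectMap_val, ht ⟨y, hy.1⟩]
  obtain ⟨h1, j, d, hd⟩ := id hy
  have h2 := hb' y
  rw [hs y hy, ← sub_eq_zero, ← map_sub, hker (FObj.pt y) h1 j d hd, map_sub, map_sub, sub_eq_zero] at h2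
  have h3 := congrArg (fun k : Mod.RelSect p G.obj (FObj.pt y) => k.1 y (𝟙 _)) h2
  change (u.hom.app y).app ⊤ ((P.ev (FObj.pt y) h1 (b.1 (FObj.pt y) (FObj.arr y))).1 y (𝟙 _)) =
    (u.hom.app y).app ⊤ ((P.ev (FObj.pt y) h1 (a y hy)).1 y (𝟙 _)) at h3
  refine h3.trans ?_
  have h4 : (P.ev (FObj.pt y) h1 (a y hy)).1 y (𝟙 _) = F.obj.mapTop (𝟙 y) (f y hy) := hsa y hy y (𝟙 y) h1
  rw [h4, Mod.mapTop_id, hfa]

end Main

end K907.L1
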