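import Groth.Agent.StMod.K907.Gen
import Groth.Agent.StMod.K908.Push

/-!
# Restriction of modules to `fibCat π η`, and extension by zero

* `resMod π η F`, `resQ π η F` : the pullback of `F` along `fibPt π η` (`obj a = F.obj a.pt`);
* `toGlob`, `ofGlob` : `RelSect π F η` is `GlobSect (resMod π η F)`;
* `exists_zext` : a section `f` over an object `y` of `𝒳_E` (`E` affine étale over `M`) extends by zero to a section of the
  pushforward along `𝒳_E ⟶ 𝒳` over `y.pt`.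
-/

set_option autoImplicit false
set_option linter.unusedVariables false
set_option linter.style.haveILetI false
set_option backward.isDefEq.respectTransparency false
set_option backward.isDefEq.respectTransparency.types false

universe t w' v' w v u

open CategoryTheory CategoryTheory.Limits AlgebraicGeometry Opposite StMod AlgSt AlgSp

namespace K907.ResPt

open K906 K907.Sec K907.Atl K908.AMod K908.Fam

variable {S : Scheme.{u}} {𝒳 : BasedCategory.{v, w} (Over S)} {𝒴 : BasedCategory.{v', w'} (Over S)}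

section Res

variable (π : 𝒳 ⥤ᵇ 𝒴) (η : 𝒴.obj)

/-- The restriction of a module to `fibCat π η`. -/
noncomputable def resMod (F : Mod 𝒳) : Mod (fibCat π η) where
  obj a := F.obj (FObj.pt a)
  map {_ _} φ {g} hg := F.map (FObj.Hom.hom φ) hg
  map_id a := F.map_id (FObj.pt a)
  map_comp {_ _ _} ψ φ {h g} hh hg := F.map_comp (FObj.Hom.hom ψ) (FObj.Hom.hom φ) hh hg

theorem resMod_mapTop (F : Mod 𝒳) {a b : (fibCat π η).obj} (φ : a ⟶ b) (x : Γ(F.obj (FObj.pt b), ⊤)) :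
    (resMod π η F).mapTop φ x = F.mapTop (FObj.Hom.hom φ) x := rfl

/-- The restriction of a quasi-coherent module. -/
noncomputable def resQ (F : QCoh 𝒳) : QCoh (fibCat π η) :=
  ⟨resMod π η F.obj, fun {a b} φ => F.property.1 (FObj.Hom.hom φ), fun a => F.property.2 (FObj.pt a)⟩

/-- The restriction of a morphism. -/
noncomputable def resHom {F G : Mod 𝒳} (u : F ⟶ G) : resMod π η F ⟶ resMod π η G where
  app a := u.app (FObj.pt a)
  comm {_ _} φ {g} hg := u.comm (FObj.Hom.hom φ) hg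

theorem isSurj_resHom {F G : Mod 𝒳} (u : F ⟶ G) (h : Mod.IsSurj u) : Mod.IsSurj (resHom π η u) :=
  fun a ha => h (FObj.pt a) ha

variable {π η}

/-- Sections of the pushforward as global sections of the restriction. -/
def toGlob {F : Mod 𝒳} (s : Mod.RelSect π F η) : (resMod π η F).GlobSect :=
  ⟨fun a => s.1 (FObj.pt a) (FObj.arr a), fun a b φ => by
    refine (s.2 (FObj.Hom.hom φ) (FObj.arr b)).trans ?_
    rw [φ.comm]⟩

/-- Global sections of the restriction as sections of the pushforward. -/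
def ofGlob {F : Mod 𝒳} (s : (resMod π η F).GlobSect) : Mod.RelSect π F η :=
  ⟨fun ξ α => s.1 (⟨ξ, α⟩ : FObj π η), fun ξ' ξ φ α =>
    s.2 (show (⟨ξ', π.map φ ≫ α⟩ : FObj π η) ⟶ (⟨ξ, α⟩ : FObj π η) from FObj.mkHom φ rfl)⟩

@[simp] theorem ofGlob_val {F : Mod 𝒳} (s : (resMod π η F).GlobSect) (ξ : 𝒳.obj) (α : π.obj ξ ⟶ η) :
    (ofGlob s).1 ξ α = s.1 (⟨ξ, α⟩ : FObj π η) := rfl

@[simp] theorem toGlob_val {F : Mod 𝒳} (s : Mod.RelSect π F η) (a : (fibCat π η).obj) :
    (toGlob s).1 a = s.1 (FObj.pt a) (FObj.arr a) := rfl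

end Res

section Zext

/-- Global sections over an empty scheme. -/
theorem subsingleton_sec {X : Scheme.{u}} (F : X.Modules) [IsEmpty X] : Subsingleton Γ(F, ⊤) := by
  have : Subsingleton Γ(X, ⊤) := inferInstance
  exact Module.subsingleton Γ(X, ⊤) Γ(F, ⊤)

variable {M : Sp S} (h𝒳 : FibCat.IsFibGrpd 𝒳.p) (π : 𝒳 ⥤ᵇ ofSp M) (E : EtOver M)

/-- `c` is compatible with the arrows to `E`. -/
def Agr {y : FObj π (etaOf E)} (X : FObj (fibPt π (etaOf E)) (FObj.pt y)) : Prop :=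
  π.map X.arr ≫ FObj.arr y = FObj.arr X.pt

/-- `c` is nowhere compatible with the arrows to `E`. -/
def Dis {y : FObj π (etaOf E)} (X : FObj (fibPt π (etaOf E)) (FObj.pt y)) : Prop :=
  ∀ (X' : FObj (fibPt π (etaOf E)) (FObj.pt y)) (k : X' ⟶ X), Agr π E X' → IsEmpty (sch 𝒳 (FObj.pt X'.pt))

/-- The class of affine objects compatible or nowhere compatible. -/
def adSieve (y : FObj π (etaOf E)) : ASieve (fibCat (fibPt π (etaOf E)) (FObj.pt y)) where
  P X := IsAffine (sch 𝒳 (FObj.pt (FObj.pt X))) ∧ (Agr π E X ∨ Dis π E X)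
  aff _ h := h.1
  down X' X φ h h' := by
    refine ⟨h', ?_⟩
    rcases h.2 with h2 | h2
    · left
      unfold Agr at h2 ⊢
      have e1 : FObj.Hom.hom (FObj.Hom.hom φ) ≫ X.arr = X'.arr := φ.comm
      have e2 : π.map (FObj.Hom.hom (FObj.Hom.hom φ)) ≫ FObj.arr X.pt = FObj.arr X'.pt := (FObj.Hom.hom φ).comm
      rw [← e1, Functor.map_comp, Category.assoc, h2]
      exact e2
    · right
      intro X'' k hX''
      exact h2 X'' (k ≫ φ) hX''

include h𝒳 in
theorem zloc_adSieve (hE : IsAffine E.obj.left.left) (y : FObj π (etaOf E))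
    (X : (fibCat (fibPt π (etaOf E)) (FObj.pt y)).obj) : ZLoc (adSieve π E y) X := by
  intro t
  let x : FObj π (etaOf E) := FObj.pt X
  let c : x.pt ⟶ FObj.pt y := FObj.arr X
  obtain ⟨W, hW1, hW2⟩ := FibTerm.exists_agree h𝒳 π E hE (π.map c ≫ FObj.arr y) x.arr
  haveI := h𝒳
  have key : ∀ (V : (sch 𝒳 x.pt).Opens), t ∈ V → ∃ (x' : 𝒳.obj) (k : x' ⟶ x.pt) (_ : IsOpenImmersion (bmap 𝒳 k)),
      t ∈ (bmap 𝒳 k).opensRange ∧ (bmap 𝒳 k).opensRange ≤ V ∧ IsAffine (sch 𝒳 x') := by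
    intro V htV
    obtain ⟨U, hU, htU, hUV⟩ := TopologicalSpace.Opens.isBasis_iff_nbhd.1 (sch 𝒳 x.pt).isBasis_affineOpens
      (x := t) (U := V) htV
    obtain ⟨x', k, hk, hk'⟩ := K908.Fib.exists_restr (𝒳 := 𝒳) x.pt U
    refine ⟨x', k, hk, ?_, ?_, K908.Fib.isAffine_of_opensRange k (by rw [hk']; exact hU)⟩
    · rw [hk']; exact htU
    · rw [hk']; exact hUV
  have mk : ∀ (x' : 𝒳.obj) (k : x' ⟶ x.pt) (hk : IsOpenImmersion (bmap 𝒳 k)) (ht : t ∈ (bmap 𝒳 k).opensRange)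
      (ha : IsAffine (sch 𝒳 x')) (had : Agr π E (y := y) ⟨⟨x', π.map k ≫ x.arr⟩, k ≫ c⟩ ∨
        Dis π E (y := y) ⟨⟨x', π.map k ≫ x.arr⟩, k ≫ c⟩),
      ∃ (ζ : (adSieve π E y).cat.obj) (φ : ζ.obj ⟶ X)
        (_ : IsOpenImmersion (bmap (fibCat (fibPt π (etaOf E)) (FObj.pt y)) φ)),
        t ∈ (bmap (fibCat (fibPt π (etaOf E)) (FObj.pt y)) φ).opensRange := by
    intro x' k hk ht ha had
    let X' : FObj (fibPt π (etaOf E)) (FObj.pt y) := ⟨⟨x', π.map k ≫ x.arr⟩, k ≫ c⟩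
    let k' : (⟨x', π.map k ≫ x.arr⟩ : FObj π (etaOf E)) ⟶ x := FObj.mkHom k rfl
    exact ⟨⟨X', ha, had⟩, (FObj.mkHom k' rfl : X' ⟶ X), hk, ht⟩
  by_cases ht : t ∈ W
  · obtain ⟨x', k, hk, htk, hkV, ha⟩ := key W ht
    refine mk x' k hk htk ha (Or.inl ?_)
    have h1 := (hW2 k).2 (fun s hs => hkV hs)
    unfold Agr
    change π.map (k ≫ c) ≫ FObj.arr y = π.map k ≫ x.arr
    rw [← h1, Functor.map_comp, Category.assoc]
  · obtain ⟨x', k, hk, htk, hkV, ha⟩ := key ⟨(W : Set (sch 𝒳 x.pt))ᶜ, hW1.isOpen_compl⟩ ht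
    refine mk x' k hk htk ha (Or.inr ?_)
    intro X'' l hl
    let m : FObj.pt (FObj.pt X'') ⟶ x' := FObj.Hom.hom (FObj.Hom.hom l)
    have h1 : Set.range (bmap 𝒳 (m ≫ k)) ⊆ (W : Set (sch 𝒳 x.pt)) := by
      rw [← hW2 (m ≫ k)]
      unfold Agr at hl
      have e1 : m ≫ k ≫ c = X''.arr := l.comm
      have e2 : π.map m ≫ π.map k ≫ x.arr = FObj.arr (FObj.pt X'') := (FObj.Hom.hom l).comm
      calc π.map (m ≫ k) ≫ π.map c ≫ FObj.arr y = π.map (m ≫ k ≫ c) ≫ FObj.arr y := by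
            simp only [Functor.map_comp, Category.assoc]
        _ = FObj.arr (FObj.pt X'') := by rw [e1]; exact hl
        _ = π.map (m ≫ k) ≫ x.arr := by rw [← e2, Functor.map_comp, Category.assoc]
    refine ⟨fun s => ?_⟩
    have h2 : bmap 𝒳 (m ≫ k) s ∈ W := h1 ⟨s, rfl⟩
    have h3 : bmap 𝒳 (m ≫ k) s ∈ (bmap 𝒳 k).opensRange := by
      rw [bmap_comp]
      exact ⟨bmap 𝒳 m s, rfl⟩
    exact hkV h3 h2

include h𝒳 in
/-- Two sections of the pushforward along `𝒳_E ⟶ 𝒳` over `y.pt` agree if they agree on compatible and on nowhere compatible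
objects. -/
theorem relSect_ext_ad (hE : IsAffine E.obj.left.left) (F : QCoh (fibCat π (etaOf E))) (y : FObj π (etaOf E))
    {s t : Mod.RelSect (fibPt π (etaOf E)) F.obj (FObj.pt y)}
    (h : ∀ X : FObj (fibPt π (etaOf E)) (FObj.pt y), IsAffine (sch 𝒳 (FObj.pt (FObj.pt X))) →
      (Agr π E X ∨ Dis π E X) → s.1 X.pt X.arr = t.1 X.pt X.arr) : s = t := by
  haveI : FibCat.IsFibGrpd (fibCat π (etaOf E)).p := isFibGrpd_fibCat h𝒳
  haveI : FibCat.IsFibGrpd (fibCat (fibPt π (etaOf E)) (FObj.pt y)).p := isFibGrpd_fibCat this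
  have h1 : toGlob s = toGlob t := K908.QHom.globSect_ext (zloc_adSieve h𝒳 π E hE y)
    (resQ (fibPt π (etaOf E)) (FObj.pt y) F) (fun ζ => h ζ.obj ζ.property.1 ζ.property.2)
  apply Mod.RelSect.ext
  intro ξ α
  exact congrArg (fun k => k.1 (⟨ξ, α⟩ : FObj (fibPt π (etaOf E)) (FObj.pt y))) h1

include h𝒳 in
/-- Extension by zero. -/
theorem exists_zext (hE : IsAffine E.obj.left.left) (F : QCoh (fibCat π (etaOf E))) (y : FObj π (etaOf E))
    (f : Γ(F.obj.obj y, ⊤)) : ∃ s : Mod.RelSect (fibPt π (etaOf E)) F.obj (FObj.pt y),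
      (∀ (x : (fibCat π (etaOf E)).obj) (c : x ⟶ y), IsAffine (sch (fibCat π (etaOf E)) x) →
        s.1 x (FObj.Hom.hom c) = F.obj.mapTop c f) ∧
      (∀ X : FObj (fibPt π (etaOf E)) (FObj.pt y), IsAffine (sch 𝒳 (FObj.pt (FObj.pt X))) →
        Dis π E X → s.1 X.pt X.arr = 0) := by
  classical
  haveI : FibCat.IsFibGrpd (fibCat π (etaOf E)).p := isFibGrpd_fibCat h𝒳
  haveI : FibCat.IsFibGrpd (fibCat (fibPt π (etaOf E)) (FObj.pt y)).p := isFibGrpd_fibCat this
  let v : ∀ X : FObj (fibPt π (etaOf E)) (FObj.pt y), Γ(F.obj.obj X.pt, ⊤) := fun X =>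
    if hX : Agr π E X then F.obj.mapTop (show X.pt ⟶ y from FObj.mkHom X.arr hX) f else 0
  obtain ⟨t, ht⟩ := K908.QHom.exists_globSect (zloc_adSieve h𝒳 π E hE y)
    (resQ (fibPt π (etaOf E)) (FObj.pt y) F) (fun ζ => v ζ.obj) (fun ζ' ζ φ => by
      let k : ζ'.obj ⟶ ζ.obj := φ.hom
      change F.obj.mapTop (FObj.Hom.hom k) (v ζ.obj) = v ζ'.obj
      by_cases h1 : Agr π E ζ.obj
      · have h2 : Agr π E ζ'.obj := by
          unfold Agr at h1 ⊢
          have e1 : FObj.Hom.hom (FObj.Hom.hom k) ≫ ζ.obj.arr = ζ'.obj.arr := k.comm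
          have e2 : π.map (FObj.Hom.hom (FObj.Hom.hom k)) ≫ FObj.arr (FObj.pt ζ.obj) = FObj.arr (FObj.pt ζ'.obj) :=
            (FObj.Hom.hom k).comm
          rw [← e1, Functor.map_comp, Category.assoc, h1]
          exact e2
        simp only [v, h1, h2, dite_true]
        rw [← Mod.mapTop_comp]
        congr 1
        exact FObj.hom_ext k.comm
      · rcases ζ.property.2 with h2 | h2
        · exact absurd h2 h1
        · by_cases h3 : Agr π E ζ'.obj
          · have h4 : IsEmpty (sch (fibCat π (etaOf E)) ζ'.obj.pt) := h2 ζ'.obj k h3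
            have := subsingleton_sec (F.obj.obj ζ'.obj.pt)
            exact Subsingleton.elim _ _
          · simp only [v, h1, h3, dite_false]
            exact F.obj.mapTop_zero _)
  refine ⟨ofGlob t, ?_, ?_⟩
  · intro x c hx
    have hX : Agr π E (y := y) ⟨x, FObj.Hom.hom c⟩ := c.comm
    have h1 := ht ⟨⟨x, FObj.Hom.hom c⟩, hx, Or.inl hX⟩
    refine h1.trans ?_
    change v ⟨x, FObj.Hom.hom c⟩ = _
    simp only [v, hX, dite_true]
    rfl
  · intro X hX hd
    have h1 := ht ⟨X, hX, Or.inr hd⟩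
    refine h1.trans ?_
    change v X = 0
    by_cases h3 : Agr π E X
    · have h4 : IsEmpty (sch (fibCat π (etaOf E)) X.pt) := hd X (𝟙 X) h3
      have := subsingleton_sec (F.obj.obj X.pt)
      exact Subsingleton.elim _ _
    · simp only [v, h3, dite_false]

end Zext

end K907.ResPt
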