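import Groth.Agent.StMod.K907.Chart
import Groth.Agent.StMod.K907.ResPt
import Groth.Prelude.Def_StMod2

/-!
# Good moduli spaces: sections over an affine étale `E` and purity

* `fn π E` : the functions of `E` on `𝒳_E`; `isFn` from `UnitIsIso`;
* `mem_of_mem_span` : for `N` a submodule of `RelSect π F (etaOf E)` and `y` a covering object of `𝒳_E`, a section lying in
  the span of `N` over `y` lies in `N`;
* `isNoetherian_relSect`.
-/

set_option autoImplicit false
set_option linter.unusedVariables false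
set_option linter.style.haveILetI false
set_option backward.isDefEq.respectTransparency false
set_option backward.isDefEq.respectTransparency.types false

universe t w' v' w v u

open CategoryTheory CategoryTheory.Limits AlgebraicGeometry Opposite StMod AlgSt AlgSp

namespace K907.GM

open K906 K907.Sec K907.Atl K907.Free K907.Gen K907.Tens K907.QDesc K907.ResPt K907.Alg

variable {S : Scheme.{u}} {𝒳 : BasedCategory.{v, w} (Over S)} {M : Sp S}

section

variable (π : 𝒳 ⥤ᵇ ofSp M) (E : EtOver M)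

/-- The functions of `E` on `𝒳_E`. -/
noncomputable def fn : Fn Γ(sch (ofSp M) (etaOf E), ⊤) (fibCat π (etaOf E)) where
  σ y := (fbase y).left.appTop.hom
  comm {x' x} φ := by
    ext r
    change (bmap 𝒳 (FObj.Hom.hom φ)).appTop ((fbase x).left.appTop r) = (fbase x').left.appTop r
    rw [← bmap_fbase φ, Scheme.Hom.comp_appTop]
    rfl

theorem fn_σ (y : (fibCat π (etaOf E)).obj) (r : Γ(sch (ofSp M) (etaOf E), ⊤)) :
    (fn π E).σ y r = (baseOver π (FObj.pt y) (FObj.arr y)).left.appTop r := rfl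

theorem isFn (h : UnitIsIso π) : IsFn (fn π E) := by
  constructor
  · intro a b hab
    apply (h E).1
    apply Mod.RelSect.ext
    intro ξ α
    exact congrArg (fun k : (O (fibCat π (etaOf E))).GlobSect => k.1 (⟨ξ, α⟩ : FObj π (etaOf E))) hab
  · intro g
    let g' : (resMod π (etaOf E) (O 𝒳)).GlobSect := ⟨g.1, fun a b φ => g.2 φ⟩
    obtain ⟨r, hr⟩ := (h E).2 (ofGlob g')
    refine ⟨r, ?_⟩
    apply Mod.GlobSect.ext
    intro y
    exact congrArg (fun k : Mod.RelSect π (O 𝒳) (etaOf E) => k.1 (FObj.pt y) (FObj.arr y)) hr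

end

section Pure

variable {π : 𝒳 ⥤ᵇ ofSp M} {E : EtOver M} (h𝒳 : FibCat.IsFibGrpd 𝒳.p) (hu : UnitIsIso π)
  (hex : Exact (fibCat π (etaOf E))) (P : Pres (fibCat π (etaOf E)))

include h𝒳 hu hex P in
/-- Purity for submodules of the sections over `E`. -/
theorem mem_of_mem_span {F : QCoh 𝒳} (N : Submodule Γ(sch (ofSp M) (etaOf E), ⊤) (Mod.RelSect π F.obj (etaOf E)))
    (x : Mod.RelSect π F.obj (etaOf E)) {y : (fibCat π (etaOf E)).obj} (hy : IsAffine (sch (fibCat π (etaOf E)) y))
    (hc : Cov1 y) (hx : x.1 (FObj.pt y) (FObj.arr y) ∈ Submodule.span Γ(sch 𝒳 (FObj.pt y), ⊤)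
      ((fun n : Mod.RelSect π F.obj (etaOf E) => n.1 (FObj.pt y) (FObj.arr y)) '' (N : Set (Mod.RelSect π F.obj (etaOf E))))) :
    x ∈ N := by
  classical
  have h𝒴 : FibCat.IsFibGrpd (fibCat π (etaOf E)).p := isFibGrpd_fibCat h𝒳
  let G : QCoh (fibCat π (etaOf E)) := resQ π (etaOf E) F
  -- finitely many elements
  obtain ⟨k, c, hk, hsum⟩ : ∃ (k : ℕ) (n : Fin k → Mod.RelSect π F.obj (etaOf E)), (∀ i, n i ∈ N) ∧
      x.1 (FObj.pt y) (FObj.arr y) ∈ Submodule.span Γ(sch 𝒳 (FObj.pt y), ⊤)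
        (Set.range fun i => (n i).1 (FObj.pt y) (FObj.arr y)) := by
    obtain ⟨T, hT, hxT⟩ := Submodule.mem_span_finite_of_mem_span hx
    have h1 : ∀ t : T, ∃ n : Mod.RelSect π F.obj (etaOf E), n ∈ N ∧ n.1 (FObj.pt y) (FObj.arr y) = t := fun t => by
      obtain ⟨n, hn, h2⟩ := hT t.2
      exact ⟨n, hn, h2⟩
    choose n hn hn' using h1
    refine ⟨T.card, fun i => n (T.equivFin.symm i), fun i => hn _, ?_⟩
    refine Submodule.span_mono ?_ hxT
    intro t ht
    refine ⟨T.equivFin ⟨t, ht⟩, ?_⟩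
    change (n (T.equivFin.symm (T.equivFin ⟨t, ht⟩))).1 (FObj.pt y) (FObj.arr y) = t
    rw [Equiv.symm_apply_apply, hn']
  let tt : ULift.{u} (Fin k) → G.obj.GlobSect := fun i => toGlob (c i.down)
  have hP : IsAffine (sch (fibCat π (etaOf E)) P.ζ) := P.affζ
  -- the section over the presentation lies in the span
  have hζ : (toGlob x).1 P.ζ ∈ Submodule.span Γ(sch (fibCat π (etaOf E)) P.ζ, ⊤) (Set.range fun i => (tt i).1 P.ζ) := by
    obtain ⟨ζ', f, d, hζ', hf⟩ := hc P.ζ P.affζ
    let K : ∀ z : (fibCat π (etaOf E)).obj, Submodule Γ(sch (fibCat π (etaOf E)) z, ⊤) Γ(G.obj.obj z, ⊤) := fun z =>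
      Submodule.span _ (Set.range fun i => (tt i).1 z)
    have hpull : ∀ {z' z : (fibCat π (etaOf E)).obj} (φ : z' ⟶ z), pull (F := G) φ (K z) = K z' := by
      intro z' z φ
      apply le_antisymm
      · unfold pull
        rw [ext_le]
        intro a ha
        induction ha using Submodule.span_induction with
        | mem a ha =>
          obtain ⟨i, rfl⟩ := ha
          refine Submodule.subset_span ⟨i, ?_⟩
          exact ((tt i).2 φ).symm
        | zero => rw [map_zero]; exact Submodule.zero_mem _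
        | add a b _ _ ha hb => rw [map_add]; exact Submodule.add_mem _ ha hb
        | smul r a _ ha => rw [resTop_smul]; exact Submodule.smul_mem _ _ ha
      · rw [Submodule.span_le]
        rintro _ ⟨i, rfl⟩
        have := mem_pull (F := G) φ (N := K z) (x := (tt i).1 z) (Submodule.subset_span ⟨i, rfl⟩)
        rw [(tt i).2 φ] at this
        exact this
    have h2 : (toGlob x).1 ζ' ∈ K ζ' := by
      rw [← hpull d, ← (toGlob x).2 d]
      refine mem_pull (F := G) d ?_
      refine Submodule.span_mono ?_ hsum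
      rintro _ ⟨i, rfl⟩
      exact ⟨⟨i⟩, rfl⟩
    rw [← hpull f, ← (toGlob x).2 f] at h2
    haveI := hζ'
    exact (mem_pull_iff (F := G) f hf).1 h2
  obtain ⟨r, hr⟩ := exists_linComb (fn π E) h𝒴 (isFn π E hu) hex (smCov_of_pres.{0} P) (Chart.cov1_of_pres P) G tt
    (toGlob x) hζ
  have hx' : x = r.sum (fun i a => a • c i.down) := by
    have h1 : ∀ (ξ : 𝒳.obj) (α : π.obj ξ ⟶ etaOf E), IsAffine (sch 𝒳 ξ) →
        x.1 ξ α = (r.sum (fun i a => a • c i.down)).1 ξ α := by
      intro ξ α hξ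
      have h2 := hr (⟨ξ, α⟩ : FObj π (etaOf E)) hξ
      refine h2.trans ?_
      let evl : Mod.RelSect π F.obj (etaOf E) →+ Γ(F.obj.obj ξ, ⊤) :=
        { toFun := fun s => s.1 ξ α, map_zero' := rfl, map_add' := fun _ _ => rfl }
      exact (map_sum evl (fun i => r i • c i.down) r.support).symm
    haveI := h𝒳
    exact K908.QHom.relSect_ext (C := K908.AMod.ASieve.all 𝒳) K908.Fam.zloc_all π F (etaOf E)
      (fun ζ α => h1 ζ.obj α ζ.property)
  rw [hx']
  exact Submodule.sum_mem _ fun i _ => Submodule.smul_mem _ _ (hk i.down)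

include h𝒳 hu hex P in
/-- Sections over `E` form a noetherian module if those over a covering object do. -/
theorem isNoetherian_relSect {F : QCoh 𝒳} {y : (fibCat π (etaOf E)).obj}
    (hy : IsAffine (sch (fibCat π (etaOf E)) y)) (hc : Cov1 y)
    (hF : IsNoetherian Γ(sch 𝒳 (FObj.pt y), ⊤) Γ(F.obj.obj (FObj.pt y), ⊤)) :
    IsNoetherian Γ(sch (ofSp M) (etaOf E), ⊤) (Mod.RelSect π F.obj (etaOf E)) := by
  rw [isNoetherian_iff'] at hF ⊢
  let Φ : Submodule Γ(sch (ofSp M) (etaOf E), ⊤) (Mod.RelSect π F.obj (etaOf E)) →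
      Submodule Γ(sch 𝒳 (FObj.pt y), ⊤) Γ(F.obj.obj (FObj.pt y), ⊤) := fun N =>
    Submodule.span _ ((fun n : Mod.RelSect π F.obj (etaOf E) => n.1 (FObj.pt y) (FObj.arr y)) ''
      (N : Set (Mod.RelSect π F.obj (etaOf E))))
  have hΦ : StrictMono Φ := by
    intro N N' h
    refine lt_of_le_of_ne (Submodule.span_mono (Set.image_mono h.le)) ?_
    intro he
    apply h.ne
    refine le_antisymm h.le ?_
    intro x hx
    refine mem_of_mem_span h𝒳 hu hex P N x hy hc ?_
    change _ ∈ Φ N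
    rw [he]
    exact Submodule.subset_span ⟨x, hx, rfl⟩
  exact hΦ.wellFoundedGT

end Pure

end K907.GM
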