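import Groth.Agent.StMod.K907.DvrLift
import Groth.Agent.StMod.K894.PtFac
import Groth.Agent.StMod.K894.ClosedGerbe
import Groth.Agent.S17520
import Groth.Agent.StMod.K907.HasCov
import Groth.Agent.AlgSp.K618.FieldFib
import Groth.Prelude.Def_StGerb2

/-!
# Reduction of questions about points of a good moduli space to its fibres
-/

set_option autoImplicit false
set_option linter.unusedVariables false
set_option linter.style.haveILetI false
set_option backward.isDefEq.respectTransparency false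
set_option backward.isDefEq.respectTransparency.types false

universe v₄ u₄ v₃ u₃ v₂ u₂ v₁ u₁ w' v' w v u

open CategoryTheory CategoryTheory.Limits AlgebraicGeometry Opposite StMod AlgSt AlgSp

namespace K907.FibreRed

open K907.DiagPt K907.OnePt K907.FinPt K735.PtsSp K735.Fib K907.DvrLift

section FF

variable {C : Type u} [Category.{v} C] {𝒳 : BasedCategory.{v₁, u₁} C} {𝒴 : BasedCategory.{v₂, u₂} C}
  {𝒮 : BasedCategory.{v₃, u₃} C}

theorem faithful_fpSnd (F : 𝒳 ⥤ᵇ 𝒮) (G : 𝒴 ⥤ᵇ 𝒮) (hF : F.toFunctor.Faithful) :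
    (FibCat.fpSnd F G).toFunctor.Faithful := by
  refine ⟨fun {a b} f g hfg => ?_⟩
  refine K734.Fib.homFp_ext (F.toFunctor.map_injective ?_) hfg
  have h1 := K734.Fib.homFp_w f
  have h2 := K734.Fib.homFp_w g
  have h3 : f.hom.snd = g.hom.snd := hfg
  rw [h3, ← h2] at h1
  exact (cancel_mono b.obj.iso.hom).1 h1

theorem full_fpSnd (F : 𝒳 ⥤ᵇ 𝒮) (G : 𝒴 ⥤ᵇ 𝒮) (hF : F.toFunctor.Full) :
    (FibCat.fpSnd F G).toFunctor.Full := by
  refine ⟨fun {a b} f => ?_⟩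
  obtain ⟨g, hg⟩ := F.toFunctor.map_surjective (a.obj.iso.hom ≫ G.map f ≫ b.obj.iso.inv)
  have hg' : F.map g = a.obj.iso.hom ≫ G.map f ≫ b.obj.iso.inv := hg
  exact ⟨K734.Fib.mkHomFp g f (by rw [hg', Category.assoc, Category.assoc, Iso.inv_hom_id, Category.comp_id]), rfl⟩

end FF

variable {S : Scheme.{u}}

/-- A vertical automorphism as an automorphism over the identity. -/
def toAutO {𝒴 : AlgSt.Cat S} {y : 𝒴.obj} (α : y ≅ y) (hα : Vert 𝒴.p α.hom) (hα' : Vert 𝒴.p α.inv) : Gerb.AutO y where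
  hom := ⟨α.hom, hα⟩
  inv := ⟨α.inv, hα'⟩
  hom_inv_id := Functor.Fiber.hom_ext α.hom_inv_id
  inv_hom_id := Functor.Fiber.hom_ext α.inv_hom_id

/-- Automorphism groups along fully faithful functors. -/
theorem nonempty_autRep {𝒳 𝒴 : AlgSt.Cat S} (f : 𝒴 ⥤ᵇ 𝒳) (hf : f.toFunctor.Full) (hf' : f.toFunctor.Faithful)
    {U : Over S} (ζ : FibCat.overCat U ⥤ᵇ 𝒴) (A : (Over U)ᵒᵖ ⥤ GrpCat.{u})
    (r : Gerb.AutRep (BasedFunctor.comp ζ f) A) : Nonempty (Gerb.AutRep ζ A) := by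
  have hb : ∀ y : 𝒴.obj, Function.Bijective (Gerb.autMap f y) := by
    intro y
    constructor
    · intro α β hαβ
      apply Aut.ext
      apply Functor.Fiber.hom_ext
      apply f.toFunctor.map_injective
      exact congrArg (fun γ : Gerb.AutO (f.obj y) => γ.hom.1) hαβ
    · intro γ
      obtain ⟨a, ha⟩ := f.toFunctor.map_surjective γ.hom.1
      obtain ⟨b, hb⟩ := f.toFunctor.map_surjective γ.inv.1
      have ha' : f.map a = γ.hom.1 := ha
      have hb' : f.map b = γ.inv.1 := hb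
      have h1 : γ.hom.1 ≫ γ.inv.1 = 𝟙 _ := congrArg Subtype.val γ.hom_inv_id
      have h2 : γ.inv.1 ≫ γ.hom.1 = 𝟙 _ := congrArg Subtype.val γ.inv_hom_id
      have hab : a ≫ b = 𝟙 y := by
        apply f.toFunctor.map_injective
        rw [f.map_comp, f.map_id, ha', hb', h1]
      have hba : b ≫ a = 𝟙 y := by
        apply f.toFunctor.map_injective
        rw [f.map_comp, f.map_id, ha', hb', h2]
      have hva : Vert 𝒴.p a := (vert_map_iff f _).1 (by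
        rw [ha']
        exact γ.hom.2)
      have hvb : Vert 𝒴.p b := (vert_map_iff f _).1 (by
        rw [hb']
        exact γ.inv.2)
      refine ⟨toAutO ⟨a, b, hab, hba⟩ hva hvb, ?_⟩
      apply Aut.ext
      apply Functor.Fiber.hom_ext
      exact ha'
  refine ⟨⟨fun T => (r.iso T).trans (MulEquiv.ofBijective (Gerb.autMap f (ζ.obj T)) (hb _)).symm, ?_⟩⟩
  intro T' T h a
  apply f.toFunctor.map_injective
  have key : ∀ (T : Over U) (a : A.obj (op T)),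
      f.map ((MulEquiv.ofBijective (Gerb.autMap f (ζ.obj T)) (hb _)).symm (r.iso T a)).hom.1 = (r.iso T a).hom.1 := by
    intro T a
    have := (MulEquiv.ofBijective (Gerb.autMap f (ζ.obj T)) (hb _)).apply_symm_apply (r.iso T a)
    exact congrArg (fun γ : Gerb.AutO (f.obj (ζ.obj T)) => γ.hom.1) this
  have h1 := r.natural h a
  change f.map (((MulEquiv.ofBijective (Gerb.autMap f (ζ.obj T')) (hb _)).symm (r.iso T' (A.map h.op a))).hom.1 ≫ ζ.map h) =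
    f.map (ζ.map h ≫ ((MulEquiv.ofBijective (Gerb.autMap f (ζ.obj T)) (hb _)).symm (r.iso T a)).hom.1)
  rw [f.map_comp, f.map_comp, key, key]
  exact h1

/-- Full functors are injective on points. -/
theorem injective_map_of_full {𝒳 : BasedCategory.{v₁, u₁} (Over S)} {𝒴 : BasedCategory.{v₂, u₂} (Over S)}
    (h𝒳 : FibCat.IsFibGrpd 𝒳.p) (h𝒴 : FibCat.IsFibGrpd 𝒴.p) (f : 𝒴 ⥤ᵇ 𝒳) (hf : f.toFunctor.Full) :
    Function.Injective (AlgSt.Points.map f) := by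
  intro x y hxy
  obtain ⟨p, rfl⟩ := AlgSt.Points.mk_surjective x
  obtain ⟨q, rfl⟩ := AlgSt.Points.mk_surjective y
  rw [AlgSt.Points.map_mk, AlgSt.Points.map_mk, K735.Pts.mk_eq_mk_iff h𝒳] at hxy
  obtain ⟨r, a, b, -⟩ := hxy
  obtain ⟨y, hy, φ, hφ⟩ := K735.Pts.exists_restrict h𝒴 p r.str (K735.Pts.baseHom (p := r) (q := p.map f) a)
  obtain ⟨i, hi1, hi2⟩ := K735.Fib.exists_hom h𝒳 a (f.map φ) (eqToHom ((f.w_obj y).trans (hy.trans r.lies.symm))) (by
    rw [K735.Fib.map_map, hφ]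
    simp [K735.Pts.baseHom])
  obtain ⟨ψ, hψ⟩ := f.toFunctor.map_surjective (i ≫ b)
  exact AlgSt.Points.sound ⟨⟨r.K, r.str, y, hy⟩, φ, ψ, trivial⟩

/-- (F) reduction to the fibre over the point. -/
theorem exists_fibre
    (S : Scheme.{u}) [QuasiSeparatedSpace S]
    (𝒳 : AlgSt.Cat S) (h𝒳 : AlgSt.IsAlgStack Scheme.fppfPrecoverage 𝒳)
    (hft : AlgSt.LocQ (AlgSp.LocP @LocallyOfFiniteType) (FibCat.toSelf 𝒳))
    (M : AlgSp.Space S) (hM : AlgSp.IsQuasiSeparatedSp M.obj) (π : 𝒳 ⥤ᵇ AlgSt.ofSp M.obj)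
    (hqc : AlgSt.IsQuasiCompactMor Scheme.fppfPrecoverage π) (hqs : AlgSt.IsQuasiSeparatedMor π)
    (h : StMod.IsGoodModuli π)
    (K₁ : Type u) [Field K₁] (p₁ : Spec (CommRingCat.of K₁) ⟶ S) (ξ₁ : FibCat.overCat (Over.mk p₁) ⥤ᵇ 𝒳)
    (G₁ : Over (Spec (CommRingCat.of K₁))) [GrpObj G₁] (r₁ : Gerb.AutRep ξ₁ (Gerb.ptsGrp (Over.mk p₁) G₁))
    (K₂ : Type u) [Field K₂] (p₂ : Spec (CommRingCat.of K₂) ⟶ S) (ξ₂ : FibCat.overCat (Over.mk p₂) ⥤ᵇ 𝒳)
    (G₂ : Over (Spec (CommRingCat.of K₂))) [GrpObj G₂] (r₂ : Gerb.AutRep ξ₂ (Gerb.ptsGrp (Over.mk p₂) G₂))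
    (h₁ : IsClosed ({AlgSt.Points.ofChart ξ₁ (IsLocalRing.closedPoint K₁)} : Set (AlgSt.Points 𝒳)))
    (hne : AlgSt.Points.ofChart ξ₂ (IsLocalRing.closedPoint K₂) ≠
      AlgSt.Points.ofChart ξ₁ (IsLocalRing.closedPoint K₁))
    (heq : AlgSt.Points.map π (AlgSt.Points.ofChart ξ₂ (IsLocalRing.closedPoint K₂)) =
      AlgSt.Points.map π (AlgSt.Points.ofChart ξ₁ (IsLocalRing.closedPoint K₁))) :
    ∃ (𝒴 : AlgSt.Cat S) (κ : Type u) (_ : Field κ) (σ : Spec (CommRingCat.of κ) ⟶ S)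
      (p : 𝒴 ⥤ᵇ AlgSt.ofSp ((AlgSp.yon S).obj (Over.mk σ)))
      (ζ₁ : FibCat.overCat (Over.mk p₁) ⥤ᵇ 𝒴) (ζ₂ : FibCat.overCat (Over.mk p₂) ⥤ᵇ 𝒴),
      AlgSt.IsAlgStack Scheme.fppfPrecoverage 𝒴 ∧ AlgSt.LocQ (AlgSp.LocP @LocallyOfFiniteType) p ∧
      AlgSt.IsQuasiCompactMor Scheme.fppfPrecoverage p ∧ AlgSt.IsQuasiSeparatedMor p ∧
      Nonempty (Gerb.AutRep ζ₁ (Gerb.ptsGrp (Over.mk p₁) G₁)) ∧
      Nonempty (Gerb.AutRep ζ₂ (Gerb.ptsGrp (Over.mk p₂) G₂)) ∧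
      AlgSt.Points.ofChart ζ₂ (IsLocalRing.closedPoint K₂) ≠ AlgSt.Points.ofChart ζ₁ (IsLocalRing.closedPoint K₁) ∧
      IsClosed ({AlgSt.Points.ofChart ζ₁ (IsLocalRing.closedPoint K₁)} : Set (AlgSt.Points 𝒴)) ∧
      ∀ y : AlgSt.Points 𝒴, y ⤳ AlgSt.Points.ofChart ζ₁ (IsLocalRing.closedPoint K₁) := by
  have hXf := h𝒳.isStack.1
  -- the monomorphism through the image point
  obtain ⟨p₀, hp₀'⟩ := AlgSp.Points.mk_surjective (K735.PtsSp.ptsEquiv M.obj (AlgSt.Points.map π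
    (AlgSt.Points.ofChart ξ₁ (IsLocalRing.closedPoint K₁))))
  have hp₀ : RepWith @QuasiCompact p₀.toHom := by
    have h1 : IsAffine p₀.pt.left := inferInstanceAs (IsAffine (Spec (CommRingCat.of p₀.K)))
    have h2 : QuasiCompact p₀.pt.hom := by
      change QuasiCompact p₀.str
      infer_instance
    exact K618.QCPoint.repWith_quasiCompact_of_qs hM h2 p₀.toHom
  obtain ⟨p, hpm, hmono, hpq⟩ := Groth.Agent.S10361.result M p₀ hp₀
  have hY := K740.SpDM.isAlgStack_ofSp (IsAlgSpace.yon_obj p.pt)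
  have hAM := K740.SpDM.isAlgStack_ofSp M.property
  have hfp : IsAlgStack Scheme.fppfPrecoverage (FibCat.fp (ofSpMap p.toHom) π) :=
    K907.GoodFp.isAlgStack_fp h𝒳 M π hY (ofSpMap p.toHom)
  haveI : IsAffine p.pt.left := inferInstanceAs (IsAffine (Spec (CommRingCat.of p.K)))
  have hM' : IsQuasiSeparatedSp ((yon S).obj p.pt) := K605.LfpLim.isQuasiSeparatedSp_yon
  obtain ⟨hg, hqc', hqs'⟩ := Groth.Agent.S17520.result S 𝒳 h𝒳 M ⟨(yon S).obj p.pt, IsAlgSpace.yon_obj p.pt⟩ hM hM'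
    p.toHom π hqc hqs hfp h
  have hm : AlgSt.IsMono (ofSpMap p.toHom) := K894.ResG.isMono_ofSpMap (IsAlgSpace.yon_obj p.pt) M.property p.toHom
  obtain ⟨-, hfull, hfaith⟩ := (K737.MonoFF.isMono_iff K907.FibTerm.isFibGrpd_ofSp (ofSpMap p.toHom)).1 hm
  have hfull' := full_fpSnd (ofSpMap p.toHom) π hfull
  have hfaith' := faithful_fpSnd (ofSpMap p.toHom) π hfaith
  -- lifts of points
  have hlift : ∀ (K : Type u) [Field K] (q : Spec (CommRingCat.of K) ⟶ S) (ξ : FibCat.overCat (Over.mk q) ⥤ᵇ 𝒳),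
      AlgSt.Points.map π (AlgSt.Points.ofChart ξ (IsLocalRing.closedPoint K)) =
        AlgSt.Points.map π (AlgSt.Points.ofChart ξ₁ (IsLocalRing.closedPoint K₁)) →
      ∃ ζ : FibCat.overCat (Over.mk q) ⥤ᵇ FibCat.fp (ofSpMap p.toHom) π,
        BasedFunctor.comp ζ (FibCat.fpSnd (ofSpMap p.toHom) π) = ξ := by
    intro K _ q ξ hξ
    obtain ⟨i⟩ := K735.SpFp.exists_iso_chart (BasedFunctor.comp ξ π)
    let a := K735.SpFp.unchart (BasedFunctor.comp ξ π)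
    let fq : FieldPt M.obj := ⟨K, q, (J S).uliftYonedaEquiv a⟩
    have hfq : fq.toHom = a := Equiv.symm_apply_apply _ _
    have h1 : AlgSp.Points.mk fq = AlgSp.Points.mk p := by
      rw [hpm, hp₀', ← hξ, map_ofChart, ofChart_congr i, ptsEquiv_ofChart, ← AlgSp.Points.ofPt_toHom fq (IsLocalRing.closedPoint K), hfq]
    obtain ⟨c, hc⟩ := K618.FieldFib.factors_of_mono p fq hmono hpq.1 h1
    rw [hfq] at hc
    refine ⟨FibCat.fpLift (K735.SpFp.chart ((yon S).map c)) ξ ?_, rfl⟩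
    exact (eqToIso (congrArg K735.SpFp.chart hc) : K735.SpFp.chart ((yon S).map c ≫ p.toHom) ≅ _) ≪≫ i.symm
  obtain ⟨ζ₁, hζ₁⟩ := hlift K₁ p₁ ξ₁ rfl
  obtain ⟨ζ₂, hζ₂⟩ := hlift K₂ p₂ ξ₂ heq
  have hinj : Function.Injective (AlgSt.Points.map (FibCat.fpSnd (ofSpMap p.toHom) π)) :=
    injective_map_of_full hXf hfp.isStack.1 _ hfull'
  have e₁ : AlgSt.Points.map (FibCat.fpSnd (ofSpMap p.toHom) π) (AlgSt.Points.ofChart ζ₁ (IsLocalRing.closedPoint K₁)) =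
      AlgSt.Points.ofChart ξ₁ (IsLocalRing.closedPoint K₁) := by
    rw [map_ofChart, hζ₁]
  have e₂ : AlgSt.Points.map (FibCat.fpSnd (ofSpMap p.toHom) π) (AlgSt.Points.ofChart ζ₂ (IsLocalRing.closedPoint K₂)) =
      AlgSt.Points.ofChart ξ₂ (IsLocalRing.closedPoint K₂) := by
    rw [map_ofChart, hζ₂]
  have hcl : IsClosed ({AlgSt.Points.ofChart ζ₁ (IsLocalRing.closedPoint K₁)} : Set (AlgSt.Points (FibCat.fp (ofSpMap p.toHom) π))) := by
    have h2 := h₁.preimage (K735.Top.continuous_map (K735.Top.chartCont_of_isAlgStack h𝒳) (FibCat.fpSnd (ofSpMap p.toHom) π))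
    convert h2 using 1
    ext y
    simp only [Set.mem_singleton_iff, Set.mem_preimage]
    rw [← e₁]
    exact hinj.eq_iff.symm
  refine ⟨FibCat.fp (ofSpMap p.toHom) π, p.K, inferInstance, p.str, FibCat.fpFst (ofSpMap p.toHom) π, ζ₁, ζ₂, hfp,
    K742.EvQ.locQ_fpFst K742.nice_lft hXf hAM.isStack.1 hY.isStack.1 hY.atlas π (ofSpMap p.toHom)
      (locQ_lft h𝒳 M π hft), hqc', hqs', ?_, ?_, ?_, hcl, ?_⟩
  · subst hζ₁
    exact nonempty_autRep _ hfull' hfaith' ζ₁ _ r₁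
  · subst hζ₂
    exact nonempty_autRep _ hfull' hfaith' ζ₂ _ r₂
  · intro e
    apply hne
    rw [← e₁, ← e₂, e]
  · intro y
    rw [specializes_iff_mem_closure]
    by_contra hy
    refine K907.Rows.map_ne hfp.isStack.1 (K907.Rows.hasCov hfp) (IsAlgSpace.yon_obj p.pt) _ hg isClosed_closure hcl
      (Set.disjoint_singleton_right.2 hy) (subset_closure rfl) rfl ?_
    apply (ptsEquiv _).injective
    have key : ∀ a b : AlgSp.Points ((yon S).obj p.pt), a = b := by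
      intro a b
      obtain ⟨a, rfl⟩ := K609.Points.ofScheme_surjective p.pt a
      obtain ⟨b, rfl⟩ := K609.Points.ofScheme_surjective p.pt b
      exact congrArg _ (Subsingleton.elim (α := PrimeSpectrum p.K) a b)
    exact key _ _

end K907.FibreRed
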