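import Groth.Agent.CalgB.SmoothReduced
import Mathlib.AlgebraicGeometry.Morphisms.Smooth
import Mathlib.RingTheory.TensorProduct.Quotient
import Mathlib.RingTheory.Spectrum.Prime.Topology
import Mathlib.AlgebraicGeometry.AffineScheme

/-!
# Vanishing ideals of closed subsets of affine schemes and smooth base change

* `map_vanishingIdeal`: for a smooth ring map the vanishing ideal of the preimage is the extension;
* `van T` for a set `T` of points of a scheme: the ideal of global functions vanishing on `T`; `mem_van_iff`,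
  `map_van` (smooth base change), `map_van_le`, `van_eq_bot`, `van_sup`, `exists_sep`.
-/

set_option autoImplicit false
set_option linter.unusedVariables false

universe u

open CategoryTheory CategoryTheory.Limits AlgebraicGeometry TensorProduct PrimeSpectrum

namespace K907.Van

/-- The extension of a radical ideal along a smooth ring map is radical. -/
theorem isRadical_map_of_smooth {A B : Type u} [CommRing A] [CommRing B] (φ : A →+* B) (hφ : φ.Smooth)
    {I : Ideal A} (hI : I.IsRadical) : (I.map φ).IsRadical := by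
  algebraize [φ]
  have h0 : Algebra.Smooth A B := hφ
  have h1 : IsReduced (A ⧸ I) := (Ideal.isRadical_iff_quotient_reduced I).1 hI
  have h2 : IsReduced ((A ⧸ I) ⊗[A] B) :=
    Groth.Agent.CalgB.SmoothReduced.isReduced_of_smooth (A ⧸ I) ((A ⧸ I) ⊗[A] B)
  have h3 : IsReduced (B ⧸ (I.map (algebraMap A B))) :=
    isReduced_of_injective (Algebra.TensorProduct.quotIdealMapEquivQuotTensor (A := A) B I)
      (Algebra.TensorProduct.quotIdealMapEquivQuotTensor (A := A) B I).injective
  exact (Ideal.isRadical_iff_quotient_reduced _).2 h3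

/-- Vanishing ideals and smooth base change. -/
theorem map_vanishingIdeal {A B : Type u} [CommRing A] [CommRing B] (φ : A →+* B) (hφ : φ.Smooth)
    {T : Set (PrimeSpectrum A)} (hT : IsClosed T) :
    (vanishingIdeal T).map φ = vanishingIdeal (PrimeSpectrum.comap φ ⁻¹' T) := by
  have hI : (vanishingIdeal T).IsRadical := isRadical_vanishingIdeal T
  have h1 : PrimeSpectrum.comap φ ⁻¹' T = zeroLocus (((vanishingIdeal T).map φ : Ideal B) : Set B) := by
    conv_lhs => rw [← hT.closure_eq, ← zeroLocus_vanishingIdeal_eq_closure, preimage_comap_zeroLocus]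
    rw [Ideal.map, zeroLocus_span]
  rw [h1, vanishingIdeal_zeroLocus_eq_radical]
  exact (isRadical_map_of_smooth φ hφ hI).radical.symm

variable {X Y : Scheme.{u}}

/-- The prime ideal of global functions vanishing at a point. -/
noncomputable def sp (x : X) : PrimeSpectrum Γ(X, ⊤) := X.toSpecΓ x

/-- The ideal of global functions vanishing on a set of points. -/
noncomputable def van (T : Set X) : Ideal Γ(X, ⊤) := vanishingIdeal (sp '' T)

theorem mem_van {T : Set X} {f : Γ(X, ⊤)} : f ∈ van T ↔ ∀ t ∈ T, f ∈ (sp t).asIdeal := by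
  rw [van, mem_vanishingIdeal]
  simp

theorem mem_sp (f : Γ(X, ⊤)) (t : X) : f ∈ (sp t).asIdeal ↔ t ∉ X.basicOpen f := by
  have h := X.toSpecΓ_preimage_basicOpen f
  have h1 : t ∈ X.basicOpen f ↔ sp t ∈ PrimeSpectrum.basicOpen f := by
    rw [← h]; rfl
  rw [h1, PrimeSpectrum.mem_basicOpen, not_not]

theorem mem_van_iff {T : Set X} {f : Γ(X, ⊤)} : f ∈ van T ↔ ∀ t ∈ T, t ∉ X.basicOpen f := by
  simp_rw [mem_van, mem_sp]

theorem van_anti {T T' : Set X} (h : T ⊆ T') : van T' ≤ van T := by
  intro f hf
  rw [mem_van] at hf ⊢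
  exact fun t ht => hf t (h ht)

theorem sp_comp (p : X ⟶ Y) (x : X) : sp (p x) = PrimeSpectrum.comap p.appTop.hom (sp x) := by
  have := congrArg (fun k : X ⟶ Spec Γ(Y, ⊤) => k x) (Scheme.toSpecΓ_naturality p)
  exact this

theorem mem_sp_comp (p : X ⟶ Y) (x : X) (g : Γ(Y, ⊤)) : g ∈ (sp (p x)).asIdeal ↔ p.appTop g ∈ (sp x).asIdeal := by
  rw [sp_comp]
  rfl

theorem map_van_le (p : X ⟶ Y) {T : Set Y} {T' : Set X} (h : T' ⊆ p ⁻¹' T) :
    (van T).map p.appTop.hom ≤ van T' := by
  rw [Ideal.map_le_iff_le_comap]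
  intro f hf
  rw [Ideal.mem_comap, mem_van]
  intro t ht
  rw [mem_van] at hf
  have h1 := hf (p t) (h ht)
  rw [sp_comp] at h1
  exact h1

theorem sp_bijective [IsAffine X] : Function.Bijective (sp : X → PrimeSpectrum Γ(X, ⊤)) :=
  (Scheme.homeoOfIso X.isoSpec).bijective

theorem isClosed_image [IsAffine X] {T : Set X} (hT : IsClosed T) : IsClosed (sp '' T) :=
  (Scheme.homeoOfIso X.isoSpec).isClosedMap _ hT

/-- Smooth base change of vanishing ideals. -/
theorem map_van [IsAffine X] [IsAffine Y] (p : X ⟶ Y) [Smooth p] {T : Set Y} (hT : IsClosed T) :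
    (van T).map p.appTop.hom = van (p ⁻¹' T) := by
  have h1 : p.appTop.hom.Smooth := (HasRingHomProperty.iff_of_isAffine (P := @Smooth)).1 ‹_›
  unfold van
  rw [map_vanishingIdeal _ h1 (isClosed_image hT)]
  congr 1
  ext q
  obtain ⟨x, rfl⟩ := sp_bijective.2 q
  rw [Set.mem_preimage, ← sp_comp, sp_bijective.1.mem_set_image, sp_bijective.1.mem_set_image]
  rfl

/-- The vanishing ideals of disjoint closed sets are comaximal. -/
theorem van_sup_eq_top [IsAffine X] {T T' : Set X} (hT : IsClosed T) (hT' : IsClosed T') (h : Disjoint T T') :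
    van T ⊔ van T' = ⊤ := by
  unfold van
  rw [← zeroLocus_empty_iff_eq_top, zeroLocus_sup, zeroLocus_vanishingIdeal_eq_closure,
    zeroLocus_vanishingIdeal_eq_closure, (isClosed_image hT).closure_eq, (isClosed_image hT').closure_eq,
    ← Set.image_inter sp_bijective.1, h.inter_eq, Set.image_empty]

theorem van_union (T T' : Set X) : van (T ∪ T') = van T ⊓ van T' := by
  unfold van
  rw [Set.image_union, vanishingIdeal_union]

theorem van_univ [IsAffine X] [IsReduced X] : van (Set.univ : Set X) = ⊥ := by
  unfold van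
  rw [Set.image_univ, (sp_bijective (X := X)).2.range_eq, vanishingIdeal_univ]
  exact nilradical_eq_zero _

/-- A point of an affine scheme where all functions of the vanishing ideal of a closed set vanish is in the set. -/
theorem mem_of_forall_van [IsAffine X] {T : Set X} (hT : IsClosed T) {x : X}
    (h : ∀ f ∈ van T, f ∈ (sp x).asIdeal) : x ∈ T := by
  have h1 : sp x ∈ zeroLocus ((van T : Ideal _) : Set Γ(X, ⊤)) := fun f hf => h f hf
  unfold van at h1
  rw [zeroLocus_vanishingIdeal_eq_closure, (isClosed_image hT).closure_eq] at h1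
  obtain ⟨y, hy, e⟩ := h1
  rwa [← sp_bijective.1 e]

end K907.Van
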