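import Groth.Agent.StMod.K907.Atl
import Groth.Agent.StMod.K907.Pt
import Groth.Agent.StMod.K907.Van

/-!
# Closed subsets of `|𝒳|` and quotients of the structure sheaf

* `prei h𝒳 W ξ`: the preimage of `W : Set (Points 𝒳)` in the scheme under `ξ`;
* `vanSub`, `compat_van`: the ideals of functions vanishing on a closed subset form a compatible family;
* `exists_sep`: for disjoint closed `W₁`, `W₂` there are a surjection `O ⟶ Q` and a global section `e` of `Q` whose local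
  lifts vanish on `W₁` and are `1` on `W₂`.
-/

set_option autoImplicit false
set_option linter.unusedVariables false
set_option linter.style.haveILetI false
set_option backward.isDefEq.respectTransparency false
set_option backward.isDefEq.respectTransparency.types false

universe t w v u

open CategoryTheory CategoryTheory.Limits AlgebraicGeometry Opposite StMod AlgSt

namespace K907.Closed

open Groth.Agent.CohqA.BaseChangeMod K907.Alg K907.Sec K907.QDesc K907.Quot K907.Atl K907.Pt K907.Van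

variable {S : Scheme.{u}} {𝒳 : BasedCategory.{v, w} (Over S)} (h𝒳 : FibCat.IsFibGrpd 𝒳.p)

/-- The preimage of a set of points in the scheme under an object. -/
def prei (W : Set (Points 𝒳)) (ξ : 𝒳.obj) : Set ↥(sch 𝒳 ξ) := {t | pt h𝒳 ξ t ∈ W}

theorem mem_prei {W : Set (Points 𝒳)} {ξ : 𝒳.obj} {t : ↥(sch 𝒳 ξ)} : t ∈ prei h𝒳 W ξ ↔ pt h𝒳 ξ t ∈ W := Iff.rfl

theorem preimage_prei (W : Set (Points 𝒳)) {ξ' ξ : 𝒳.obj} (φ : ξ' ⟶ ξ) :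
    (bmap 𝒳 φ) ⁻¹' prei h𝒳 W ξ = prei h𝒳 W ξ' := by
  ext t
  change pt h𝒳 ξ (bmap 𝒳 φ t) ∈ W ↔ pt h𝒳 ξ' t ∈ W
  rw [pt_map]

theorem prei_union (W W' : Set (Points 𝒳)) (ξ : 𝒳.obj) : prei h𝒳 (W ∪ W') ξ = prei h𝒳 W ξ ∪ prei h𝒳 W' ξ := rfl

/-- `W` has closed preimages in all affine objects. -/
def IsCl (W : Set (Points 𝒳)) : Prop := ∀ ξ : 𝒳.obj, IsAffine (sch 𝒳 ξ) → IsClosed (prei h𝒳 W ξ)

theorem IsCl.union {W W' : Set (Points 𝒳)} (h : IsCl h𝒳 W) (h' : IsCl h𝒳 W') : IsCl h𝒳 (W ∪ W') :=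
  fun ξ hξ => (h ξ hξ).union (h' ξ hξ)

variable {J : Type t} {Z : J → 𝒳.obj}

theorem isCl_of_atlas (hZ : SmCov Z) {W : Set (Points 𝒳)} (h : ∀ j, IsClosed (prei h𝒳 W (Z j))) : IsCl h𝒳 W := by
  intro ξ hξ
  obtain ⟨z', f, j, d, h1, h2, h3⟩ := hZ.cov ξ hξ
  have h4 : IsClosed ((bmap 𝒳 f) ⁻¹' prei h𝒳 W ξ) := by
    rw [preimage_prei, ← preimage_prei h𝒳 W d]
    exact (h j).preimage (bmap 𝒳 d).continuous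
  have h5 : Topology.IsQuotientMap (bmap 𝒳 f) :=
    (bmap 𝒳 f).isOpenMap.isQuotientMap (bmap 𝒳 f).continuous (bmap 𝒳 f).surjective
  exact h5.isClosed_preimage.1 h4

/-- The functions vanishing on the preimage of `W`. -/
noncomputable def vanSub (W : Set (Points 𝒳)) (ξ : 𝒳.obj) :
    Submodule Γ(sch 𝒳 ξ, ⊤) Γ((OQ 𝒳).obj.obj ξ, ⊤) :=
  (van (prei h𝒳 W ξ) : Ideal Γ(sch 𝒳 ξ, ⊤))

theorem mem_vanSub {W : Set (Points 𝒳)} {ξ : 𝒳.obj} {a : Γ(sch 𝒳 ξ, ⊤)} :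
    (show Γ((OQ 𝒳).obj.obj ξ, ⊤) from a) ∈ vanSub h𝒳 W ξ ↔ ∀ t : ↥(sch 𝒳 ξ), pt h𝒳 ξ t ∈ W → a ∈ (sp t).asIdeal :=
  mem_van

theorem pull_vanSub {W : Set (Points 𝒳)} (hW : IsCl h𝒳 W) {ξ' ξ : 𝒳.obj} (φ : ξ' ⟶ ξ) [hξ : IsAffine (sch 𝒳 ξ)]
    [hξ' : IsAffine (sch 𝒳 ξ')] (h : Smooth (bmap 𝒳 φ)) :
    pull (F := OQ 𝒳) φ (vanSub h𝒳 W ξ) = vanSub h𝒳 W ξ' := by
  have h1 := map_van (bmap 𝒳 φ) (hW ξ hξ)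
  rw [preimage_prei] at h1
  exact h1

theorem pull_vanSub_le {W : Set (Points 𝒳)} {ξ' ξ : 𝒳.obj} (φ : ξ' ⟶ ξ) :
    pull (F := OQ 𝒳) φ (vanSub h𝒳 W ξ) ≤ vanSub h𝒳 W ξ' := by
  have h1 := map_van_le (bmap 𝒳 φ) (T := prei h𝒳 W ξ) (T' := prei h𝒳 W ξ') (preimage_prei h𝒳 W φ).ge
  exact h1

/-- The ideal family of a closed set. -/
noncomputable def fam (W : Set (Points 𝒳)) : Fam Z (OQ 𝒳) := fun j => vanSub h𝒳 W (Z j)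

theorem compat_fam (hZ : SmCov Z) {W : Set (Points 𝒳)} (hW : IsCl h𝒳 W) : Compat (Z := Z) (fam h𝒳 W) := by
  haveI := hZ.aff
  exact hZ.compat (vanSub h𝒳 W) fun θ j p hθ hp => pull_vanSub h𝒳 hW p hp

theorem all_le_vanSub (hZ : SmCov Z) {W : Set (Points 𝒳)} (hW : IsCl h𝒳 W) (ξ : 𝒳.obj) [hξ : IsAffine (sch 𝒳 ξ)] :
    all hZ.covers (fam h𝒳 W) ξ ≤ vanSub h𝒳 W ξ := by
  intro x hx
  let c := (hZ.covers ξ hξ).some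
  rw [mem_all_iff h𝒳 hZ.covers (compat_fam h𝒳 hZ hW) c] at hx
  have h1 := pull_vanSub_le h𝒳 c.d hx
  refine mem_van.2 fun t ht => ?_
  have := c.cov.surj
  obtain ⟨t', rfl⟩ := (bmap 𝒳 c.f).surjective t
  have h2 := mem_van.1 h1 t' (by
    rw [← preimage_prei h𝒳 W c.f]
    exact ht)
  rw [sp_comp]
  exact h2

theorem pull_top (F : QCoh 𝒳) {ξ' ξ : 𝒳.obj} (φ : ξ' ⟶ ξ) [IsAffine (sch 𝒳 ξ)] [IsAffine (sch 𝒳 ξ')] :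
    pull (F := F) φ (⊤ : Submodule Γ(sch 𝒳 ξ, ⊤) Γ(F.obj.obj ξ, ⊤)) = ⊤ := by
  have h1 := span_range (isBC_resTop F φ)
  rw [eq_top_iff, ← h1, Submodule.span_le]
  rintro _ ⟨x, rfl⟩
  exact mem_ext _ trivial

theorem pull_sup {F : QCoh 𝒳} {ξ' ξ : 𝒳.obj} (φ : ξ' ⟶ ξ) (N N' : Submodule Γ(sch 𝒳 ξ, ⊤) Γ(F.obj.obj ξ, ⊤)) :
    pull φ (N ⊔ N') = pull φ N ⊔ pull φ N' := by
  apply le_antisymm
  · unfold pull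
    rw [ext_le]
    intro x hx
    obtain ⟨a, ha, b, hb, rfl⟩ := Submodule.mem_sup.1 hx
    rw [map_add]
    exact Submodule.add_mem_sup (mem_ext _ ha) (mem_ext _ hb)
  · exact sup_le (ext_mono _ le_sup_left) (ext_mono _ le_sup_right)

/-- The ideal of an affine object defined by the ideal family of `W`. -/
noncomputable def allI (hZ : SmCov Z) (W : Set (Points 𝒳)) (ξ : 𝒳.obj) [hξ : IsAffine (sch 𝒳 ξ)] :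
    Ideal Γ(sch 𝒳 ξ, ⊤) := all hZ.covers (fam h𝒳 W) ξ

theorem mem_allI_iff (hZ : SmCov Z) {W : Set (Points 𝒳)} (hW : IsCl h𝒳 W) {ξ : 𝒳.obj} [hξ : IsAffine (sch 𝒳 ξ)]
    (c : Cov Z ξ) {a : Γ(sch 𝒳 ξ, ⊤)} : a ∈ allI h𝒳 hZ W ξ ↔
      (bmap 𝒳 c.f).appTop a ∈ (van (prei h𝒳 W (Z c.j))).map (bmap 𝒳 c.d).appTop.hom :=
  mem_all_iff h𝒳 hZ.covers (compat_fam h𝒳 hZ hW) c

theorem mem_allI_map (hZ : SmCov Z) {W : Set (Points 𝒳)} (hW : IsCl h𝒳 W) {ξ' ξ : 𝒳.obj} [hξ : IsAffine (sch 𝒳 ξ)]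
    [hξ' : IsAffine (sch 𝒳 ξ')] (φ : ξ' ⟶ ξ) {a : Γ(sch 𝒳 ξ, ⊤)} (ha : a ∈ allI h𝒳 hZ W ξ) :
    (bmap 𝒳 φ).appTop a ∈ allI h𝒳 hZ W ξ' := by
  have h1 := pull_all h𝒳 hZ.covers (compat_fam h𝒳 hZ hW) φ
  change (OQ 𝒳).obj.mapTop φ a ∈ all hZ.covers (fam h𝒳 W) ξ'
  rw [← h1]
  exact mem_pull φ ha

theorem map_allI (hZ : SmCov Z) {W : Set (Points 𝒳)} (hW : IsCl h𝒳 W) {ξ' ξ : 𝒳.obj} [hξ : IsAffine (sch 𝒳 ξ)]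
    [hξ' : IsAffine (sch 𝒳 ξ')] (φ : ξ' ⟶ ξ) :
    (allI h𝒳 hZ W ξ).map (bmap 𝒳 φ).appTop.hom = allI h𝒳 hZ W ξ' :=
  pull_all h𝒳 hZ.covers (compat_fam h𝒳 hZ hW) φ

theorem allI_le_van (hZ : SmCov Z) {W : Set (Points 𝒳)} (hW : IsCl h𝒳 W) (ξ : 𝒳.obj) [hξ : IsAffine (sch 𝒳 ξ)] :
    allI h𝒳 hZ W ξ ≤ van (prei h𝒳 W ξ) := all_le_vanSub h𝒳 hZ hW ξ

theorem allI_atlas (hZ : SmCov Z) {W : Set (Points 𝒳)} (hW : IsCl h𝒳 W) (j : J) [hξ : IsAffine (sch 𝒳 (Z j))] :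
    allI h𝒳 hZ W (Z j) = van (prei h𝒳 W (Z j)) := all_atlas h𝒳 hZ.covers (compat_fam h𝒳 hZ hW) j

theorem allI_smooth (hZ : SmCov Z) {W : Set (Points 𝒳)} (hW : IsCl h𝒳 W) {ξ : 𝒳.obj} [hξ : IsAffine (sch 𝒳 ξ)] {j : J}
    (p : ξ ⟶ Z j) (hp : Smooth (bmap 𝒳 p)) : allI h𝒳 hZ W ξ = van (prei h𝒳 W ξ) := by
  haveI := hZ.aff
  rw [← map_allI h𝒳 hZ hW p, allI_atlas h𝒳 hZ hW]
  exact pull_vanSub h𝒳 hW p hp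

theorem allI_sup_eq_top (hZ : SmCov Z) {W₁ W₂ : Set (Points 𝒳)} (h₁ : IsCl h𝒳 W₁) (h₂ : IsCl h𝒳 W₂)
    (hd : Disjoint W₁ W₂) (ξ : 𝒳.obj) [hξ : IsAffine (sch 𝒳 ξ)] :
    allI h𝒳 hZ W₁ ξ ⊔ allI h𝒳 hZ W₂ ξ = ⊤ := by
  obtain ⟨z', f, j, d, i1, i2, i3⟩ := hZ.cov ξ hξ
  haveI := hZ.aff
  have hf := isFCov_of_smooth i2 i3
  have h1 : ((allI h𝒳 hZ W₁ ξ ⊔ allI h𝒳 hZ W₂ ξ).map (bmap 𝒳 f).appTop.hom) = ⊤ := by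
    rw [Ideal.map_sup, map_allI h𝒳 hZ h₁, map_allI h𝒳 hZ h₂, ← map_allI h𝒳 hZ h₁ d, ← map_allI h𝒳 hZ h₂ d,
      ← Ideal.map_sup, allI_atlas h𝒳 hZ h₁, allI_atlas h𝒳 hZ h₂, van_sup_eq_top (h₁ _ inferInstance) (h₂ _ inferInstance)
      (Set.disjoint_left.2 fun t ht ht' => Set.disjoint_left.1 hd ht ht'), Ideal.map_top]
  have h2 : (1 : Γ(sch 𝒳 ξ, ⊤)) ∈ allI h𝒳 hZ W₁ ξ ⊔ allI h𝒳 hZ W₂ ξ := by
    have h3 := (mem_pull_iff (F := OQ 𝒳) f hf (N := (allI h𝒳 hZ W₁ ξ ⊔ allI h𝒳 hZ W₂ ξ : Ideal Γ(sch 𝒳 ξ, ⊤)))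
      (x := (1 : Γ(sch 𝒳 ξ, ⊤)))).1
    refine h3 ?_
    change (bmap 𝒳 f).appTop.hom 1 ∈ (allI h𝒳 hZ W₁ ξ ⊔ allI h𝒳 hZ W₂ ξ).map (bmap 𝒳 f).appTop.hom
    rw [h1]
    trivial
  exact (Ideal.eq_top_iff_one _).2 h2

theorem allI_inf_le (hZ : SmCov Z) {W₁ W₂ : Set (Points 𝒳)} (h₁ : IsCl h𝒳 W₁) (h₂ : IsCl h𝒳 W₂)
    (hd : Disjoint W₁ W₂) (ξ : 𝒳.obj) [hξ : IsAffine (sch 𝒳 ξ)] :
    allI h𝒳 hZ W₁ ξ ⊓ allI h𝒳 hZ W₂ ξ ≤ allI h𝒳 hZ (W₁ ∪ W₂) ξ := by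
  rw [← Ideal.mul_eq_inf_of_coprime (allI_sup_eq_top h𝒳 hZ h₁ h₂ hd ξ), Ideal.mul_le]
  intro a ha b hb
  let c := (hZ.covers ξ hξ).some
  rw [mem_allI_iff h𝒳 hZ h₁ c] at ha
  rw [mem_allI_iff h𝒳 hZ h₂ c] at hb
  rw [mem_allI_iff h𝒳 hZ (h₁.union h𝒳 h₂) c, map_mul, prei_union, van_union]
  refine Ideal.map_mono Ideal.mul_le_inf ?_
  rw [Ideal.map_mul]
  exact Ideal.mul_mem_mul ha hb

/-- For disjoint closed sets there are a surjection `O ⟶ Q` and a global section of `Q` with local lifts vanishing on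
the first and equal to `1` on the second. -/
theorem exists_sep (hZ : SmCov Z) {W₁ W₂ : Set (Points 𝒳)} (h₁ : IsCl h𝒳 W₁) (h₂ : IsCl h𝒳 W₂)
    (hd : Disjoint W₁ W₂) : ∃ (Q : QCoh 𝒳) (q : OQ 𝒳 ⟶ Q) (e : Q.obj.GlobSect), Mod.IsSurj q.hom ∧
      ∀ (ξ : 𝒳.obj), IsAffine (sch 𝒳 ξ) → ∀ a : Γ(sch 𝒳 ξ, ⊤), (q.hom.app ξ).app ⊤ a = e.1 ξ →
        (∀ t : ↥(sch 𝒳 ξ), pt h𝒳 ξ t ∈ W₁ → a ∈ (sp t).asIdeal) ∧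
        (∀ t : ↥(sch 𝒳 ξ), pt h𝒳 ξ t ∈ W₂ → 1 - a ∈ (sp t).asIdeal) := by
  haveI := h𝒳
  have hK := compat_fam h𝒳 hZ (h₁.union h𝒳 h₂)
  obtain ⟨Q, q, hq, hker⟩ := exists_quotient_atlas h𝒳 hZ.covers (OQ 𝒳) hK
  have hker' : ∀ (ξ : 𝒳.obj) [IsAffine (sch 𝒳 ξ)] (a b : Γ(sch 𝒳 ξ, ⊤)),
      (q.hom.app ξ).app ⊤ a = (q.hom.app ξ).app ⊤ b ↔ a - b ∈ allI h𝒳 hZ (W₁ ∪ W₂) ξ := by
    intro ξ hξ a b
    refine Iff.trans ?_ (hker ξ (show Γ(sch 𝒳 ξ, ⊤) from (a - b)))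
    have e1 : (q.hom.app ξ).app ⊤ (show Γ(sch 𝒳 ξ, ⊤) from (a - b)) = (q.hom.app ξ).app ⊤ a - (q.hom.app ξ).app ⊤ b :=
      map_sub ((q.hom.app ξ).app ⊤).hom a b
    rw [e1, sub_eq_zero]
  have hu : ∀ ζ : (K908.AMod.ASieve.all 𝒳).cat.obj, ∃ a : Γ(sch 𝒳 ζ.obj, ⊤),
      (haveI : IsAffine (sch 𝒳 ζ.obj) := ζ.property
       a ∈ allI h𝒳 hZ W₁ ζ.obj ∧ 1 - a ∈ allI h𝒳 hZ W₂ ζ.obj) := by
    intro ζ
    haveI : IsAffine (sch 𝒳 ζ.obj) := ζ.property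
    obtain ⟨a, ha, b, hb, hab⟩ := Submodule.mem_sup.1 ((Ideal.eq_top_iff_one _).1
      (allI_sup_eq_top h𝒳 hZ h₁ h₂ hd ζ.obj))
    refine ⟨a, ha, ?_⟩
    rw [← hab, add_sub_cancel_left]
    exact hb
  choose uu hu1 hu2 using hu
  obtain ⟨e, he⟩ := K908.QHom.exists_globSect (C := K908.AMod.ASieve.all 𝒳) K908.Fam.zloc_all Q
    (fun ζ => (q.hom.app ζ.obj).app ⊤ (uu ζ)) (by
      intro ζ' ζ φ
      haveI : IsAffine (sch 𝒳 ζ.obj) := ζ.property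
      haveI : IsAffine (sch 𝒳 ζ'.obj) := ζ'.property
      rw [Mod.mapTop_app]
      refine (hker' ζ'.obj _ _).2 ?_
      have e1 := mem_allI_map h𝒳 hZ h₁ φ.hom (hu1 ζ)
      have e2 := mem_allI_map h𝒳 hZ h₂ φ.hom (hu2 ζ)
      refine allI_inf_le h𝒳 hZ h₁ h₂ hd ζ'.obj ⟨Ideal.sub_mem _ e1 (hu1 ζ'), ?_⟩
      have e3 := Ideal.sub_mem _ (hu2 ζ') e2
      have e4 : (1 - uu ζ') - (bmap 𝒳 φ.hom).appTop (1 - uu ζ) = (bmap 𝒳 φ.hom).appTop (uu ζ) - uu ζ' := by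
        rw [map_sub, map_one]; ring
      rw [e4] at e3
      exact e3)
  refine ⟨Q, q, e, hq, ?_⟩
  intro ξ hξ a ha
  let ζ : (K908.AMod.ASieve.all 𝒳).cat.obj := ⟨ξ, hξ⟩
  have h3 : (q.hom.app ξ).app ⊤ a = (q.hom.app ξ).app ⊤ (uu ζ) := ha.trans (he ζ)
  have h5 := allI_le_van h𝒳 hZ (h₁.union h𝒳 h₂) ξ ((hker' ξ _ _).1 h3)
  have h6 := mem_van.1 h5
  have h7 := mem_van.1 (allI_le_van h𝒳 hZ h₁ ξ (hu1 ζ))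
  have h8 := mem_van.1 (allI_le_van h𝒳 hZ h₂ ξ (hu2 ζ))
  constructor
  · intro t ht
    have := Ideal.add_mem _ (h6 t (Or.inl ht)) (h7 t ht)
    rwa [sub_add_cancel] at this
  · intro t ht
    have := Ideal.sub_mem _ (h8 t ht) (h6 t (Or.inr ht))
    have e6 : (1 - uu ζ) - (a - uu ζ) = 1 - a := by ring
    rwa [e6] at this

end K907.Closed
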