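import Groth.Agent.AlgSt.K735.PtsSp
import Groth.Agent.AlgSp.K618.ClosedPt
import Groth.Prelude.Def_AlgSt5

/-!
# Functors to `ofSp F`, rational points

* `eq_of_iso`: isomorphic functors over the base to `ofSp F` are equal;
* `isClosed_preimage`: the preimage in `|𝒳|` of a closed point of `|M|` under `𝒳 ⟶ ofSp M` is closed;
* `eq_of_ofChart_eq`: two sections of `M` over a scheme `T` with mono structure map with one point...
-/

set_option autoImplicit false
set_option backward.isDefEq.respectTransparency false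
set_option backward.isDefEq.respectTransparency.types false
set_option linter.unusedVariables false

universe v₃ u₃ v₂ u₂ v w u

open CategoryTheory CategoryTheory.Limits AlgebraicGeometry Opposite AlgSt

namespace K907.KPt

open K735.Fib K735.Rep K735.SpFp K735.PtsSp

variable {S : Scheme.{u}}

/-- An arrow of `ofSp F` over an identity is an equality. -/
theorem eq_of_vert {F : AlgSp.Sp S} {a b : (ofSp F).obj} (φ : a ⟶ b) (h : Vert (ofSp F).p φ) : a = b := by
  obtain ⟨T, x⟩ := a
  obtain ⟨T', y⟩ := b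
  have e : T' = T := h.eq
  subst e
  have h1 : φ.hom = 𝟙 _ := h.map_eq
  have h2 := φ.map_sec
  rw [h1] at h2
  simp only [op_id, Functor.map_id_apply] at h2
  rw [h2]

/-- Isomorphic functors over the base to `ofSp F` are equal. -/
theorem eq_of_iso {𝒳 : BasedCategory.{v₂, u₂} (Over S)} {F : AlgSp.Sp S} {f g : 𝒳 ⥤ᵇ ofSp F} (e : f ≅ g) : f = g := by
  have h : f.toFunctor = g.toFunctor := by
    refine CategoryTheory.Functor.ext (fun a => eq_of_vert (isoApp e a).hom (vert_isoApp e a)) ?_
    intro a b φ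
    apply ofSp_hom_ext
    have e1 := K735.Fib.map_map f φ
    have e2 := K735.Fib.map_map g φ
    rw [Functor.map_comp, Functor.map_comp, e2, eqToHom_map, eqToHom_map]
    refine e1.trans ?_
    simp
  cases f
  cases g
  cases h
  rfl

/-- The preimage in `|𝒳|` of a point of `M` which is closed in `|M|` is closed. -/
theorem isClosed_preimage {𝒳 : BasedCategory.{v₂, u₂} (Over S)} {M : AlgSp.Sp S} (f : 𝒳 ⥤ᵇ ofSp M)
    {T : Set (AlgSp.Points M)} (hT : IsClosed T) :
    IsClosed {x : AlgSt.Points 𝒳 | ptsEquiv M (AlgSt.Points.map f x) ∈ T} := by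
  rw [← isOpen_compl_iff, AlgSt.Points.isOpen_iff]
  intro U x hx
  obtain ⟨i⟩ := exists_iso_chart (BasedFunctor.comp x f)
  have h1 : ∀ t : ↥U.left, ptsEquiv M (AlgSt.Points.map f (AlgSt.Points.ofChart x t)) =
      AlgSp.Points.ofPt (unchart (BasedFunctor.comp x f)) t := by
    intro t
    rw [map_ofChart, ofChart_congr i, ptsEquiv_ofChart]
  have h2 : AlgSt.Points.ofChart x ⁻¹' {x : AlgSt.Points 𝒳 | ptsEquiv M (AlgSt.Points.map f x) ∈ T}ᶜ =
      AlgSp.Points.ofPt (unchart (BasedFunctor.comp x f)) ⁻¹' Tᶜ := by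
    ext t
    change ¬ (ptsEquiv M (AlgSt.Points.map f (AlgSt.Points.ofChart x t)) ∈ T) ↔ ¬ (_ ∈ T)
    rw [h1]
  rw [h2]
  exact hT.isOpen_compl.preimage (AlgSp.Points.continuous_ofPt _)

/-- Two rational points with the same class are equal. -/
theorem eq_of_ofPt_eq {k : Type u} [Field k] {M : AlgSp.Sp (Spec (CommRingCat.of k))} (hM : AlgSp.IsAlgSpace M)
    (a₁ a₂ : (AlgSp.yon (Spec (CommRingCat.of k))).obj (Over.mk (𝟙 (Spec (CommRingCat.of k)))) ⟶ M)
    (t : ↥(Spec (CommRingCat.of k))) (h : AlgSp.Points.ofPt a₁ t = AlgSp.Points.ofPt a₂ t) : a₁ = a₂ := by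
  have hiso : IsIso ((Spec (CommRingCat.of k)).fromSpecResidueField t) := by
    have h1 : Mono ((Spec (CommRingCat.of k)).fromSpecResidueField t) := inferInstance
    exact K618.Sch.isIso_of_mono_to_field (k := k) _
  let p₁ := AlgSp.FieldPt.ofPt a₁ t
  let p₂ := AlgSp.FieldPt.ofPt a₂ t
  have hm : Mono p₁.toHom := by
    have : Mono p₁.str := by
      change Mono ((Spec (CommRingCat.of k)).fromSpecResidueField t ≫ 𝟙 _)
      infer_instance
    exact K618.ClosedPt.mono_of_mono_str p₁
  obtain ⟨c, hc⟩ := K618.FieldFib.factors_of_mono p₁ p₂ hm (hM.representable_from_yon _) h.symm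
  have hc1 : c.left ≫ ((Spec (CommRingCat.of k)).fromSpecResidueField t ≫ 𝟙 _) =
    (Spec (CommRingCat.of k)).fromSpecResidueField t ≫ 𝟙 _ := Over.w c
  have hc2 : c = 𝟙 _ := by
    apply Over.OverMorphism.ext
    rw [Category.comp_id] at hc1
    rw [← cancel_mono ((Spec (CommRingCat.of k)).fromSpecResidueField t)]
    exact hc1.trans (Category.id_comp _).symm
  rw [hc2, CategoryTheory.Functor.map_id, Category.id_comp] at hc
  change (AlgSp.FieldPt.ofPt a₁ t).toHom = (AlgSp.FieldPt.ofPt a₂ t).toHom at hc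
  rw [AlgSp.FieldPt.toHom_ofPt, AlgSp.FieldPt.toHom_ofPt] at hc
  let j : (Over.mk ((Spec (CommRingCat.of k)).fromSpecResidueField t ≫ 𝟙 _) : Over (Spec (CommRingCat.of k))) ⟶
      Over.mk (𝟙 (Spec (CommRingCat.of k))) := Over.homMk ((Spec (CommRingCat.of k)).fromSpecResidueField t) rfl
  have hj : IsIso j := by
    have : IsIso ((Over.forget _).map j) := hiso
    exact isIso_of_reflects_iso _ (Over.forget _)
  have hj' : IsIso ((AlgSp.yon (Spec (CommRingCat.of k))).map j) := inferInstance
  exact hj'.epi_of_iso.left_cancellation _ _ hc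

/-- A rational point of a decent space over a field is closed. -/
theorem isClosed_ofPt {k : Type u} [Field k] {M : AlgSp.Sp (Spec (CommRingCat.of k))} (hM : AlgSp.IsAlgSpace M)
    (hd : AlgSp.IsDecent M)
    (a : (AlgSp.yon (Spec (CommRingCat.of k))).obj (Over.mk (𝟙 (Spec (CommRingCat.of k)))) ⟶ M)
    (t : ↥(Spec (CommRingCat.of k))) : IsClosed ({AlgSp.Points.ofPt a t} : Set (AlgSp.Points M)) := by
  have hiso : IsIso ((Spec (CommRingCat.of k)).fromSpecResidueField t) :=
    K618.Sch.isIso_of_mono_to_field (k := k) _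
  refine K618.ClosedPt.isClosed_point hM hd (AlgSp.FieldPt.ofPt a t) ?_
  change IsIntegralHom ((Spec (CommRingCat.of k)).fromSpecResidueField t ≫ 𝟙 _)
  infer_instance

end K907.KPt
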