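import Groth.Agent.StMod.K907.FinPt
import Groth.Agent.AlgSt.K735.DvrReal
import Groth.Agent.AlgSt.K742.EvQ3
import Groth.Agent.Models.DVRGeneric

/-!
# Lifting points over discrete valuation rings along good moduli spaces

* `exists_dvr`: a point of the generic fibre of a stack which is closed over the spectrum of a discrete valuation ring
  extends after an extension of discrete valuation rings.
* `exists_lift_pair`: two maps from the spectrum of a discrete valuation ring to a good moduli space, which agree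
  generically, lift, after an extension of discrete valuation rings, to maps to the stack which agree generically.
-/

set_option autoImplicit false
set_option linter.unusedVariables false
set_option linter.style.haveILetI false
set_option backward.isDefEq.respectTransparency false
set_option backward.isDefEq.respectTransparency.types false

universe t w' v' w v u

open CategoryTheory CategoryTheory.Limits AlgebraicGeometry Opposite StMod AlgSt AlgSp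

namespace K907.DvrLift

open K907.DiagPt K907.OnePt K907.FinPt K735.PtsSp K735.ClosedLim K735.Fib

variable {S : Scheme.{u}}

/-- Functors between schemes on objects. -/
theorem exists_map {U T : Over S} (F : FibCat.overCat U ⥤ᵇ FibCat.overCat T) :
    ∃ g : U ⟶ T, (Nonempty (F ≅ overMap g)) ∧ ∀ k : (FibCat.overCat U).obj, F.obj k = Over.mk (k.hom ≫ g) := by
  refine ⟨K734.Fib.overFun F, K734.Fib.nonempty_iso_overMap F, fun k => ?_⟩
  have h1 := over_eq (B := F.obj (K734.Fib.one U)) (F.w_obj k)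
    (k.hom ≫ eqToHom (K734.Fib.obj_one_eq F).symm) (F.map (K734.Fib.toOne k)) (K734.Fib.map_eq_base F (K734.Fib.toOne k))
  rw [h1, Category.assoc]
  rfl

section Dvr

variable {R : Type u} [CommRing R] [IsDomain R] [IsDiscreteValuationRing R] (t : Spec (CommRingCat.of R) ⟶ S)

/-- The map of spectra of an extension. -/
noncomputable abbrev ext {R' : Type u} [CommRing R'] (φ : R →+* R') :
    Over.mk (Spec.map (CommRingCat.ofHom φ) ≫ t) ⟶ Over.mk t := Over.homMk (Spec.map (CommRingCat.ofHom φ)) rfl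

/-- The generic point. -/
noncomputable abbrev gen (R' : Type u) [CommRing R'] (t' : Spec (CommRingCat.of R') ⟶ S) :
    Over.mk (Spec.map (CommRingCat.ofHom (algebraMap R' (FractionRing R'))) ≫ t') ⟶ Over.mk t' :=
  Over.homMk (Spec.map (CommRingCat.ofHom (algebraMap R' (FractionRing R')))) rfl

theorem exists_dvr [QuasiSeparatedSpace S] {𝒳' 𝒴 : AlgSt.Cat S} (h𝒳' : IsAlgStack Scheme.fppfPrecoverage 𝒳')
    (h𝒴 : IsAlgStack Scheme.fppfPrecoverage 𝒴) (hN : SmoothLocally (fun T => IsLocallyNoetherian T) 𝒴)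
    (hqc : AlgSt.IsQuasiCompact 𝒴) (hqs : IsQuasiSeparatedOver 𝒴) (q : 𝒴 ⥤ᵇ FibCat.overCat (Over.mk t))
    (hq : IsClosedMap (AlgSt.Points.map q)) {f : 𝒳' ⥤ᵇ 𝒴} (hft : LocQ (LocP @LocallyOfFiniteType) f)
    (x : AlgSt.Points 𝒳') {η : ↥(Over.mk t).left} (hη : PrimeSpectrum.asIdeal (R := R) η = ⊥)
    (hx : AlgSt.Points.map q (AlgSt.Points.map f x) = Points.ofChart (BasedFunctor.id (FibCat.overCat (Over.mk t))) η) :
    ∃ (R' : Type u) (_ : CommRing R') (_ : IsDomain R') (_ : IsDiscreteValuationRing R') (φ : R →+* R'),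
      Function.Injective φ ∧ IsLocalHom φ ∧
      ∃ (a : FibCat.overCat (Over.mk (Spec.map (CommRingCat.ofHom (algebraMap R' (FractionRing R'))) ≫
          Spec.map (CommRingCat.ofHom φ) ≫ t)) ⥤ᵇ 𝒳')
        (b : FibCat.overCat (Over.mk (Spec.map (CommRingCat.ofHom φ) ≫ t)) ⥤ᵇ 𝒴),
        Nonempty (BasedFunctor.comp a f ≅ BasedFunctor.comp (overMap (gen R' (Spec.map (CommRingCat.ofHom φ) ≫ t))) b) ∧
        ∀ k, (BasedFunctor.comp b q).obj k = Over.mk (k.hom ≫ ext t φ) := by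
  let T : Over S := Over.mk t
  let cp : ↥T.left := IsLocalRing.closedPoint R
  have hsp : η ⤳ cp := (IsLocalRing.specializes_closedPoint (R := R) η)
  have hcont := K735.Top.chartCont_overCat T T (BasedFunctor.id (FibCat.overCat T))
  obtain ⟨y₀, hy₀, hy₀'⟩ : Points.ofChart (BasedFunctor.id (FibCat.overCat T)) cp ∈
      AlgSt.Points.map q '' closure {AlgSt.Points.map f x} := by
    have h1 := hq _ (isClosed_closure (s := {AlgSt.Points.map f x}))
    refine (hsp.map hcont).mem_closed h1 ?_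
    exact ⟨_, subset_closure rfl, hx⟩
  obtain ⟨R', _, _, _, sR, a, b, ⟨i⟩, ha, hb⟩ := K735.DvrReal.exists_dvr_of_specializes h𝒳' h𝒴 hN
    (fun V => K744.AlgOver.isAlgStack_overCat V) hqc (K738.repByAlgSpWith_mono hqs fun _ h => h.1) hft x y₀
    (specializes_iff_mem_closure.2 hy₀)
  obtain ⟨g, ⟨θ⟩, hg⟩ := exists_map (BasedFunctor.comp b q)
  obtain ⟨φ, hφ⟩ := Spec.map_surjective g.left
  obtain rfl : sR = Spec.map φ ≫ t := by
    rw [hφ]
    exact (Over.w g).symm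
  have hg' : g = ext t φ.hom := by
    ext1
    exact hφ.symm
  have hpt : ∀ c : ↥(Over.mk (Spec.map φ ≫ t)).left, AlgSt.Points.map q (Points.ofChart b c) =
      Points.ofChart (BasedFunctor.id (FibCat.overCat T)) (Spec.map φ c) := by
    intro c
    rw [map_ofChart_over θ, ← hφ]
    rfl
  have hloc : IsLocalHom φ.hom := by
    have h1 := hpt (IsLocalRing.closedPoint R')
    rw [hb, hy₀'] at h1
    have h2 := (ofChart_id_bijective T).1 h1
    exact (IsLocalRing.isLocalHom_iff_comap_closedPoint (f := φ.hom)).2 h2.symm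
  have hinj : Function.Injective φ.hom := by
    let p : ↥(Spec (CommRingCat.of (FractionRing R'))) := IsLocalRing.closedPoint (FractionRing R')
    have h1 : AlgSt.Points.map q (AlgSt.Points.map f x) = Points.ofChart (BasedFunctor.id (FibCat.overCat T))
        (Spec.map φ (Spec.map (CommRingCat.ofHom (algebraMap R' (FractionRing R'))) p)) := by
      rw [← ha p, map_ofChart, ofChart_congr i, ofChart_overMap]
      exact hpt _
    rw [hx] at h1
    have h2 := (ofChart_id_bijective T).1 h1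
    have h3 := congrArg (PrimeSpectrum.asIdeal (R := R)) h2
    rw [hη] at h3
    rw [injective_iff_map_eq_zero]
    intro r hr
    have h4 : r ∈ PrimeSpectrum.asIdeal (R := R) (Spec.map φ (Spec.map (CommRingCat.ofHom (algebraMap R' (FractionRing R'))) p)) := by
      change algebraMap R' (FractionRing R') (φ.hom r) ∈ PrimeSpectrum.asIdeal p
      rw [hr, map_zero]
      exact Ideal.zero_mem _
    rw [← h3] at h4
    exact h4
  refine ⟨R', inferInstance, inferInstance, inferInstance, φ.hom, hinj, hloc, a, b, ⟨i⟩, fun k => ?_⟩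
  rw [hg k, hg']

end Dvr

theorem obj_eq_of_vert {𝒳 : BasedCategory.{v, w} (Over S)} {M : Sp S} (π : 𝒳 ⥤ᵇ ofSp M) {a b : 𝒳.obj} (φ : a ⟶ b)
    (h : K735.Fib.Vert 𝒳.p φ) : π.obj a = π.obj b :=
  obj_eq_of_hom π φ (𝟙 b) h.eq.symm (by
    rw [h.map_eq, 𝒳.p.map_id]
    exact eqToHom_heq_id_cod _ _ _)

/-- Restriction of the section attached to an object. -/
theorem fibSec_of_lift {𝒳 : BasedCategory.{v, w} (Over S)} {M : Sp S} (π : 𝒳 ⥤ᵇ ofSp M) {E T : Over S} (z : 𝒳.p.Fiber E)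
    (x : 𝒳.p.Fiber T) (g : E ⟶ T) (ψ : z.1 ⟶ x.1) (hψ : 𝒳.p.IsHomLift g ψ) (y : (yon S).obj T ⟶ M)
    (hx : fibSec π x = (J S).uliftYonedaEquiv y) : fibSec π z = (J S).uliftYonedaEquiv ((yon S).map g ≫ y) := by
  have h1 := K734.Fib.secOf_map π x.2 z.2 hψ
  rw [K746.fibSec_eq] at hx ⊢
  rw [← h1, hx]
  exact GrothendieckTopology.map_uliftYonedaEquiv _ _ _

/-- Sections attached to a functor to the fibre product. -/
theorem fibSec_of_functor {𝒳 : BasedCategory.{u, w} (Over S)} {M : Sp S} {π : 𝒳 ⥤ᵇ ofSp M} {T E : Over S}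
    (y : (yon S).obj T ⟶ M) (b : FibCat.overCat E ⥤ᵇ FibCat.fp (chart y) π) (g : E ⟶ T)
    (hb : ∀ k, (BasedFunctor.comp b (FibCat.fpFst (chart y) π)).obj k = Over.mk (k.hom ≫ g)) (k : (FibCat.overCat E).obj) :
    ∃ h : 𝒳.p.obj (b.obj k).obj.snd = (k.left : Over S),
      fibSec π (⟨(b.obj k).obj.snd, h⟩ : 𝒳.p.Fiber (k.left : Over S)) =
        (J S).uliftYonedaEquiv ((yon S).map (k.hom ≫ g) ≫ y) := by
  have h1 : (b.obj k).obj.fst = (Over.mk (k.hom ≫ g) : Over T) := hb k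
  have h2 : 𝒳.p.obj (b.obj k).obj.snd = k.left :=
    (K735.Fp.fp_snd_eq (b.obj k)).trans (congrArg (fun A : Over T => A.left) h1)
  refine ⟨h2, ?_⟩
  have h3 : π.obj (b.obj k).obj.snd = (chart y).obj (b.obj k).obj.fst :=
    (K734.Fib.obj_eq_of_iso (FibCat.fpIso (chart y) π) (b.obj k)).symm
  rw [K746.fibSec_eq_iff, h3, h1, yoneda_app]
  rfl

/-- Functors to the fibre product from objects. -/
theorem exists_functor {𝒳 : BasedCategory.{u, w} (Over S)} (h𝒳 : FibCat.IsFibGrpd 𝒳.p) {M : Sp S} {π : 𝒳 ⥤ᵇ ofSp M} {T E : Over S}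
    (y : (yon S).obj T ⟶ M) (g : E ⟶ T) (z : 𝒳.p.Fiber E)
    (hz : fibSec π z = (J S).uliftYonedaEquiv ((yon S).map g ≫ y)) :
    ∃ a : FibCat.overCat E ⥤ᵇ FibCat.fp (chart y) π, BasedFunctor.comp a (FibCat.fpFst (chart y) π) = overMap g ∧
      BasedFunctor.comp a (FibCat.fpSnd (chart y) π) = K735.Fp.yonF h𝒳 z.1 z.2 := by
  have h1 : Nonempty (BasedFunctor.comp (overMap g) (chart y) ≅ BasedFunctor.comp (K735.Fp.yonF h𝒳 z.1 z.2) π) := by
    rw [K746.nonempty_iso_ofPsh_iff]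
    obtain ⟨a, ha⟩ := exists_chart (BasedFunctor.comp (K735.Fp.yonF h𝒳 z.1 z.2) π)
    have h2 : a = (yon S).map g ≫ y := by
      apply (J S).uliftYonedaEquiv.injective
      rw [← hz]
      have h3 : (BasedFunctor.comp (K735.Fp.yonF h𝒳 z.1 z.2) π).obj (Over.mk (𝟙 E)) = π.obj z.1 :=
        obj_eq_of_vert π _ (K735.Fp.vert_yonFIso h𝒳 z.1 z.2)
      symm
      rw [K746.fibSec_eq_iff, ← h3, ha]
      have h4 := yoneda_app a (𝟙 E)
      rw [(yon S).map_id, Category.id_comp] at h4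
      rw [h4]
      rfl
    intro k
    refine Eq.trans ?_ (ha k).symm
    rw [h2]
    change (⟨k.left, y.hom.app (op k.left) ⟨k.hom ≫ g⟩⟩ : (ofSp M).obj) = _
    rfl
  obtain ⟨e⟩ := h1
  exact ⟨FibCat.fpLift (overMap g) (K735.Fp.yonF h𝒳 z.1 z.2) e, rfl, rfl⟩

/-- Cancellation of local finiteness. -/
theorem locQ_lft_of_comp {𝒳 𝒴 𝒵 : AlgSt.Cat S} (h𝒳 : IsAlgStack Scheme.fppfPrecoverage 𝒳)
    (h𝒴 : IsAlgStack Scheme.fppfPrecoverage 𝒴) (h𝒵 : IsAlgStack Scheme.fppfPrecoverage 𝒵) (f : 𝒳 ⥤ᵇ 𝒴) (g : 𝒴 ⥤ᵇ 𝒵)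
    (h : LocQ (LocP @LocallyOfFiniteType) (BasedFunctor.comp f g)) : LocQ (LocP @LocallyOfFiniteType) f := by
  obtain ⟨W, U, V, x, y, z, a, b, hx, hy, hz, hxs, hys, ha, hb, hc, -⟩ := K742.EvQ.exists_chain h𝒳.isStack.1 h𝒴.isStack.1
    h𝒵.isStack.1 h𝒳.atlas h𝒴.atlas h𝒵.atlas f g
  refine K742.EvQ.locQ_of_goodSq K742.nice_lft h𝒳.isStack.1 ha hx hxs hy ?_
  have h1 : LocallyOfFiniteType (a.left ≫ b.left) := K742.EvQ.goodSq_of_locQ K742.nice_lft h𝒳.isStack.1 h𝒵.isStack.1 _ h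
    x z (K735.Rep.repByAlgSp1_of_with hz) (a ≫ b) hc
  exact locallyOfFiniteType_of_comp a.left b.left

/-- Arrows to an object from values of the attached functor. -/
theorem exists_arrow {𝒳 : BasedCategory.{v, w} (Over S)} (hXf : FibCat.IsFibGrpd 𝒳.p) {E E' : Over S} {x : 𝒳.obj}
    (hx : 𝒳.p.obj x = E) {k : (FibCat.overCat E).obj} {w : 𝒳.obj} (v : w ⟶ (K735.Fp.yonF hXf x hx).obj k)
    (hv : K735.Fib.Vert 𝒳.p v) (g : E' ⟶ E) (hk : k = Over.mk g) : ∃ χ : w ⟶ x, 𝒳.p.IsHomLift g χ := by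
  subst hk
  subst hx
  have h0 : (FibCat.overCat (𝒳.p.obj x)).p.IsHomLift g (K735.Fp.toId (Over.mk g) : (Over.mk g : (FibCat.overCat (𝒳.p.obj x)).obj) ⟶ _) :=
    IsHomLift.of_fac' (FibCat.overCat (𝒳.p.obj x)).p g _ rfl rfl (by
      change g = 𝟙 _ ≫ g ≫ 𝟙 _
      rw [Category.id_comp, Category.comp_id])
  have h1 : 𝒳.p.IsHomLift g ((K735.Fp.yonF hXf x rfl).map (K735.Fp.toId (Over.mk g))) :=
    BasedFunctor.preserves_isHomLift _ _ _
  have h2 : 𝒳.p.IsHomLift (𝟙 (𝒳.p.obj x)) (K735.Fp.yonFIso hXf x rfl).hom :=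
    (K735.Fp.vert_yonFIso hXf x rfl).isHomLift' rfl
  have h3 : 𝒳.p.IsHomLift (𝟙 E') v := hv.isHomLift' ((K735.Fp.yonF hXf x rfl).w_obj _)
  refine ⟨v ≫ (K735.Fp.yonF hXf x rfl).map (K735.Fp.toId (Over.mk g)) ≫ (K735.Fp.yonFIso hXf x rfl).hom, ?_⟩
  have h4 : 𝒳.p.IsHomLift (𝟙 E' ≫ g ≫ 𝟙 _) (v ≫ (K735.Fp.yonF hXf x rfl).map (K735.Fp.toId (Over.mk g)) ≫
    (K735.Fp.yonFIso hXf x rfl).hom) := inferInstance
  rwa [Category.id_comp, Category.comp_id] at h4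

/-- Functors between schemes with given objects. -/
theorem nonempty_iso_of_obj {U T : Over S} (F : FibCat.overCat U ⥤ᵇ FibCat.overCat T) (g : U ⟶ T)
    (hF : ∀ k : (FibCat.overCat U).obj, F.obj k = Over.mk (k.hom ≫ g)) : Nonempty (F ≅ overMap g) := by
  obtain ⟨g', i, hg'⟩ := exists_map F
  have h1 : (Over.mk (𝟙 U ≫ g) : Over T) = Over.mk (𝟙 U ≫ g') := (hF (Over.mk (𝟙 U))).symm.trans (hg' _)
  have h2 := eqToHom_hom h1 rfl
  have h3 : g = g' := by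
    simpa using h2
  rw [h3]
  exact i

theorem yon_sq {A B B' C : Over S} {α : A ⟶ B} {β : B ⟶ C} {α' : A ⟶ B'} {β' : B' ⟶ C} (h : α ≫ β = α' ≫ β')
    {M : Sp S} (m : (yon S).obj C ⟶ M) :
    (yon S).map α ≫ (yon S).map β ≫ m = (yon S).map α' ≫ (yon S).map β' ≫ m := by
  rw [← Category.assoc, ← Category.assoc, ← (yon S).map_comp, ← (yon S).map_comp, h]

/-- Extensions and generic points. -/
theorem exists_gen {R R' : Type u} [CommRing R] [IsDomain R] [CommRing R'] [IsDomain R'] (t : Spec (CommRingCat.of R) ⟶ S)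
    (φ : R →+* R') (hφ : Function.Injective φ) :
    ∃ κ : Over.mk (Spec.map (CommRingCat.ofHom (algebraMap R' (FractionRing R'))) ≫ Spec.map (CommRingCat.ofHom φ) ≫ t) ⟶
        Over.mk (Spec.map (CommRingCat.ofHom (algebraMap R (FractionRing R))) ≫ t),
      gen R' (Spec.map (CommRingCat.ofHom φ) ≫ t) ≫ ext t φ = κ ≫ gen R t := by
  have h0 : Function.Injective ((algebraMap R' (FractionRing R')).comp φ) :=
    (IsFractionRing.injective R' (FractionRing R')).comp hφ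
  let ψ : FractionRing R →+* FractionRing R' := IsFractionRing.lift (A := R) (K := FractionRing R) h0
  have hψ : ψ.comp (algebraMap R (FractionRing R)) = (algebraMap R' (FractionRing R')).comp φ := by
    ext r
    exact IsFractionRing.lift_algebraMap (A := R) (K := FractionRing R) h0 r
  have h1 : Spec.map (CommRingCat.ofHom ψ) ≫ Spec.map (CommRingCat.ofHom (algebraMap R (FractionRing R))) =
      Spec.map (CommRingCat.ofHom (algebraMap R' (FractionRing R'))) ≫ Spec.map (CommRingCat.ofHom φ) := by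
    rw [← Spec.map_comp, ← Spec.map_comp, ← CommRingCat.ofHom_comp, ← CommRingCat.ofHom_comp, hψ]
  refine ⟨Over.homMk (Spec.map (CommRingCat.ofHom ψ)) ?_, ?_⟩
  · change Spec.map (CommRingCat.ofHom ψ) ≫ Spec.map (CommRingCat.ofHom (algebraMap R (FractionRing R))) ≫ t = _
    rw [← Category.assoc, h1, Category.assoc]
    rfl
  · ext1
    exact h1.symm

section Main

variable [QuasiSeparatedSpace S] {𝒳 : AlgSt.Cat S} (h𝒳 : IsAlgStack Scheme.fppfPrecoverage 𝒳)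
  (M : Space S) (hM : IsQuasiSeparatedSp M.obj) (π : 𝒳 ⥤ᵇ ofSp M.obj)
  (hqc : IsQuasiCompactMor Scheme.fppfPrecoverage π) (hqs : IsQuasiSeparatedMor π)
  (h : IsGoodModuli π) (hft : LocQ (LocP @LocallyOfFiniteType) (FibCat.toSelf 𝒳))

omit [QuasiSeparatedSpace S] in
include h𝒳 hft in
theorem locQ_lft : LocQ (LocP @LocallyOfFiniteType) π := by
  have hAM := K740.SpDM.isAlgStack_ofSp M.property
  have h1 : BasedFunctor.comp π (FibCat.toSelf (ofSp M.obj)) = FibCat.toSelf 𝒳 := K741.eq_toSelf _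
  refine locQ_lft_of_comp h𝒳 hAM (K741.isAlgStack_selfOver S) π (FibCat.toSelf (ofSp M.obj)) ?_
  rw [h1]
  exact hft

include h𝒳 hft in
theorem locNoeth_fp {T : Over S} [IsLocallyNoetherian T.left] (m : (yon S).obj T ⟶ M.obj) :
    SmoothLocally (fun T => IsLocallyNoetherian T) (FibCat.fp (chart m) π) := by
  have hT := K744.AlgOver.isAlgStack_overCat T
  have hAM := K740.SpDM.isAlgStack_ofSp M.property
  have h𝒲 := K907.GoodFp.isAlgStack_fp h𝒳 M π hT (chart m)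
  refine K742.LN.smoothLocally_LN_of_lft h𝒲.isStack.1 (FibCat.fpFst (chart m) π)
    (K742.EvQ.locQ_fpFst K742.nice_lft h𝒳.isStack.1 hAM.isStack.1 hT.isStack.1 hT.atlas π (chart m)
      (locQ_lft h𝒳 M π hft)) ?_
  intro U u hu
  obtain ⟨g, ⟨i⟩⟩ := K735.Top.exists_iso_overMap u
  have h1 : Smooth g.left := (K742.nice_smooth.overMap_iff g).1 (K735.Rep.repByAlgSpWith_of_iso _ i hu)
  exact LocallyOfFiniteType.isLocallyNoetherian g.left

include h𝒳 hM hqc hqs h hft in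
theorem exists_dvr_fp {R : Type u} [CommRing R] [IsDomain R] [IsDiscreteValuationRing R] (t : Spec (CommRingCat.of R) ⟶ S)
    (m : (yon S).obj (Over.mk t) ⟶ M.obj) {𝒳' : AlgSt.Cat S} (h𝒳' : IsAlgStack Scheme.fppfPrecoverage 𝒳')
    {f : 𝒳' ⥤ᵇ FibCat.fp (chart m) π} (hf : LocQ (LocP @LocallyOfFiniteType) f)
    (x : AlgSt.Points 𝒳') {η : ↥(Over.mk t).left} (hη : PrimeSpectrum.asIdeal (R := R) η = ⊥)
    (hx : AlgSt.Points.map (FibCat.fpFst (chart m) π) (AlgSt.Points.map f x) =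
      Points.ofChart (BasedFunctor.id (FibCat.overCat (Over.mk t))) η) :
    ∃ (R' : Type u) (_ : CommRing R') (_ : IsDomain R') (_ : IsDiscreteValuationRing R') (φ : R →+* R'),
      Function.Injective φ ∧ IsLocalHom φ ∧
      ∃ (a : FibCat.overCat (Over.mk (Spec.map (CommRingCat.ofHom (algebraMap R' (FractionRing R'))) ≫
          Spec.map (CommRingCat.ofHom φ) ≫ t)) ⥤ᵇ 𝒳')
        (b : FibCat.overCat (Over.mk (Spec.map (CommRingCat.ofHom φ) ≫ t)) ⥤ᵇ FibCat.fp (chart m) π),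
        Nonempty (BasedFunctor.comp a f ≅ BasedFunctor.comp (overMap (gen R' (Spec.map (CommRingCat.ofHom φ) ≫ t))) b) ∧
        ∀ k, (BasedFunctor.comp b (FibCat.fpFst (chart m) π)).obj k = Over.mk (k.hom ≫ ext t φ) := by
  have hT := K744.AlgOver.isAlgStack_overCat (Over.mk t)
  have hTa : IsAffine (Over.mk t).left := inferInstanceAs (IsAffine (Spec (CommRingCat.of R)))
  haveI : IsLocallyNoetherian (Over.mk t).left := inferInstanceAs (IsLocallyNoetherian (Spec (CommRingCat.of R)))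
  haveI : QuasiSeparated (Over.mk t).hom := by
    change QuasiSeparated t
    infer_instance
  exact exists_dvr t h𝒳' (K907.GoodFp.isAlgStack_fp h𝒳 M π hT (chart m)) (locNoeth_fp h𝒳 M π hft m)
    (hqc _ hT (K906.isQuasiCompact_overCat hTa) (chart m)) (isQuasiSeparatedOver_fp h𝒳 M π hqs m) _
    (K907.GoodFp.isClosedMap_affine h𝒳 M hM π hqc hqs h hTa (chart m)).1 hf x hη hx

include h𝒳 hM hqc hqs h hft in
/-- Lifting two generically equal maps from the spectrum of a discrete valuation ring. -/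
theorem exists_lift_pair {R : Type u} [CommRing R] [IsDomain R] [IsDiscreteValuationRing R] (t : Spec (CommRingCat.of R) ⟶ S)
    (m₁ m₂ : (yon S).obj (Over.mk t) ⟶ M.obj) (he : (yon S).map (gen R t) ≫ m₁ = (yon S).map (gen R t) ≫ m₂) :
    ∃ (R' : Type u) (_ : CommRing R') (_ : IsDomain R') (_ : IsDiscreteValuationRing R') (φ : R →+* R')
      (t' : Spec (CommRingCat.of R') ⟶ S) (g : Over.mk t' ⟶ Over.mk t),
      Function.Injective φ ∧ IsLocalHom φ ∧ g.left = Spec.map (CommRingCat.ofHom φ) ∧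
      ∃ (x₁ x₂ : 𝒳.p.Fiber (Over.mk t')), fibSec π x₁ = (J S).uliftYonedaEquiv ((yon S).map g ≫ m₁) ∧
        fibSec π x₂ = (J S).uliftYonedaEquiv ((yon S).map g ≫ m₂) ∧
        ∃ (z : 𝒳.obj) (f₁ : z ⟶ x₁.1) (f₂ : z ⟶ x₂.1), 𝒳.p.IsHomLift (gen R' t') f₁ ∧ 𝒳.p.IsHomLift (gen R' t') f₂ := by
  have hXf := h𝒳.isStack.1
  have hTa : IsAffine (Over.mk t).left := inferInstanceAs (IsAffine (Spec (CommRingCat.of R)))
  let η : ↥(Over.mk t).left := (⟨⊥, Ideal.isPrime_bot⟩ : PrimeSpectrum R)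
  obtain ⟨w, hw⟩ := (K907.GoodFp.isClosedMap_affine h𝒳 M hM π hqc hqs h hTa (chart m₁)).2
    (Points.ofChart (BasedFunctor.id (FibCat.overCat (Over.mk t))) η)
  have h𝒴₁ := K907.GoodFp.isAlgStack_fp h𝒳 M π (K744.AlgOver.isAlgStack_overCat (Over.mk t)) (chart m₁)
  obtain ⟨R₁, _, _, _, φ₁, hφ₁, hφ₁', -, b₁, -, hb₁⟩ := exists_dvr_fp h𝒳 M hM π hqc hqs h hft t m₁ h𝒴₁
    (f := BasedFunctor.id _) (K742.EvQ.locQ_id K742.nice_lft h𝒴₁.atlas) w (η := η) rfl
    ((congrArg (AlgSt.Points.map (FibCat.fpFst (chart m₁) π)) (K735.Pts.map_id w)).trans hw)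
  let t₁ : Spec (CommRingCat.of R₁) ⟶ S := Spec.map (CommRingCat.ofHom φ₁) ≫ t
  obtain ⟨hx₁, hx₁'⟩ := fibSec_of_functor m₁ b₁ (ext t φ₁) hb₁ (Over.mk (𝟙 (Over.mk t₁)))
  let x₁ : 𝒳.p.Fiber (Over.mk t₁) := ⟨_, hx₁⟩
  have hx₁'' : fibSec π x₁ = (J S).uliftYonedaEquiv ((yon S).map (ext t φ₁) ≫ m₁) := by
    refine hx₁'.trans ?_
    change (J S).uliftYonedaEquiv ((yon S).map (𝟙 _ ≫ _) ≫ m₁) = _
    rw [Category.id_comp]
    rfl
  -- the generic point of `x₁`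
  obtain ⟨z₁', ψ₁, hψ₁⟩ := K734.Fib.exists_lift hXf hx₁ (gen R₁ t₁)
  let z₁ : 𝒳.p.Fiber (Over.mk (Spec.map (CommRingCat.ofHom (algebraMap R₁ (FractionRing R₁))) ≫ t₁)) :=
    ⟨z₁', IsHomLift.domain_eq 𝒳.p (gen R₁ t₁) ψ₁⟩
  have hz₁ : fibSec π z₁ = (J S).uliftYonedaEquiv ((yon S).map (gen R₁ t₁) ≫ (yon S).map (ext t φ₁) ≫ m₂) := by
    rw [fibSec_of_lift π z₁ x₁ (gen R₁ t₁) ψ₁ hψ₁ _ hx₁'']
    obtain ⟨κ, hκ⟩ := exists_gen t φ₁ hφ₁
    exact congrArg (J S).uliftYonedaEquiv ((yon_sq hκ m₁).trans ((congrArg (fun m => (yon S).map κ ≫ m) he).trans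
      (yon_sq hκ m₂).symm))
  obtain ⟨a₀, ha₀, ha₀'⟩ := exists_functor hXf ((yon S).map (ext t φ₁) ≫ m₂) (gen R₁ t₁) z₁ hz₁
  have hE₁ := K744.AlgOver.isAlgStack_overCat (Over.mk (Spec.map (CommRingCat.ofHom (algebraMap R₁ (FractionRing R₁))) ≫ t₁))
  have hT₁ := K744.AlgOver.isAlgStack_overCat (Over.mk t₁)
  have h𝒴₂ := K907.GoodFp.isAlgStack_fp h𝒳 M π hT₁ (chart ((yon S).map (ext t φ₁) ≫ m₂))
  have ha₀l : LocQ (LocP @LocallyOfFiniteType) a₀ := by
    refine locQ_lft_of_comp hE₁ h𝒴₂ hT₁ a₀ (FibCat.fpFst (chart ((yon S).map (ext t φ₁) ≫ m₂)) π) ?_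
    rw [ha₀]
    refine K742.EvQ.locQ_of_rep K742.nice_lft hE₁.isStack.1 hT₁.isStack.1 hE₁.atlas hT₁.atlas _
      ((K742.nice_lft.overMap_iff _).2 ?_)
    have := Groth.Agent.Models.DVRGeneric.isOpenImmersion_generic R₁ (FractionRing R₁)
    change LocallyOfFiniteType (Spec.map (CommRingCat.ofHom (algebraMap R₁ (FractionRing R₁))))
    infer_instance
  let η₁ : ↥(Over.mk t₁).left := (⟨⊥, Ideal.isPrime_bot⟩ : PrimeSpectrum R₁)
  let E₁ : Over S := Over.mk (Spec.map (CommRingCat.ofHom (algebraMap R₁ (FractionRing R₁))) ≫ t₁)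
  let p₁ : ↥E₁.left := (⟨⊥, Ideal.isPrime_bot⟩ : PrimeSpectrum (FractionRing R₁))
  have hp₁ : (gen R₁ t₁).left p₁ = η₁ := by
    apply PrimeSpectrum.ext
    change (⊥ : Ideal (FractionRing R₁)).comap (algebraMap R₁ (FractionRing R₁)) = ⊥
    exact Ideal.comap_bot_of_injective _ (IsFractionRing.injective R₁ (FractionRing R₁))
  obtain ⟨R₂, _, _, _, φ₂, hφ₂, hφ₂', a₂, b₂, ⟨i₂⟩, hb₂⟩ := exists_dvr_fp h𝒳 M hM π hqc hqs h hft t₁
    ((yon S).map (ext t φ₁) ≫ m₂) hE₁ ha₀l (Points.ofChart (BasedFunctor.id (FibCat.overCat E₁)) p₁) (η := η₁) rfl (by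
      have h1 : Points.map (FibCat.fpFst (chart ((yon S).map (ext t φ₁) ≫ m₂)) π) (Points.map a₀
          (Points.ofChart (BasedFunctor.id (FibCat.overCat E₁)) p₁)) =
          Points.ofChart (BasedFunctor.comp a₀ (FibCat.fpFst (chart ((yon S).map (ext t φ₁) ≫ m₂)) π)) p₁ := rfl
      rw [h1, ha₀, ← hp₁]
      exact ofChart_overMap (gen R₁ t₁) (BasedFunctor.id _) p₁)
  let t₂ : Spec (CommRingCat.of R₂) ⟶ S := Spec.map (CommRingCat.ofHom φ₂) ≫ t₁
  obtain ⟨g₂, ⟨j₂⟩, hg₂⟩ := exists_map a₂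
  have hsq : g₂ ≫ gen R₁ t₁ = gen R₂ t₂ ≫ ext t₁ φ₂ := by
    obtain ⟨k₁⟩ := K735.Cart.exists_iso_overMap_comp g₂ (gen R₁ t₁)
    obtain ⟨k₂⟩ := K735.Cart.exists_iso_overMap_comp (gen R₂ t₂) (ext t₁ φ₂)
    obtain ⟨k₃⟩ := nonempty_iso_of_obj _ _ hb₂
    refine K734.Fib.eq_of_overMap_iso (k₁.symm.trans (((whiskerRightIso j₂ (overMap (gen R₁ t₁))).symm.trans ?_).trans k₂))
    refine Iso.trans ?_ ((whiskerRightIso i₂ (FibCat.fpFst (chart ((yon S).map (ext t φ₁) ≫ m₂)) π)).trans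
      (whiskerLeftIso (overMap (gen R₂ t₂)) k₃))
    exact eqToIso (congrArg (BasedFunctor.comp a₂) ha₀.symm)
  obtain ⟨hx₂, hx₂'⟩ := fibSec_of_functor ((yon S).map (ext t φ₁) ≫ m₂) b₂ (ext t₁ φ₂) hb₂ (Over.mk (𝟙 (Over.mk t₂)))
  obtain ⟨x₁', ψ', hψ'⟩ := K734.Fib.exists_lift hXf hx₁ (ext t₁ φ₂)
  let x₃ : 𝒳.p.Fiber (Over.mk t₂) := ⟨x₁', IsHomLift.domain_eq 𝒳.p (ext t₁ φ₂) ψ'⟩
  let E₂ : Over S := Over.mk (Spec.map (CommRingCat.ofHom (algebraMap R₂ (FractionRing R₂))) ≫ t₂)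
  let k₂ : (FibCat.overCat (Over.mk t₂)).obj := (overMap (gen R₂ t₂)).obj (Over.mk (𝟙 E₂))
  let x₂ : 𝒳.p.Fiber (Over.mk t₂) := ⟨(b₂.obj (Over.mk (𝟙 (Over.mk t₂)))).obj.snd, hx₂⟩
  -- the arrow to `x₂`
  have hf₂ : 𝒳.p.IsHomLift (gen R₂ t₂) ((BasedFunctor.comp b₂ (FibCat.fpSnd (chart ((yon S).map (ext t φ₁) ≫ m₂)) π)).map
      (K735.Fp.toId k₂)) := by
    have h0 : (FibCat.overCat (Over.mk t₂)).p.IsHomLift (gen R₂ t₂) (K735.Fp.toId k₂) :=
      IsHomLift.of_fac' (FibCat.overCat (Over.mk t₂)).p (gen R₂ t₂) (K735.Fp.toId k₂) rfl rfl (by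
        change 𝟙 _ ≫ gen R₂ t₂ = 𝟙 _ ≫ gen R₂ t₂ ≫ 𝟙 _
        rw [Category.comp_id])
    exact BasedFunctor.preserves_isHomLift _ _ _
  -- the arrow to `x₁`
  let j := whiskerRightIso i₂ (FibCat.fpSnd (chart ((yon S).map (ext t φ₁) ≫ m₂)) π)
  have hj := (vert_isoApp j (Over.mk (𝟙 E₂))).iso_inv
  obtain ⟨χ, hχ⟩ := exists_arrow (𝒳 := 𝒳) hXf z₁.2 (k := a₂.obj (Over.mk (𝟙 E₂))) (w := (b₂.obj k₂).obj.snd)
    ((isoApp j (Over.mk (𝟙 E₂))).inv ≫ eqToHom (by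
      change (BasedFunctor.comp a₀ (FibCat.fpSnd (chart ((yon S).map (ext t φ₁) ≫ m₂)) π)).obj _ = _
      rw [ha₀'])) (hj.comp (vert_eqToHom _)) _ (hg₂ _)
  have hχ' : 𝒳.p.IsHomLift (𝟙 _ ≫ g₂) χ := hχ
  rw [Category.id_comp] at hχ'
  have hχψ : 𝒳.p.IsHomLift (gen R₂ t₂ ≫ ext t₁ φ₂) (χ ≫ ψ₁) := by
    rw [← hsq]
    infer_instance
  obtain ⟨f₁, hf₁, -⟩ := K734.Fib.exists_fac' hXf hψ' hχψ
  have hx₃ : fibSec π x₃ = (J S).uliftYonedaEquiv ((yon S).map (ext t₁ φ₂ ≫ ext t φ₁) ≫ m₁) := by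
    rw [fibSec_of_lift π x₃ x₁ (ext t₁ φ₂) ψ' hψ' _ hx₁'', (yon S).map_comp, Category.assoc]
  have hx₄ : fibSec π x₂ = (J S).uliftYonedaEquiv ((yon S).map (ext t₁ φ₂ ≫ ext t φ₁) ≫ m₂) := by
    refine hx₂'.trans ?_
    change (J S).uliftYonedaEquiv ((yon S).map (𝟙 _ ≫ _) ≫ _) = _
    rw [Category.id_comp, (yon S).map_comp, Category.assoc]
    rfl
  refine ⟨R₂, inferInstance, inferInstance, inferInstance, φ₂.comp φ₁, t₂, ext t₁ φ₂ ≫ ext t φ₁, hφ₂.comp hφ₁,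
    inferInstance, ?_, x₃, x₂, hx₃, hx₄, (b₂.obj k₂).obj.snd, f₁, _, hf₁, hf₂⟩
  change Spec.map (CommRingCat.ofHom φ₂) ≫ Spec.map (CommRingCat.ofHom φ₁) = _
  rw [← Spec.map_comp, ← CommRingCat.ofHom_comp]

end Main

end K907.DvrLift
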