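import Groth.Prelude.Def_StMod2
import Groth.Agent.AlgSp.K618.QCPoint
import Groth.Agent.AlgSp.K594.Elem

/-!
# Products with a scheme étale over `M` in `ofSp M`, and the locus where two arrows agree

* `exists_prod` : for `m : (ofSp M).obj` and `E` étale over `M`, the product `m ×_M E` in the category `ofSp M`, étale over
  `m`; separated over `m` if `E` is affine; quasi-compact if `M` is quasi-separated;
* `exists_agree` : for `E` affine étale over `M` and `a b : m ⟶ etaOf E` there is an open and closed subset `W` of the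
  scheme under `m` such that `c ≫ a = c ≫ b` iff `c` lands in `W`.
-/

set_option autoImplicit false
set_option backward.isDefEq.respectTransparency false
set_option backward.isDefEq.respectTransparency.types false
set_option linter.unusedVariables false

universe u

open CategoryTheory CategoryTheory.Limits AlgebraicGeometry Opposite StMod AlgSt AlgSp

namespace K907.EtFib

open K594.Elem

variable {S : Scheme.{u}} {M : Sp S}

/-- The product of an object of `ofSp M` with an étale scheme over `M`. -/
theorem exists_prod (E : EtOver M) (m : (ofSp M).obj) :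
    ∃ (m' : (ofSp M).obj) (p : m' ⟶ m) (q : m' ⟶ etaOf E), Etale p.hom.left ∧
      (IsAffine E.obj.left.left → IsSeparated p.hom.left) ∧
      (IsQuasiSeparatedSp M → QuasiCompact E.obj.left.hom → QuasiCompact p.hom.left) ∧
      ∀ (n : (ofSp M).obj) (a : n ⟶ m) (b : n ⟶ etaOf E), ∃! c : n ⟶ m', c ≫ p = a ∧ c ≫ q = b := by
  obtain ⟨V, v, ⟨e⟩, hrep, hv⟩ := RepWith.exists_isRep E.property m.sec
  have hw : E.obj.hom.hom.app (op V) ⟨e⟩ = M.obj.map v.op m.sec := hrep.w
  rw [yonEquiv_apply] at hw
  let m' : (ofSp M).obj := ⟨V, M.obj.map v.op m.sec⟩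
  let p : m' ⟶ m := ⟨v, rfl⟩
  let q : m' ⟶ etaOf E := ⟨e, hw⟩
  refine ⟨m', p, q, hv, ?_, ?_, ?_⟩
  · intro hE
    let l : V.left ⟶ pullback m.base.hom E.obj.left.hom :=
      pullback.lift v.left e.left ((Over.w v).trans (Over.w e).symm)
    have hl : Mono l := by
      constructor
      intro T f g hfg
      have h1 : f ≫ v.left = g ≫ v.left := by
        have := congrArg (fun k => k ≫ pullback.fst _ _) hfg
        simpa [l] using this
      have h2 : f ≫ e.left = g ≫ e.left := by
        have := congrArg (fun k => k ≫ pullback.snd _ _) hfg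
        simpa [l] using this
      have h3 : f ≫ V.hom = g ≫ V.hom := by
        rw [← Over.w v, ← Category.assoc, h1, Category.assoc]
      let f' : Over.mk (f ≫ V.hom) ⟶ V := Over.homMk f rfl
      let g' : Over.mk (f ≫ V.hom) ⟶ V := Over.homMk g h3.symm
      have h4 : f' = g' := by
        apply hrep.inj
        · exact Over.OverMorphism.ext h1
        · exact congrArg ULift.up (Over.OverMorphism.ext h2 : f' ≫ e = g' ≫ e)
      exact congrArg (fun k => k.left) h4
    have h5 : l ≫ pullback.fst m.base.hom E.obj.left.hom = v.left := pullback.lift_fst _ _ _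
    have h6 : IsSeparated E.obj.left.hom := by
      have : IsSeparated (E.obj.left.hom ≫ terminal.from S) := by
        have h7 : E.obj.left.hom ≫ terminal.from S = terminal.from _ := Subsingleton.elim _ _
        rw [h7]
        infer_instance
      exact IsSeparated.of_comp E.obj.left.hom (terminal.from S)
    have h8 : IsSeparated (l ≫ pullback.fst m.base.hom E.obj.left.hom) := inferInstance
    rw [h5] at h8
    exact h8
  · intro hM hE
    have h1 := K618.QCPoint.repWith_quasiCompact_of_qs hM hE E.obj.hom
    exact RepWith.prop_of_isRep h1 hrep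
  · intro n a b
    have hn : E.obj.hom.hom.app (op n.base) ⟨b.hom⟩ = M.obj.map a.hom.op m.sec := by
      rw [yonEquiv_apply]
      exact b.map_sec.trans a.map_sec.symm
    obtain ⟨k, hk1, hk2⟩ := hrep.lift a.hom ⟨b.hom⟩ hn
    have hk3 : k ≫ e = b.hom := congrArg ULift.down hk2
    refine ⟨⟨k, ?_⟩, ⟨?_, ?_⟩, ?_⟩
    · change M.obj.map k.op (M.obj.map v.op m.sec) = n.sec
      rw [← map_comp_apply, hk1]
      exact a.map_sec
    · exact Stk.EltObj.hom_ext hk1
    · exact Stk.EltObj.hom_ext hk3
    · rintro c ⟨hc1, hc2⟩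
      apply Stk.EltObj.hom_ext
      apply hrep.inj
      · rw [hk1]
        exact congrArg Stk.EltObj.Hom.hom hc1
      · change (⟨c.hom ≫ e⟩ : ULift _) = ⟨k ≫ e⟩
        rw [hk3]
        exact congrArg ULift.up (congrArg Stk.EltObj.Hom.hom hc2)

/-- The locus where two morphisms to a scheme étale and separated over the base agree is open and closed. -/
theorem exists_agree_sch {T U V : Scheme.{u}} (v : V ⟶ U) [Etale v] [IsSeparated v] (s t : T ⟶ V)
    (h : s ≫ v = t ≫ v) : ∃ W : T.Opens, IsClosed (W : Set T) ∧
      ∀ {R : Scheme.{u}} (c : R ⟶ T), c ≫ s = c ≫ t ↔ Set.range c ⊆ (W : Set T) := by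
  let l : T ⟶ pullback v v := pullback.lift s t h
  have h1 : IsOpenImmersion (pullback.diagonal v) := inferInstance
  have h2 : IsClosedImmersion (pullback.diagonal v) := inferInstance
  refine ⟨l ⁻¹ᵁ (pullback.diagonal v).opensRange, ?_, ?_⟩
  · have h3 : IsClosed (Set.range (pullback.diagonal v)) := (pullback.diagonal v).isClosedEmbedding.isClosed_range
    exact h3.preimage l.continuous
  · intro R c
    constructor
    · intro hc
      have h4 : c ≫ l = (c ≫ s) ≫ pullback.diagonal v := by
        apply pullback.hom_ext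
        · simp [l]
        · simp [l, hc]
      rintro _ ⟨x, rfl⟩
      change l (c x) ∈ (pullback.diagonal v).opensRange
      refine ⟨(c ≫ s) x, ?_⟩
      have := congrArg (fun k => k x) h4
      exact this.symm
    · intro hc
      have h5 : Set.range (c ≫ l) ⊆ Set.range (pullback.diagonal v) := by
        rintro _ ⟨x, rfl⟩
        exact hc ⟨x, rfl⟩
      have h6 := IsOpenImmersion.lift_fac (pullback.diagonal v) (c ≫ l) h5
      have h7 := congrArg (fun k => k ≫ pullback.fst v v) h6
      have h8 := congrArg (fun k => k ≫ pullback.snd v v) h6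
      simp only [Category.assoc, pullback.diagonal_fst, pullback.diagonal_snd, Category.comp_id] at h7 h8
      rw [show c ≫ s = c ≫ l ≫ pullback.fst v v by simp [l], show c ≫ t = c ≫ l ≫ pullback.snd v v by simp [l],
        ← h7, ← h8]

/-- The locus where two arrows to an affine étale scheme over `M` agree. -/
theorem exists_agree (E : EtOver M) (hE : IsAffine E.obj.left.left) {m : (ofSp M).obj} (a b : m ⟶ etaOf E) :
    ∃ W : m.base.left.Opens, IsClosed (W : Set m.base.left) ∧
      ∀ {n : (ofSp M).obj} (c : n ⟶ m), c ≫ a = c ≫ b ↔ Set.range c.hom.left ⊆ (W : Set m.base.left) := by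
  obtain ⟨m', p, q, h1, h2, -, h3⟩ := exists_prod E m
  have h4 := h2 hE
  obtain ⟨s, ⟨hs1, hs2⟩, hs3⟩ := h3 m (𝟙 m) a
  obtain ⟨t, ⟨ht1, ht2⟩, ht3⟩ := h3 m (𝟙 m) b
  have e1 : s.hom.left ≫ p.hom.left = t.hom.left ≫ p.hom.left := by
    have := congrArg (fun k : m ⟶ m => CommaMorphism.left (Stk.EltObj.Hom.hom k)) (hs1.trans ht1.symm)
    exact this
  obtain ⟨W, hW1, hW2⟩ := exists_agree_sch p.hom.left s.hom.left t.hom.left e1
  refine ⟨W, hW1, fun {n} c => ?_⟩
  rw [← hW2 c.hom.left]
  constructor
  · intro h
    have h5 : c ≫ s = c ≫ t := by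
      obtain ⟨k, -, hk⟩ := h3 n c (c ≫ a)
      rw [hk (c ≫ s) ⟨by rw [Category.assoc, hs1, Category.comp_id], by rw [Category.assoc, hs2]⟩,
        hk (c ≫ t) ⟨by rw [Category.assoc, ht1, Category.comp_id], by rw [Category.assoc, ht2, h]⟩]
    exact congrArg (fun k : n ⟶ m' => CommaMorphism.left (Stk.EltObj.Hom.hom k)) h5
  · intro h
    have h5 : c ≫ s = c ≫ t := Stk.EltObj.hom_ext (Over.OverMorphism.ext h)
    rw [← hs2, ← ht2, ← Category.assoc, h5, Category.assoc]

end K907.EtFib
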