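import Groth.Agent.StMod.K906.L1g
import Groth.Agent.StMod.K906.Atlas
import Groth.Agent.StMod.K908.DenseSurj
import Groth.Agent.StMod.K908.Leray
import Groth.Agent.StMod.K784.LiftQ
import Groth.Agent.StMod.K784.BC2
import Groth.Agent.StMod.K907.GoodFp
import Groth.Agent.AlgSt.K739.Alg

/-!
# Composites of cohomologically affine morphisms and products over a good moduli space

* `isCohAffine_comp`: for `p : 𝒴 ⟶ 𝒳` with flat base change and exact over affine objects, and `π : 𝒳 ⟶ M`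
  cohomologically affine, the composite is cohomologically affine.
* `unitIsIso_comp`.
* `isGoodModuli_fp`: `𝒳 ×_M 𝒳 ⟶ M` is a good moduli space.
-/

set_option autoImplicit false
set_option linter.unusedVariables false
set_option linter.style.haveILetI false
set_option backward.isDefEq.respectTransparency false
set_option backward.isDefEq.respectTransparency.types false

universe t w' v' w v u

open CategoryTheory CategoryTheory.Limits AlgebraicGeometry Opposite StMod AlgSt AlgSp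
open Groth.Agent.CohqA.BaseChangeMod

namespace K907.GoodProd

open K906 K907.Sec K907.Atl K907.Alg K907.QDesc K907.Quot K908.AMod K908.Push K907 K907.L1 K784.Geo K908.QHom

variable {S : Scheme.{u}} {𝒳 : BasedCategory.{v, w} (Over S)} {𝒴 : BasedCategory.{v', w'} (Over S)}

set_option linter.unusedSectionVars false

section Leray

variable {𝒵 : BasedCategory.{u, u + 1} (Over S)} [hX : FibCat.IsFibGrpd 𝒳.p] [hY : FibCat.IsFibGrpd 𝒴.p]
  (p : 𝒴 ⥤ᵇ 𝒳) (π : 𝒳 ⥤ᵇ 𝒵)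

/-- Sections of the pushforward along the composite from sections of a pushforward. -/
theorem exists_leray {F : QCoh 𝒴} {A : QCoh 𝒳} (P : PushEv p F.obj A.obj) (η : 𝒵.obj) (t : Mod.RelSect π A.obj η) :
    ∃ s : Mod.RelSect (BasedFunctor.comp p π) F.obj η,
      ∀ (x : 𝒴.obj) (h : IsAffine (sch 𝒴 x)) (γ : π.obj (p.obj x) ⟶ η),
        s.1 x γ = (P.ev (p.obj x) (K908.Leray.isAffine_obj p h) (t.1 (p.obj x) γ)).1 x (𝟙 _) := by
  obtain ⟨s, hs⟩ := exists_relSect (C := ASieve.all 𝒴) K908.Fam.zloc_all (BasedFunctor.comp p π) F η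
    (fun θ γ => (P.ev (p.obj θ.obj) (K908.Leray.isAffine_obj p θ.property) (t.1 (p.obj θ.obj) γ)).1 θ.obj (𝟙 _)) (by
      intro θ' θ φ γ
      refine ((P.ev (p.obj θ.obj) (K908.Leray.isAffine_obj p θ.property) (t.1 (p.obj θ.obj) γ)).2 φ.hom (𝟙 _)).trans ?_
      have h1 : t.1 (p.obj θ'.obj) (π.map (p.map φ.hom) ≫ γ) = A.obj.mapTop (p.map φ.hom) (t.1 (p.obj θ.obj) γ) :=
        (t.2 (p.map φ.hom) γ).symm
      change _ = (P.ev (p.obj θ'.obj) _ (t.1 (p.obj θ'.obj) (π.map (p.map φ.hom) ≫ γ))).1 θ'.obj (𝟙 _)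
      rw [h1, P.comm (p.map φ.hom) (K908.Leray.isAffine_obj p θ'.property) (K908.Leray.isAffine_obj p θ.property),
        relRes_val, Category.comp_id, Category.id_comp])
  exact ⟨s, fun x h γ => hs ⟨x, h⟩ γ⟩

end Leray

section Main

variable [hX : FibCat.IsFibGrpd 𝒳.p] [hY : FibCat.IsFibGrpd 𝒴.p] {M : Sp S} (p : 𝒴 ⥤ᵇ 𝒳) (π : 𝒳 ⥤ᵇ ofSp M)

/-- Composites of cohomologically affine morphisms. -/
theorem isCohAffine_comp (T : SmAtlas 𝒳)
    (hRel : ∀ (F : QCoh 𝒴) {z' z : 𝒳.obj} (g : z' ⟶ z), IsAffine (sch 𝒳 z') → IsAffine (sch 𝒳 z) →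
      Flat (bmap 𝒳 g) → RelBC p F.obj g)
    (hsur : ∀ {F G : QCoh 𝒴} (u : F ⟶ G), Mod.IsSurj u.hom → ∀ z : 𝒳.obj, IsAffine (sch 𝒳 z) →
      Function.Surjective (Mod.relSectMap p u.hom z))
    (hπ : IsCohAffine π) : IsCohAffine (BasedFunctor.comp p π) := by
  intro F F' u hu E hE s'
  let Q : FAtlas.{u} 𝒳 := FAtlas.ofSm T
  have hZ : SmCov T.Z := smCov_of_smAtlas T
  obtain ⟨A, P, hP⟩ := PushFl.exists_pushEv p hX Q F (hRel F)
  obtain ⟨A', P', hP'⟩ := PushFl.exists_pushEv p hX Q F' (hRel F')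
  have hH : K784.Tr.FC (fun _ => True) (PushFl.relPM p F'.obj) := K784.Tr.FC.of_flatCart fun x z φ hφ =>
    PushFl.isBC_of_relBC (hRel F' φ.hom x.property z.property ((fl_iff φ).1 hφ))
  obtain ⟨t, ht⟩ := exists_lift_qcoh hX Q hH (fun _ => trivial) (F := A) (G := A')
    (fun z _ => P'.ev z.obj z.property) (fun x z φ _ _ m => P'.comm φ.hom x.property z.property m)
    (fun z _ j b hb => hP' z.obj z.property j b.hom ((fl_iff b).1 hb))
    (fun z _ => (Mod.relSectMap p u.hom z.obj).comp (P.ev z.obj z.property))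
    (fun x z φ _ _ m => by
      change Mod.relSectMap p u.hom x.obj (P.ev x.obj x.property (A.obj.mapTop φ.hom m)) = _
      rw [P.comm φ.hom x.property z.property m]
      rfl)
  have ht' : ∀ (z : 𝒳.obj) (hz : IsAffine (sch 𝒳 z)) (m : Γ(A.obj.obj z, ⊤)),
      P'.ev z hz ((t.app z).app ⊤ m) = Mod.relSectMap p u.hom z (P.ev z hz m) := fun z hz m =>
    ht ⟨z, hz⟩ trivial m
  have hid : ∀ z : 𝒳.obj, Flat (bmap 𝒳 (𝟙 z)) := fun z => by rw [bmap_id]; infer_instance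
  -- surjectivity
  have hsurj : Mod.IsSurj t := by
    refine K908.Dense.isSurj_of_dense Q.dense t fun ζ => ?_
    obtain ⟨j, ⟨b⟩⟩ := ζ.property.2
    have h1 : Function.Surjective (gsMap t (Q.Z j)) := by
      intro y
      obtain ⟨s, hs⟩ := hsur u hu (Q.Z j).obj (Q.Z j).property (P'.ev (Q.Z j).obj (Q.Z j).property y)
      obtain ⟨a, ha⟩ := (hP (Q.Z j).obj (Q.Z j).property j (𝟙 _) (hid _)).2 s
      refine ⟨a, (hP' (Q.Z j).obj (Q.Z j).property j (𝟙 _) (hid _)).1 ?_⟩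
      rw [gsMap_apply, ht', ha]
      exact hs
    let z₁ : (Aff 𝒳).obj := ⟨ζ.obj, ζ.property.1⟩
    let b' : z₁ ⟶ Q.Z j := ObjectProperty.homMk b
    exact (gs_cart A b').map_surjective (gs_cart A' b') (gsMap t (Q.Z j)) (gsMap t z₁) (gsMap_nat t b') h1
  -- the section of the pushforward
  have hgen := Gen.genCl_fib hX π E hE hZ
  haveI : FibCat.IsFibGrpd (K906.fibCat π (etaOf E)).p := isFibGrpd_fibCat hX
  have hbij : ∀ (y : (K906.fibCat π (etaOf E)).obj) (hy : Gen.FlCl π E T.Z y),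
      Function.Bijective (P'.ev (FObj.pt y) hy.1) := fun y hy =>
    hP' (FObj.pt y) hy.1 hy.2.choose hy.2.choose_spec.choose hy.2.choose_spec.choose_spec
  obtain ⟨g, hg⟩ := hgen.exists_globSect (ResPt.resQ π (etaOf E) A')
    (fun y hy => (LinearEquiv.ofBijective (P'.ev (FObj.pt y) hy.1) (hbij y hy)).symm
      (K908.Leray.toRel π (etaOf E) s' (FObj.pt y) (FObj.arr y)))
    (fun y' y φ hy' hy => by
      apply (hbij y' hy').1
      have e1 : P'.ev (FObj.pt y') hy'.1 ((LinearEquiv.ofBijective (P'.ev (FObj.pt y') hy'.1) (hbij y' hy')).symm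
          (K908.Leray.toRel π (etaOf E) s' (FObj.pt y') (FObj.arr y'))) =
          K908.Leray.toRel π (etaOf E) s' (FObj.pt y') (FObj.arr y') :=
        (LinearEquiv.ofBijective (P'.ev (FObj.pt y') hy'.1) (hbij y' hy')).apply_symm_apply _
      have e2 : P'.ev (FObj.pt y) hy.1 ((LinearEquiv.ofBijective (P'.ev (FObj.pt y) hy.1) (hbij y hy)).symm
          (K908.Leray.toRel π (etaOf E) s' (FObj.pt y) (FObj.arr y))) =
          K908.Leray.toRel π (etaOf E) s' (FObj.pt y) (FObj.arr y) :=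
        (LinearEquiv.ofBijective (P'.ev (FObj.pt y) hy.1) (hbij y hy)).apply_symm_apply _
      rw [e1]
      change P'.ev (FObj.pt y') hy'.1 (A'.obj.mapTop (FObj.Hom.hom φ) _) = _
      rw [P'.comm (FObj.Hom.hom φ) hy'.1 hy.1, e2]
      apply Mod.RelSect.ext
      intro θ α
      rw [relRes_val, K908.Leray.toRel_val, K908.Leray.toRel_val, Functor.map_comp, Category.assoc, φ.comm])
  let t' : Mod.RelSect π A'.obj (etaOf E) := ResPt.ofGlob g
  -- its values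
  have hval₀ : ∀ (y : (K906.fibCat π (etaOf E)).obj) (hy : Gen.FlCl π E T.Z y),
      P'.ev (FObj.pt y) hy.1 (t'.1 (FObj.pt y) (FObj.arr y)) =
        K908.Leray.toRel π (etaOf E) s' (FObj.pt y) (FObj.arr y) := by
    intro y hy
    have e1 : t'.1 (FObj.pt y) (FObj.arr y) = _ := hg y hy
    rw [e1]
    exact (LinearEquiv.ofBijective (P'.ev (FObj.pt y) hy.1) (hbij y hy)).apply_symm_apply _
  have hnat : ∀ {y' y : (K906.fibCat π (etaOf E)).obj} (φ : y' ⟶ y),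
      K908.Leray.toRel π (etaOf E) s' (FObj.pt y') (FObj.arr y') =
        relRes p F'.obj (FObj.Hom.hom φ) (K908.Leray.toRel π (etaOf E) s' (FObj.pt y) (FObj.arr y)) := by
    intro y' y φ
    apply Mod.RelSect.ext
    intro θ α
    rw [relRes_val, K908.Leray.toRel_val, K908.Leray.toRel_val, Functor.map_comp, Category.assoc, φ.comm]
  have hnat' : ∀ {y' y : (K906.fibCat π (etaOf E)).obj} (φ : y' ⟶ y),
      t'.1 (FObj.pt y') (FObj.arr y') = A'.obj.mapTop (FObj.Hom.hom φ) (t'.1 (FObj.pt y) (FObj.arr y)) := by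
    intro y' y φ
    rw [t'.2 (FObj.Hom.hom φ) (FObj.arr y), φ.comm]
  have hval : ∀ (y : (K906.fibCat π (etaOf E)).obj) (hy : IsAffine (sch 𝒳 (FObj.pt y))),
      P'.ev (FObj.pt y) hy (t'.1 (FObj.pt y) (FObj.arr y)) =
        K908.Leray.toRel π (etaOf E) s' (FObj.pt y) (FObj.arr y) := by
    intro y hy
    obtain ⟨x', f, w, e, h1, h2, h3⟩ := hgen.cov y hy
    have h1' : IsAffine (sch 𝒳 (FObj.pt x')) := h1
    have h4 : P'.ev (FObj.pt x') h1' (t'.1 (FObj.pt x') (FObj.arr x')) =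
        K908.Leray.toRel π (etaOf E) s' (FObj.pt x') (FObj.arr x') := by
      rw [hnat e, hnat' e, P'.comm (FObj.Hom.hom e) h1' h3.1, hval₀ w h3]
    have hinj := hH.injective (φ := (ObjectProperty.homMk (FObj.Hom.hom f) : (⟨FObj.pt x', h1'⟩ : (Aff 𝒳).obj) ⟶ ⟨FObj.pt y, hy⟩))
      ((ff_iff _).2 ⟨h2.flat, h2.surj⟩) trivial
    apply hinj
    change relRes p F'.obj (FObj.Hom.hom f) _ = relRes p F'.obj (FObj.Hom.hom f) _
    rw [← hnat f, ← P'.comm (FObj.Hom.hom f) h1' hy, ← hnat' f, h4]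
  obtain ⟨tt, htt⟩ := hπ (F := A) (G := A') ⟨t⟩ hsurj E hE t'
  obtain ⟨s, hs⟩ := exists_leray p π P (etaOf E) tt
  refine ⟨s, relSect_ext (C := ASieve.all 𝒴) K908.Fam.zloc_all _ F' (etaOf E) fun θ γ => ?_⟩
  have hθ := K908.Leray.isAffine_obj p θ.property
  rw [Mod.relSectMap_val]
  refine (congrArg (fun k => (u.hom.app θ.obj).app ⊤ k) (hs θ.obj θ.property γ)).trans ?_
  have e2 : (u.hom.app θ.obj).app ⊤ ((P.ev (p.obj θ.obj) hθ (tt.1 (p.obj θ.obj) γ)).1 θ.obj (𝟙 _)) =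
      (P'.ev (p.obj θ.obj) hθ ((t.app _).app ⊤ (tt.1 (p.obj θ.obj) γ))).1 θ.obj (𝟙 _) := by
    rw [ht', Mod.relSectMap_val]
  rw [e2]
  have e3 : (t.app _).app ⊤ (tt.1 (p.obj θ.obj) γ) = t'.1 (p.obj θ.obj) γ :=
    congrArg (fun k : Mod.RelSect π A'.obj (etaOf E) => k.1 (p.obj θ.obj) γ) htt
  rw [e3]
  have e4 := hval (⟨p.obj θ.obj, γ⟩ : FObj π (etaOf E)) hθ
  refine (congrArg (fun k : Mod.RelSect p F'.obj (p.obj θ.obj) => k.1 θ.obj (𝟙 _)) e4).trans ?_
  rw [K908.Leray.toRel_val, CategoryTheory.Functor.map_id]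
  exact congrArg (s'.1 θ.obj) (Category.id_comp γ)


end Main

section Unit

variable {M : Sp S} (p : 𝒴 ⥤ᵇ 𝒳) (π : 𝒳 ⥤ᵇ ofSp M)

/-- Restriction of a section along the composite. -/
def toRel {𝒵 : BasedCategory.{u, u + 1} (Over S)} (π : 𝒳 ⥤ᵇ 𝒵) {F : Mod 𝒴} {η : 𝒵.obj}
    (s : Mod.RelSect (BasedFunctor.comp p π) F η) (ξ : 𝒳.obj) (β : π.obj ξ ⟶ η) : Mod.RelSect p F ξ :=
  ⟨fun θ α => s.1 θ (π.map α ≫ β), fun θ' θ φ α => by
    refine (s.2 φ (π.map α ≫ β)).trans ?_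
    change s.1 θ' (π.map (p.map φ) ≫ π.map α ≫ β) = s.1 θ' (π.map (p.map φ ≫ α) ≫ β)
    rw [Functor.map_comp, Category.assoc]⟩

theorem baseOver_comp {𝒵 : BasedCategory.{u, u + 1} (Over S)} (π : 𝒳 ⥤ᵇ 𝒵) {η : 𝒵.obj} (θ : 𝒴.obj) {ξ : 𝒳.obj}
    (α : p.obj θ ⟶ ξ) (β : π.obj ξ ⟶ η) :
    baseOver (BasedFunctor.comp p π) θ (π.map α ≫ β) = baseOver p θ α ≫ baseOver π ξ β := by
  have h1 : baseOver (BasedFunctor.comp p π) θ (π.map α ≫ β) = baseOver (BasedFunctor.comp p π) θ (π.map (p.map (𝟙 θ) ≫ α) ≫ β) := by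
    rw [p.map_id, Category.id_comp]
  simp [baseOver, K735.Fib.map_map]

theorem unitSect_toRel {𝒵 : BasedCategory.{u, u + 1} (Over S)} (π : 𝒳 ⥤ᵇ 𝒵) {η : 𝒵.obj} (r : Γ(sch 𝒵 η, ⊤))
    (ξ : 𝒳.obj) (β : π.obj ξ ⟶ η) :
    toRel p π (unitSect (BasedFunctor.comp p π) η r) ξ β = unitSect p ξ ((baseOver π ξ β).left.appTop r) := by
  apply Mod.RelSect.ext
  intro θ α
  change (baseOver (BasedFunctor.comp p π) θ (π.map α ≫ β)).left.appTop r =
    (baseOver p θ α).left.appTop ((baseOver π ξ β).left.appTop r)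
  rw [baseOver_comp]
  simp

/-- Composites of morphisms with `O ≅ f_* O`. -/
theorem unitIsIso_comp (hp : ∀ z : 𝒳.obj, Function.Bijective (unitSect p z)) (hπ : UnitIsIso π) :
    UnitIsIso (BasedFunctor.comp p π) := by
  intro E
  constructor
  · intro r r' hrr
    apply (hπ E).1
    apply Mod.RelSect.ext
    intro ξ β
    apply (hp ξ).1
    change unitSect p ξ ((baseOver π ξ β).left.appTop r) = unitSect p ξ ((baseOver π ξ β).left.appTop r')
    rw [← unitSect_toRel, ← unitSect_toRel, hrr]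
  · intro s
    have ha : ∀ (ξ : 𝒳.obj) (β : π.obj ξ ⟶ etaOf E), ∃ a, unitSect p ξ a = toRel p π s ξ β := fun ξ β => (hp ξ).2 _
    choose a ha using ha
    obtain ⟨r, hr⟩ := (hπ E).2 ⟨fun ξ β => a ξ β, fun ξ' ξ φ β => by
      apply (hp ξ').1
      rw [ha, O_mapTop]
      apply Mod.RelSect.ext
      intro θ α
      have h1 := congrArg (fun k : (O 𝒴).RelSect p ξ => k.1 θ (α ≫ φ)) (ha ξ β)
      change (baseOver p θ (α ≫ φ)).left.appTop (a ξ β) = s.1 θ (π.map (α ≫ φ) ≫ β) at h1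
      change (baseOver p θ α).left.appTop ((bmap 𝒳 φ).appTop (a ξ β)) = s.1 θ (π.map α ≫ π.map φ ≫ β)
      rw [← Category.assoc, ← Functor.map_comp, ← h1, StMod.baseOver_comp, Over.comp_left, Scheme.Hom.comp_appTop]
      rfl⟩
    refine ⟨r, ?_⟩
    apply Mod.RelSect.ext
    intro θ γ
    have h2 : (baseOver π (p.obj θ) γ).left.appTop r = a (p.obj θ) γ :=
      congrArg (fun k : (O 𝒳).RelSect π (etaOf E) => k.1 (p.obj θ) γ) hr
    have h3 : toRel p π (unitSect (BasedFunctor.comp p π) (etaOf E) r) (p.obj θ) γ = toRel p π s (p.obj θ) γ := by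
      rw [unitSect_toRel, h2, ha]
    have h4 : (unitSect (BasedFunctor.comp p π) (etaOf E) r).1 θ (π.map (𝟙 _) ≫ γ) = s.1 θ (π.map (𝟙 _) ≫ γ) :=
      congrArg (fun k : (O 𝒴).RelSect p (p.obj θ) => k.1 θ (𝟙 _)) h3
    have h5 : π.map (𝟙 (p.obj θ)) ≫ γ = γ := by
      rw [CategoryTheory.Functor.map_id]
      exact Category.id_comp γ
    have h6 := (congrArg ((unitSect (BasedFunctor.comp p π) (etaOf E) r).1 θ) h5).symm.trans (h4.trans (congrArg (s.1 θ) h5))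
    exact h6

end Unit

/-- (H) `𝒳 ×_M 𝒳 ⟶ M` is a good moduli space. -/
theorem isGoodModuli_fp {S : Scheme.{u}} [QuasiSeparatedSpace S] {𝒳 : AlgSt.Cat S}
    (h𝒳 : AlgSt.IsAlgStack Scheme.fppfPrecoverage 𝒳) (M : Space S) (hM : IsQuasiSeparatedSp M.obj) (π : 𝒳 ⥤ᵇ ofSp M.obj)
    (hqc : IsQuasiCompactMor Scheme.fppfPrecoverage π) (hqs : IsQuasiSeparatedMor π) (h : IsGoodModuli π) :
    IsQuasiCompactMor Scheme.fppfPrecoverage (BasedFunctor.comp (FibCat.fpFst π π) π) ∧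
      IsQuasiSeparatedMor (BasedFunctor.comp (FibCat.fpFst π π) π) ∧
      IsGoodModuli (BasedFunctor.comp (FibCat.fpFst π π) π) := by
  have hAM := K740.SpDM.isAlgStack_ofSp M.property
  have hfp := K907.GoodFp.isAlgStack_fp h𝒳 M π h𝒳 π
  have hXf := h𝒳.isStack.1
  have hYf := hfp.isStack.1
  haveI := hXf
  haveI := hYf
  obtain ⟨T⟩ := K906.nonempty_smAtlas hXf h𝒳.atlas
  refine ⟨K742.QC.isQuasiCompactMor_comp hfp h𝒳 hAM _ _ (K742.QC.isQuasiCompactMor_fpFst h𝒳 hAM h𝒳 π π hqc) hqc,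
    K739.DiagComp.repByAlgSpWith_diag_comp hYf hXf hAM.isStack.1 _ π K739.Props.bc_qcqs K739.Props.comp_qcqs
      K739.Props.fppfDesc_qcqs.etDesc
      (K739.Sect.repByAlgSpWith_diag_fpFst π π hXf hAM.isStack.1 hXf hYf hqs) hqs, ?_, ?_⟩
  · refine isCohAffine_comp (FibCat.fpFst π π) π T ?_ ?_ h.1
    · intro F z' z g h' hz hg
      obtain ⟨P⟩ := K907.GoodFp.nonempty_pres_fp h𝒳 M π hqc hqs h𝒳 π hz
      exact FBC.relBC_of_pres hYf hXf g hz h' hg P F
    · intro F G u hu z hz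
      obtain ⟨P⟩ := K907.GoodFp.nonempty_pres_fp h𝒳 M π hqc hqs h𝒳 π hz
      exact K907.TermE.surjective_fp hXf hXf M.property π π (fun E hE => (GM.exact_and_pres h𝒳 hM hqc hqs h.1 E hE).1) hz P u hu
  · exact unitIsIso_comp (FibCat.fpFst π π) π (fun z =>
      (K906.Comap.unitSect_bijective_iff π π FibTerm.isFibGrpd_ofSp hXf z).1
        (UnitAll.bijective_unitSect h𝒳 M hM π hqc hqs h _)) h.2

end K907.GoodProd
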