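import Groth.Agent.StMod.K907.GoodFp
import Groth.Agent.StMod.K907.DiagPt
import Groth.Agent.AlgSt.K736.FinDiag
import Groth.Agent.AlgSt.K736.Prod
import Groth.Agent.AlgSt.K736.QC
import Groth.Agent.AlgSt.K741.QcqsS
import Groth.Agent.AlgSt.K742.ImmLN
import Groth.Agent.AlgSt.K742.EvQ
import Groth.Agent.Gerb.K895.SubTop
import Groth.Agent.S12835
import Groth.Agent.S12867

/-!
# Reduced one-point closed substacks

* `isQuasiSeparatedOver_overCat`, `isQuasiSeparatedOver_fp`.
* `locNoeth_fp`: the fibre of a locally Noetherian stack over a point locally of finite type.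
* `exists_closedSub`: a nonempty quasi-compact quasi-separated stack has a reduced closed substack with one point.
-/

set_option autoImplicit false
set_option linter.unusedVariables false
set_option linter.style.haveILetI false
set_option backward.isDefEq.respectTransparency false
set_option backward.isDefEq.respectTransparency.types false

universe t w' v' w v u

open CategoryTheory CategoryTheory.Limits AlgebraicGeometry Opposite StMod AlgSt AlgSp

namespace K907.OnePt

open K907.Sec K907.DiagPt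

variable {S : Scheme.{u}}

/-- Quasi-separated schemes over `S` are quasi-separated. -/
theorem isQuasiSeparatedOver_overCat (T : Over S) [QuasiSeparated T.hom] : IsQuasiSeparatedOver (FibCat.overCat T) := by
  have h1 : RepByAlgSpWith IsQuasiSeparatedMor (FibCat.toSelf (FibCat.overCat T)) := by
    refine K736.FinDiag.repByAlgSpWith_toSelf_overCat K739.Props.bc_qs ?_
    rw [AlgSp.isQuasiSeparatedMor_yon_map_iff]
    have : (Over.mkIdTerminal.from T).left = T.hom := by
      have := Over.w (Over.mkIdTerminal.from T)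
      simp
    rw [this]
    infer_instance
  exact (K738.isQuasiSeparatedMor_iff (K735.Rep.repByAlgSp1_of_with h1)).2 h1

/-- A quasi-separated stack over a quasi-separated stack is quasi-separated. -/
theorem isQuasiSeparatedOver_of {𝒳 𝒴 : AlgSt.Cat S} (h𝒳 : FibCat.IsFibGrpd 𝒳.p) (h𝒴 : FibCat.IsFibGrpd 𝒴.p)
    (f : 𝒳 ⥤ᵇ 𝒴) (hf : AlgSt.IsQuasiSeparatedMor f) (h : IsQuasiSeparatedOver 𝒴) : IsQuasiSeparatedOver 𝒳 :=
  K739.DiagComp.repByAlgSpWith_diag_congr (K734.Rep.isoSelfOver _ (BasedFunctor.comp f (FibCat.toSelf 𝒴)))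
    h𝒳 K735.Fp.isFibGrpd_selfOver <| K739.DiagComp.repByAlgSpWith_diag_comp h𝒳 h𝒴 K735.Fp.isFibGrpd_selfOver f (FibCat.toSelf 𝒴)
    K739.Props.bc_qcqs K739.Props.comp_qcqs K739.Props.fppfDesc_qcqs.etDesc hf h

/-- A quasi-compact quasi-separated stack has a reduced closed substack with one point. -/
theorem exists_closedSub [QuasiSeparatedSpace S] {𝒲 : AlgSt.Cat S} (h𝒲 : IsAlgStack Scheme.fppfPrecoverage 𝒲)
    (hN : SmoothLocally (fun T => IsLocallyNoetherian T) 𝒲)
    (hqs : IsQuasiSeparatedOver 𝒲) (hqc : AlgSt.IsQuasiCompact 𝒲) [Nonempty (Points 𝒲)] :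
    ∃ Q : 𝒲.obj → Prop, IsClosedSubstack 𝒲 Q Scheme.fppfPrecoverage ∧
      Nonempty (Points (fullSub 𝒲 Q)) ∧ Subsingleton (Points (fullSub 𝒲 Q)) ∧
      SmoothLocally (fun X => IsReduced X) (fullSub 𝒲 Q) ∧
      SmoothLocally (fun T => IsLocallyNoetherian T) (fullSub 𝒲 Q) ∧ IsQuasiSeparatedOver (fullSub 𝒲 Q) := by
  obtain ⟨-, -, hT0⟩ := Groth.Agent.S12835.result h𝒲 (K738.repByAlgSpWith_mono hqs fun _ h => h.1)
  have hcs : CompactSpace (Points 𝒲) := (K736.QC.isQuasiCompact_iff h𝒲).1 hqc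
  obtain ⟨x, hx⟩ : ∃ x : Points 𝒲, IsClosed ({x} : Set (Points 𝒲)) := by
    obtain ⟨x, -, hx⟩ := IsClosed.exists_closed_singleton (S := (Set.univ : Set (Points 𝒲))) isClosed_univ Set.univ_nonempty
    exact ⟨x, hx⟩
  obtain ⟨Q, hQ, hr, hred⟩ := Groth.Agent.S12867.result h𝒲 {x} hx
  have hemb := K895.SubTop.isClosedEmbedding_subIncl h𝒲 hQ
  have himm : IsImm (subIncl 𝒲 Q) := K738.repByAlgSpWith_mono hQ.2.2 fun _ h =>
    K609.Points.repWith_mono (P := @IsClosedImmersion) (Q := @IsImmersion)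
      (fun k hk => by have : IsClosedImmersion k := hk; infer_instance) h
  refine ⟨Q, hQ, ?_, ⟨fun a b => hemb.injective ?_⟩, hred, ?_, ?_⟩
  · have : x ∈ Set.range (Points.map (subIncl 𝒲 Q)) := by
      rw [hr]
      rfl
    obtain ⟨z, -⟩ := this
    exact ⟨z⟩
  · have h1 : ∀ c, Points.map (subIncl 𝒲 Q) c = x := fun c => by
      have : Points.map (subIncl 𝒲 Q) c ∈ Set.range (Points.map (subIncl 𝒲 Q)) := ⟨c, rfl⟩
      rw [hr] at this
      exact this
    rw [h1, h1]
  · exact K742.LN.smoothLocally_LN_of_lft hQ.2.1.isStack.1 (subIncl 𝒲 Q)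
      (K742.LN.locQ_lft_of_isImm hQ.2.1 h𝒲 _ himm) hN
  · exact K742.LN.isQuasiSeparatedOver_of_isImm hQ.2.1.isStack.1 h𝒲.isStack.1 _ himm hqs

end K907.OnePt
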