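import Groth.Agent.StMod.K907.Sec

/-!
# Descent of submodules along an atlas

`Z : J → 𝒳.obj` a family of affine objects such that every affine object is covered by an affine object with an arrow
to some `Z j` (`Covers Z`); `K j ≤ Γ(F_{Z j})` a family of submodules which agree on every affine object with arrows to
two members of the family (`Compat`).  Then there is a unique family `all ξ ≤ Γ(F_ξ)` over all affine objects, stable under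
base change along every arrow.
-/

set_option autoImplicit false
set_option backward.isDefEq.respectTransparency false
set_option backward.isDefEq.respectTransparency.types false
set_option linter.style.haveILetI false
set_option linter.unusedVariables false

universe t w v u

open CategoryTheory CategoryTheory.Limits AlgebraicGeometry Opposite StMod

namespace K907.QDesc

open Groth.Agent.CohqA.BaseChangeMod K907.Alg K907.Sec

variable {S : Scheme.{u}} {𝒳 : BasedCategory.{v, w} (Over S)}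

/-- A covering of `ξ` by an affine object with an arrow to a member of the family `Z`. -/
structure Cov {J : Type t} (Z : J → 𝒳.obj) (ξ : 𝒳.obj) where
  /-- the covering object -/
  obj : 𝒳.obj
  aff : IsAffine (sch 𝒳 obj)
  /-- the covering arrow -/
  f : obj ⟶ ξ
  cov : IsFCov f
  /-- the index of the member of the family -/
  j : J
  /-- the arrow to the member of the family -/
  d : obj ⟶ Z j

attribute [instance] Cov.aff

/-- Every affine object is covered. -/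
def Covers {J : Type t} (Z : J → 𝒳.obj) : Prop := ∀ ξ : 𝒳.obj, IsAffine (sch 𝒳 ξ) → Nonempty (Cov Z ξ)

variable {J : Type t} {Z : J → 𝒳.obj} (F : QCoh 𝒳)

/-- A family of submodules of the sections over the members of the family. -/
abbrev Fam (Z : J → 𝒳.obj) (F : QCoh 𝒳) := ∀ j, Submodule Γ(sch 𝒳 (Z j), ⊤) Γ(F.obj.obj (Z j), ⊤)

variable {F}

/-- extension of a submodule along an arrow. -/
noncomputable abbrev pull {ξ' ξ : 𝒳.obj} (φ : ξ' ⟶ ξ) (N : Submodule Γ(sch 𝒳 ξ, ⊤) Γ(F.obj.obj ξ, ⊤)) :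
    Submodule Γ(sch 𝒳 ξ', ⊤) Γ(F.obj.obj ξ', ⊤) := ext (resTop F.obj φ) N

theorem pull_comp {ξ'' ξ' ξ : 𝒳.obj} (ψ : ξ'' ⟶ ξ') (φ : ξ' ⟶ ξ)
    (N : Submodule Γ(sch 𝒳 ξ, ⊤) Γ(F.obj.obj ξ, ⊤)) : pull (ψ ≫ φ) N = pull ψ (pull φ N) := by
  unfold pull
  rw [ext_comp (ψ := ringMap ψ) (resTop F.obj φ) (resTop F.obj ψ) (fun b m => resTop_smul F.obj ψ b m), resTop_comp]

theorem pull_id {ξ : 𝒳.obj} (N : Submodule Γ(sch 𝒳 ξ, ⊤) Γ(F.obj.obj ξ, ⊤)) : pull (𝟙 ξ) N = N := by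
  apply le_antisymm
  · rw [ext_le]
    intro x hx
    rw [resTop_apply, F.obj.mapTop_id]
    exact hx
  · intro x hx
    have := mem_ext (B := Γ(sch 𝒳 ξ, ⊤)) (resTop F.obj (𝟙 ξ)) hx
    rwa [resTop_apply, F.obj.mapTop_id] at this

theorem mem_pull {ξ' ξ : 𝒳.obj} (φ : ξ' ⟶ ξ) {N : Submodule Γ(sch 𝒳 ξ, ⊤) Γ(F.obj.obj ξ, ⊤)}
    {x : Γ(F.obj.obj ξ, ⊤)} (hx : x ∈ N) : F.obj.mapTop φ x ∈ pull φ N := mem_ext (resTop F.obj φ) hx

theorem mem_pull_iff {ξ' ξ : 𝒳.obj} (φ : ξ' ⟶ ξ) [IsAffine (sch 𝒳 ξ)] [IsAffine (sch 𝒳 ξ')] (hφ : IsFCov φ)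
    {N : Submodule Γ(sch 𝒳 ξ, ⊤) Γ(F.obj.obj ξ, ⊤)} {x : Γ(F.obj.obj ξ, ⊤)} :
    F.obj.mapTop φ x ∈ pull φ N ↔ x ∈ N :=
  mem_ext_iff (ringMap_faithfullyFlat φ hφ) (isBC_resTop F φ)

theorem eq_of_pull_eq {ξ' ξ : 𝒳.obj} (φ : ξ' ⟶ ξ) [IsAffine (sch 𝒳 ξ)] [IsAffine (sch 𝒳 ξ')] (hφ : IsFCov φ)
    {N L : Submodule Γ(sch 𝒳 ξ, ⊤) Γ(F.obj.obj ξ, ⊤)} (h : pull φ N = pull φ L) : N = L :=
  eq_of_ext_eq (ringMap_faithfullyFlat φ hφ) (isBC_resTop F φ) h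

/-- The family agrees on every affine object with arrows to two of its members. -/
def Compat (K : Fam Z F) : Prop :=
  ∀ ⦃z : 𝒳.obj⦄, IsAffine (sch 𝒳 z) → ∀ ⦃i j : J⦄ (a : z ⟶ Z i) (b : z ⟶ Z j), pull a (K i) = pull b (K j)

/-- To check `Compat` it suffices to check it after a covering. -/
theorem Compat.of_local [haff : ∀ j, IsAffine (sch 𝒳 (Z j))] {K : Fam Z F}
    (h : ∀ ⦃z : 𝒳.obj⦄, IsAffine (sch 𝒳 z) → ∀ ⦃i j : J⦄ (a : z ⟶ Z i) (b : z ⟶ Z j),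
      ∃ (z' : 𝒳.obj) (f : z' ⟶ z), IsAffine (sch 𝒳 z') ∧ IsFCov f ∧ pull (f ≫ a) (K i) = pull (f ≫ b) (K j)) :
    Compat K := by
  intro z hz i j a b
  obtain ⟨z', f, hz', hf, e⟩ := h hz a b
  rw [pull_comp, pull_comp] at e
  exact eq_of_pull_eq f hf e

/-- The submodule over `ξ` read on a covering. -/
noncomputable def onCov (K : Fam Z F) {ξ : 𝒳.obj} [IsAffine (sch 𝒳 ξ)] (c : Cov Z ξ) :
    Submodule Γ(sch 𝒳 ξ, ⊤) Γ(F.obj.obj ξ, ⊤) :=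
  res (resTop F.obj c.f) (isBC_resTop F c.f).map_smul (pull c.d (K c.j))

theorem mem_onCov {K : Fam Z F} {ξ : 𝒳.obj} [IsAffine (sch 𝒳 ξ)] {c : Cov Z ξ} {x : Γ(F.obj.obj ξ, ⊤)} :
    x ∈ onCov K c ↔ F.obj.mapTop c.f x ∈ pull c.d (K c.j) := Iff.rfl

theorem onCov_le (h𝒳 : FibCat.IsFibGrpd 𝒳.p) {K : Fam Z F} (hK : Compat K) {ξ : 𝒳.obj} [IsAffine (sch 𝒳 ξ)]
    (c c' : Cov Z ξ) : onCov K c ≤ onCov K c' := by
  intro x hx
  rw [mem_onCov] at hx ⊢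
  obtain ⟨t, p, q, hpq, sq⟩ := exists_fib h𝒳 c.f c'.f
  have := isAffine_of_isPullback sq
  have hq : IsFCov q := c.cov.of_isPullback sq
  rw [← mem_pull_iff q hq, ← pull_comp, ← F.obj.mapTop_comp, ← hpq, ← hK inferInstance (p ≫ c.d) (q ≫ c'.d), pull_comp,
    F.obj.mapTop_comp]
  exact mem_pull p hx

theorem onCov_eq (h𝒳 : FibCat.IsFibGrpd 𝒳.p) {K : Fam Z F} (hK : Compat K) {ξ : 𝒳.obj} [IsAffine (sch 𝒳 ξ)]
    (c c' : Cov Z ξ) : onCov K c = onCov K c' :=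
  le_antisymm (onCov_le h𝒳 hK c c') (onCov_le h𝒳 hK c' c)

theorem pull_onCov (h𝒳 : FibCat.IsFibGrpd 𝒳.p) {K : Fam Z F} (hK : Compat K) {ξ : 𝒳.obj} [IsAffine (sch 𝒳 ξ)]
    (c : Cov Z ξ) : pull c.f (onCov K c) = pull c.d (K c.j) := by
  obtain ⟨t, p, q, hpq, sq⟩ := exists_fib h𝒳 c.f c.f
  have := isAffine_of_isPullback sq
  refine ext_res_eq_of_descent F c.f p q c.cov.flat hpq sq _ ?_
  change pull p (pull c.d (K c.j)) ≤ pull q (pull c.d (K c.j))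
  rw [← pull_comp, ← pull_comp, hK inferInstance (p ≫ c.d) (q ≫ c.d)]

/-- The submodule over every affine object. -/
noncomputable def all (hZ : Covers Z) (K : Fam Z F) (ξ : 𝒳.obj) [hξ : IsAffine (sch 𝒳 ξ)] :
    Submodule Γ(sch 𝒳 ξ, ⊤) Γ(F.obj.obj ξ, ⊤) := onCov K (hZ ξ hξ).some

theorem all_eq (h𝒳 : FibCat.IsFibGrpd 𝒳.p) (hZ : Covers Z) {K : Fam Z F} (hK : Compat K) {ξ : 𝒳.obj}
    [IsAffine (sch 𝒳 ξ)] (c : Cov Z ξ) : all hZ K ξ = onCov K c := onCov_eq h𝒳 hK _ _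

theorem mem_all_iff (h𝒳 : FibCat.IsFibGrpd 𝒳.p) (hZ : Covers Z) {K : Fam Z F} (hK : Compat K) {ξ : 𝒳.obj}
    [IsAffine (sch 𝒳 ξ)] (c : Cov Z ξ) {x : Γ(F.obj.obj ξ, ⊤)} :
    x ∈ all hZ K ξ ↔ F.obj.mapTop c.f x ∈ pull c.d (K c.j) := by
  rw [all_eq h𝒳 hZ hK c, mem_onCov]

theorem pull_f_all (h𝒳 : FibCat.IsFibGrpd 𝒳.p) (hZ : Covers Z) {K : Fam Z F} (hK : Compat K) {ξ : 𝒳.obj}
    [IsAffine (sch 𝒳 ξ)] (c : Cov Z ξ) : pull c.f (all hZ K ξ) = pull c.d (K c.j) := by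
  rw [all_eq h𝒳 hZ hK c, pull_onCov h𝒳 hK c]

/-- The family of submodules over all affine objects is stable under base change. -/
theorem pull_all (h𝒳 : FibCat.IsFibGrpd 𝒳.p) (hZ : Covers Z) {K : Fam Z F} (hK : Compat K) {ξ' ξ : 𝒳.obj}
    [IsAffine (sch 𝒳 ξ)] [IsAffine (sch 𝒳 ξ')] (φ : ξ' ⟶ ξ) : pull φ (all hZ K ξ) = all hZ K ξ' := by
  let c : Cov Z ξ := (hZ ξ inferInstance).some
  obtain ⟨t, p, q, hpq, sq⟩ := exists_fib h𝒳 c.f φ
  have := isAffine_of_isPullback sq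
  have hq : IsFCov q := c.cov.of_isPullback sq
  let c' : Cov Z ξ' := ⟨t, inferInstance, q, hq, c.j, p ≫ c.d⟩
  apply eq_of_pull_eq q hq
  rw [show pull q (all hZ K ξ') = pull (p ≫ c.d) (K c.j) from pull_f_all h𝒳 hZ hK c', ← pull_comp, ← hpq, pull_comp,
    pull_f_all h𝒳 hZ hK c, pull_comp]

/-- Over a member of the atlas it is the given submodule. -/
theorem all_atlas (h𝒳 : FibCat.IsFibGrpd 𝒳.p) (hZ : Covers Z) {K : Fam Z F} (hK : Compat K) (j : J)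
    [hj : IsAffine (sch 𝒳 (Z j))] : all hZ K (Z j) = K j := by
  let c : Cov Z (Z j) := ⟨Z j, hj, 𝟙 _, isFCov_id _, j, 𝟙 _⟩
  have h := pull_f_all h𝒳 hZ hK c
  rwa [pull_id, pull_id] at h

theorem all_mono (h𝒳 : FibCat.IsFibGrpd 𝒳.p) (hZ : Covers Z) {K L : Fam Z F} (hK : Compat K) (hL : Compat L)
    (h : ∀ j, K j ≤ L j) (ξ : 𝒳.obj) [IsAffine (sch 𝒳 ξ)] : all hZ K ξ ≤ all hZ L ξ := by
  intro x hx
  let c : Cov Z ξ := (hZ ξ inferInstance).some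
  rw [mem_all_iff h𝒳 hZ hK c] at hx
  rw [mem_all_iff h𝒳 hZ hL c]
  exact ext_mono (resTop F.obj c.d) (h c.j) hx

end K907.QDesc
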