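import Groth.Agent.StMod.K907.OnePt
import Groth.Agent.Gerb.K894.OnePt
import Groth.Agent.AlgSt.K608.KMGeom
import Groth.Agent.S16806
import Groth.Agent.S16869
import Groth.Agent.S10350
import Groth.Agent.S10356

/-!
# The residue field of a one-point stack

* `exists_field_cover`: a reduced locally Noetherian quasi-separated one-point stack maps to the spectrum of a field, with
  smooth charts locally of finite presentation over it.
* `exists_finite_point`: a nonempty scheme locally of finite type over a field has a point with values in a finite extension.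
-/

set_option autoImplicit false
set_option linter.unusedVariables false
set_option linter.style.haveILetI false
set_option backward.isDefEq.respectTransparency false
set_option backward.isDefEq.respectTransparency.types false

universe t w' v' w v u

open CategoryTheory CategoryTheory.Limits AlgebraicGeometry Opposite StMod AlgSt AlgSp

namespace K907.ResFld

open K907.Sec K907.DiagPt K907.OnePt

variable {S : Scheme.{u}}

/-- Universal homeomorphisms are quasi-compact. -/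
theorem isQuasiCompactMor_of_univHomeo {𝒳 𝒴 : AlgSt.Cat S} (h𝒳 : IsAlgStack Scheme.fppfPrecoverage 𝒳)
    (h𝒴 : IsAlgStack Scheme.fppfPrecoverage 𝒴) (f : 𝒳 ⥤ᵇ 𝒴) (h : AlgSt.IsUnivHomeo Scheme.fppfPrecoverage f) :
    AlgSt.IsQuasiCompactMor Scheme.fppfPrecoverage f := by
  intro 𝒵 h𝒵 hq g
  have ha := K742.QC.isAlgStack_fp h𝒵 h𝒳 h𝒴 g f
  have h1 := h 𝒵 h𝒵 g
  have h2 : CompactSpace (Points 𝒵) := (K736.QC.isQuasiCompact_iff h𝒵).1 hq
  exact (K736.QC.isQuasiCompact_iff ha).2 h1.homeomorph.symm.compactSpace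

/-- A nonempty scheme locally of finite type over a field has a finite point. -/
theorem exists_finite_point {V : Scheme.{u}} [Nonempty V] {k : Type u} [Field k] (ρ : V ⟶ Spec (CommRingCat.of k))
    [LocallyOfFiniteType ρ] : ∃ (K' : Type u) (_ : Field K') (j : Spec (CommRingCat.of K') ⟶ V) (i : k →+* K'),
      j ≫ ρ = Spec.map (CommRingCat.ofHom i) ∧ i.Finite := by
  obtain ⟨x⟩ := (inferInstance : Nonempty V)
  obtain ⟨U, hU, hxU, -⟩ := exists_isAffineOpen_mem_and_subset (show x ∈ (⊤ : V.Opens) from trivial)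
  haveI : Nonempty (U : Scheme.{u}) := ⟨⟨x, hxU⟩⟩
  have hUa : IsAffine (U : Scheme.{u}) := hU
  obtain ⟨φ, hφ⟩ := Spec.map_surjective (hU.fromSpec ≫ ρ)
  have h1 : LocallyOfFiniteType (hU.fromSpec ≫ ρ) := inferInstance
  have h2 : φ.hom.FiniteType := by
    rw [← hφ] at h1
    exact (HasRingHomProperty.Spec_iff (P := @LocallyOfFiniteType)).1 h1
  have hne : Nontrivial Γ(V, U) := by
    haveI : Nonempty (PrimeSpectrum Γ(V, U)) := by
      obtain ⟨z, -⟩ : ∃ z, hU.fromSpec z = x := by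
        have : x ∈ Set.range hU.fromSpec := by
          rw [hU.range_fromSpec]
          exact hxU
        exact this
      exact ⟨z⟩
    exact (PrimeSpectrum.nonempty_iff_nontrivial).1 inferInstance
  obtain ⟨m, hm⟩ := Ideal.exists_maximal Γ(V, U)
  letI : Field (Γ(V, U) ⧸ m) := Ideal.Quotient.field m
  letI : Algebra k Γ(V, U) := φ.hom.toAlgebra
  haveI : Algebra.FiniteType k Γ(V, U) := h2
  haveI : Algebra.FiniteType k (Γ(V, U) ⧸ m) := inferInstance
  have h3 : Module.Finite k (Γ(V, U) ⧸ m) := finite_of_finite_type_of_isJacobsonRing k _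
  let i : k →+* (Γ(V, U) ⧸ m) := (Ideal.Quotient.mk m).comp φ.hom
  refine ⟨Γ(V, U) ⧸ m, inferInstance, Spec.map (CommRingCat.ofHom (Ideal.Quotient.mk m)) ≫ hU.fromSpec, i, ?_, ?_⟩
  · rw [Category.assoc, ← hφ, ← Spec.map_comp]
    rfl
  · exact h3

/-- A one-point stack maps to the spectrum of a field. -/
theorem exists_field_cover {𝒵 : AlgSt.Cat S} (h𝒵 : IsAlgStack Scheme.fppfPrecoverage 𝒵)
    (hne : Nonempty (Points 𝒵)) (hss : Subsingleton (Points 𝒵))
    (hr : SmoothLocally (fun X => IsReduced X) 𝒵) (hN : SmoothLocally (fun T => IsLocallyNoetherian T) 𝒵)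
    (hqs : IsQuasiSeparatedOver 𝒵) :
    ∃ (k : Type u) (_ : Field k) (str : Spec (CommRingCat.of k) ⟶ S) (r : 𝒵 ⥤ᵇ FibCat.overCat (Over.mk str))
      (V : Over S) (v : FibCat.overCat V ⥤ᵇ 𝒵) (ρ : V ⟶ Over.mk str), Nonempty V.left ∧
        LocallyOfFiniteType ρ.left ∧ ∀ (E : Over S) (j : E ⟶ V), r.obj (v.obj (Over.mk j)) = Over.mk (j ≫ ρ) := by
  obtain ⟨k₁, _, a, z, hz₁, hz₂, hz₃⟩ := (Groth.Agent.S16806.result S 𝒵 h𝒵).1 ⟨hr, hN, hne, hss⟩
  obtain ⟨hI₁, hI₂⟩ := K894.OnePt.inertia_of_field h𝒵 z hz₁ hz₂ hz₃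
  obtain ⟨Z, π, hπ⟩ := K894.OnePt.isAlgGerbe_of_inertia h𝒵 hI₁ hI₂
  obtain ⟨hr', -⟩ := K894.OnePt.reduced_noeth_of_gerbe h𝒵 π hπ hI₁ hI₂
  have hb := K894.OnePt.points_bijective_of_gerbe h𝒵 π hπ
  have hZS := K740.SpDM.isAlgStack_ofSp Z.property
  have huh := Groth.Agent.S16869.result S _ _ h𝒵 hZS π hπ
  have hZq : IsQuasiSeparatedSp Z.obj := K608.KMGeom.isQuasiSeparatedSp h𝒵 Z.property π huh
    (isQuasiCompactMor_of_univHomeo h𝒵 hZS π huh) hqs
  have hne' : Nonempty (AlgSp.Points Z.obj) := hne.map fun x => K735.PtsSp.ptsEquiv Z.obj (AlgSt.Points.map π x)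
  have hss' : Subsingleton (AlgSp.Points Z.obj) := ⟨fun x y => by
    obtain ⟨x, rfl⟩ := hb.2 x
    obtain ⟨y, rfl⟩ := hb.2 y
    rw [hss.elim x y]⟩
  obtain ⟨k, hk, str, ⟨ψ⟩⟩ := Groth.Agent.S10356.result Z (Groth.Agent.S10350.result Z hZq) (hr' hr)
  obtain ⟨V, v, hv₁, hv₂⟩ := h𝒵.atlas
  obtain ⟨q, ⟨i⟩, hq₁, hq₂, hq₃⟩ := K894.IsoSp.exists_cover_of_gerbe h𝒵 π hπ hI₁ hI₂ v hv₁ hv₂
  obtain ⟨ρ, hρ⟩ := (AlgSp.yon S).map_surjective (q ≫ ψ.inv)
  refine ⟨k, hk, str, BasedFunctor.comp π (BasedFunctor.comp (ofSpMap ψ.inv) (toOverCat (Over.mk str))), V, v, ρ, ?_, ?_, ?_⟩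
  · obtain ⟨x⟩ := hne
    obtain ⟨y, -⟩ := K736.QC.surjective_ofChart h𝒵 hv₂ x
    exact ⟨y⟩
  · have := K735.Top.locP_respectsIso (S := S) @LocallyOfFinitePresentation
    have h1 : LocP @LocallyOfFinitePresentation ((AlgSp.yon S).map ρ) := by
      rw [hρ]
      exact (MorphismProperty.cancel_right_of_respectsIso _ q ψ.inv).2 hq₃
    have h2 : LocallyOfFinitePresentation ρ.left := (K742.nice_lfp.yon_iff ρ).1 h1
    infer_instance
  · intro E j
    have h1 := K734.Fib.obj_eq_of_iso i ⟨E, ⟨j⟩⟩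
    have h2 := congrArg (fun a => (toOverCat (Over.mk str)).obj ((ofSpMap ψ.inv).obj a)) h1
    refine h2.trans ?_
    have h3 := congrArg (fun m => m.hom.app (op E) (⟨j⟩ : ULift (E ⟶ V))) hρ
    exact congrArg (fun s : ULift (E ⟶ Over.mk str) => (Over.mk s.down : Over (Over.mk str))) h3.symm

end K907.ResFld
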