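import Groth.Agent.StMod.K907.Disj
import Groth.Agent.StMod.K907.KPt
import Groth.Agent.AlgSt.K735.Top

/-!
# Closed points and closures of rational points under a good moduli space
-/

set_option autoImplicit false
set_option linter.unusedVariables false
set_option linter.style.haveILetI false
set_option backward.isDefEq.respectTransparency false
set_option backward.isDefEq.respectTransparency.types false

universe t w' v' w v u

open CategoryTheory CategoryTheory.Limits AlgebraicGeometry Opposite StMod AlgSt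

namespace K907.Rows

open K907.Atl K907.Pt K907.Van K907.Closed K907.EtNhd K907.Disj K907.KPt K735.PtsSp K735.SpFp

variable {S : Scheme.{u}} {𝒳 : BasedCategory.{v, w} (Over S)}

/-- A smooth atlas such that the preimages of closed sets are closed. -/
def HasCov (h𝒳 : FibCat.IsFibGrpd 𝒳.p) : Prop :=
  ∃ (J : Type u) (Z : J → 𝒳.obj), SmCov Z ∧ ∀ W : Set (Points 𝒳), IsClosed W → IsCl h𝒳 W

theorem map_ne (h𝒳 : FibCat.IsFibGrpd 𝒳.p) (hc : HasCov h𝒳)
    {M : AlgSp.Sp S} (hM : AlgSp.IsAlgSpace M) (π : 𝒳 ⥤ᵇ ofSp M) (h : IsGoodModuli π)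
    {W₁ W₂ : Set (Points 𝒳)} (h₁ : IsClosed W₁) (h₂ : IsClosed W₂) (hd : Disjoint W₁ W₂)
    {x₁ x₂ : Points 𝒳} (hx₁ : x₁ ∈ W₁) (hx₂ : x₂ ∈ W₂) : Points.map π x₁ ≠ Points.map π x₂ := by
  obtain ⟨J, Z, hZ, hcl⟩ := hc
  exact map_ne_of_disjoint h𝒳 hZ hM π h (hcl _ h₁) (hcl _ h₂) hd hx₁ hx₂

/-- Closed points with the same image are equal. -/
theorem eq_of_isClosed (h𝒳 : FibCat.IsFibGrpd 𝒳.p) (hc : HasCov h𝒳)
    {M : AlgSp.Sp S} (hM : AlgSp.IsAlgSpace M) (π : 𝒳 ⥤ᵇ ofSp M) (h : IsGoodModuli π)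
    (x₁ x₂ : Points 𝒳) (h₁ : IsClosed ({x₁} : Set (Points 𝒳))) (h₂ : IsClosed ({x₂} : Set (Points 𝒳)))
    (he : Points.map π x₁ = Points.map π x₂) : x₁ = x₂ := by
  by_contra hne
  exact map_ne h𝒳 hc hM π h h₁ h₂ (Set.disjoint_singleton.2 hne) rfl rfl he

/-- Rational points with the same image: closures meet. -/
theorem comp_eq_iff {k : Type u} [Field k] {𝒳 : BasedCategory.{v, w} (Over (Spec (CommRingCat.of k)))}
    (h𝒳 : FibCat.IsFibGrpd 𝒳.p) (hc : HasCov h𝒳)
    {M : AlgSp.Sp (Spec (CommRingCat.of k))} (hM : AlgSp.IsAlgSpace M) (hd : AlgSp.IsDecent M) (π : 𝒳 ⥤ᵇ ofSp M)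
    (h : IsGoodModuli π) (x₁ x₂ : FibCat.overCat (Over.mk (𝟙 (Spec (CommRingCat.of k)))) ⥤ᵇ 𝒳)
    (t : ↥(Spec (CommRingCat.of k))) :
    BasedFunctor.comp x₁ π = BasedFunctor.comp x₂ π ↔
      (closure {AlgSt.Points.ofChart x₁ t} ∩ closure {AlgSt.Points.ofChart x₂ t}).Nonempty := by
  constructor
  · intro e
    by_contra hne
    rw [Set.not_nonempty_iff_eq_empty, ← Set.disjoint_iff_inter_eq_empty] at hne
    refine map_ne h𝒳 hc hM π h isClosed_closure isClosed_closure hne (subset_closure rfl) (subset_closure rfl) ?_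
    rw [map_ofChart, map_ofChart, e]
  · rintro ⟨x, hx₁, hx₂⟩
    obtain ⟨i₁⟩ := exists_iso_chart (BasedFunctor.comp x₁ π)
    obtain ⟨i₂⟩ := exists_iso_chart (BasedFunctor.comp x₂ π)
    have key : ∀ (y : FibCat.overCat (Over.mk (𝟙 (Spec (CommRingCat.of k)))) ⥤ᵇ 𝒳)
        (i : BasedFunctor.comp y π ≅ chart (unchart (BasedFunctor.comp y π))),
        x ∈ closure {AlgSt.Points.ofChart y t} →
        ptsEquiv M (Points.map π x) = AlgSp.Points.ofPt (unchart (BasedFunctor.comp y π)) t := by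
      intro y i hy
      have h1 := isClosed_preimage π (isClosed_ofPt hM hd (unchart (BasedFunctor.comp y π)) t)
      have h2 : x ∈ {x : AlgSt.Points 𝒳 | ptsEquiv M (AlgSt.Points.map π x) ∈
          ({AlgSp.Points.ofPt (unchart (BasedFunctor.comp y π)) t} : Set (AlgSp.Points M))} := by
        refine h1.closure_subset_iff.2 ?_ hy
        rintro _ rfl
        change ptsEquiv M (AlgSt.Points.map π (AlgSt.Points.ofChart y t)) = _
        rw [map_ofChart, ofChart_congr i, ptsEquiv_ofChart]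
      exact h2
    have e₁ := key x₁ i₁ hx₁
    have e₂ := key x₂ i₂ hx₂
    have e₃ := eq_of_ofPt_eq hM _ _ t (e₁.symm.trans e₂)
    apply eq_of_iso
    exact i₁ ≪≫ eqToIso (by rw [e₃]) ≪≫ i₂.symm

end K907.Rows
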