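import Groth.Agent.StMod.K907.Quot

/-!
# Tensoring a quasi-coherent module with a module over a ring of functions

* `T σ M N = M ⊗[A] N` for `σ : A →+* B`, a `B`-module `M` and an `A`-module `N`, as a `B`-module; `tmap`, `isBC_tmap`;
* `exists_ofA` : a cartesian family of modules on the affine objects comes from a quasi-coherent module;
* `Fn A 𝒳` : compatible ring maps `A →+* Γ(sch x, ⊤)`; `IsTens` : `Q = F ⊗[A] N`; `exists_tens`, `IsTens.hom`.
-/

set_option autoImplicit false
set_option linter.unusedVariables false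
set_option linter.style.haveILetI false
set_option backward.isDefEq.respectTransparency false
set_option backward.isDefEq.respectTransparency.types false

universe t w' v' w v u

open CategoryTheory CategoryTheory.Limits AlgebraicGeometry Opposite StMod TensorProduct
open Groth.Agent.CohqA.BaseChangeMod

namespace K907.Tens

section Algebra

variable {A B B' : Type u} [CommRing A] [CommRing B] [CommRing B']

/-- A `B`-module as a module over `A`, through `σ : A →+* B`. -/
def RM (σ : A →+* B) (M : Type u) : Type u := M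

variable {M M' : Type u} [AddCommGroup M] [AddCommGroup M'] [Module B M] [Module B' M']
variable (N : Type u) [AddCommGroup N] [Module A N] {N' : Type u} [AddCommGroup N'] [Module A N']

instance (σ : A →+* B) : AddCommGroup (RM σ M) := inferInstanceAs (AddCommGroup M)

instance modB (σ : A →+* B) : Module B (RM σ M) := inferInstanceAs (Module B M)

instance modA (σ : A →+* B) : Module A (RM σ M) := Module.compHom M σ

theorem rm_smul (σ : A →+* B) (a : A) (m : RM σ M) : a • m = σ a • m := rfl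

instance (σ : A →+* B) : SMulCommClass A B (RM σ M) := ⟨fun a b m => by
  rw [rm_smul, rm_smul, smul_smul, smul_smul, mul_comm]⟩

/-- The tensor product, a module over `B`. -/
abbrev T (σ : A →+* B) (M : Type u) [AddCommGroup M] [Module B M] (N : Type u) [AddCommGroup N] [Module A N] : Type u :=
  (RM σ M) ⊗[A] N

theorem smul_tmul_T (σ : A →+* B) (b : B) (m : RM σ M) (n : N) :
    b • (m ⊗ₜ[A] n : T σ M N) = ((b • m : RM σ M) ⊗ₜ[A] n : T σ M N) := TensorProduct.smul_tmul' _ _ _

/-- A semilinear map as an `A`-linear one. -/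
def rmap {σ : A →+* B} {σ' : A →+* B'} {φ : B →+* B'} (h : φ.comp σ = σ') (f : M →+ M')
    (hf : ∀ (b : B) (m : M), f (b • m) = φ b • f m) : RM σ M →ₗ[A] RM σ' M' where
  toFun m := f m
  map_add' a b := f.map_add a b
  map_smul' a m := by
    subst h
    exact hf (σ a) m

/-- The map induced on tensor products. -/
noncomputable def tmap {σ : A →+* B} {σ' : A →+* B'} {φ : B →+* B'} (h : φ.comp σ = σ') (f : M →+ M')
    (hf : ∀ (b : B) (m : M), f (b • m) = φ b • f m) : T σ M N →+ T σ' M' N :=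
  (LinearMap.rTensor N (rmap h f hf)).toAddMonoidHom

theorem tmap_tmul {σ : A →+* B} {σ' : A →+* B'} {φ : B →+* B'} (h : φ.comp σ = σ') (f : M →+ M')
    (hf : ∀ (b : B) (m : M), f (b • m) = φ b • f m) (m : RM σ M) (n : N) :
    tmap N h f hf (m ⊗ₜ[A] n) = ((f m : RM σ' M') ⊗ₜ[A] n : T σ' M' N) := rfl

theorem isBC_tmap {σ : A →+* B} {σ' : A →+* B'} {φ : B →+* B'} (h : φ.comp σ = σ') {f : M →+ M'}
    (hf : IsBC φ f) : IsBC φ (tmap N h f hf.map_smul) := by
  have hs : ∀ (b : B) (x : T σ M N), tmap N h f hf.map_smul (b • x) = φ b • tmap N h f hf.map_smul x := by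
    intro b x
    induction x using TensorProduct.induction_on with
    | zero => rw [smul_zero, map_zero, smul_zero]
    | tmul m n =>
      rw [smul_tmul_T, tmap_tmul, tmap_tmul, smul_tmul_T]
      congr 1
      exact hf.map_smul b m
    | add x y hx hy => rw [smul_add, map_add, hx, hy, map_add, smul_add]
  refine ⟨hs, ?_⟩
  intro Q _ _ g hg
  have key : ∀ n : N, ∃! G : M' →ₗ[B'] Q, ∀ m, G (f m) = g ((m : RM σ M) ⊗ₜ[A] n) := by
    intro n
    let gn : M →+ Q :=
      { toFun := fun m => g ((m : RM σ M) ⊗ₜ[A] n)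
        map_zero' := by
          rw [show ((0 : M) : RM σ M) = (0 : RM σ M) from rfl, TensorProduct.zero_tmul, map_zero]
        map_add' := fun m m' => by
          rw [show ((m + m' : M) : RM σ M) = (m : RM σ M) + (m' : RM σ M) from rfl, TensorProduct.add_tmul, map_add] }
    exact hf.lift Q gn fun b m => by
      change g (((b • m : M) : RM σ M) ⊗ₜ[A] n) = φ b • g ((m : RM σ M) ⊗ₜ[A] n)
      rw [← hg]
      rfl
  choose G hG hGu using key
  dsimp only at hG hGu
  have hadd : ∀ n n', G (n + n') = G n + G n' := by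
    intro n n'
    symm
    apply hGu
    intro m
    rw [LinearMap.add_apply, hG, hG, ← map_add, ← TensorProduct.tmul_add]
  have hsm : ∀ (a : A) (n : N) (m' : M'), G (a • n) m' = σ' a • G n m' := by
    intro a n m'
    have : σ' a • G n = G (a • n) := by
      apply hGu
      intro m
      rw [LinearMap.smul_apply, hG, ← h]
      change φ (σ a) • g ((m : RM σ M) ⊗ₜ[A] n) = _
      rw [← hg]
      congr 1
      rw [smul_tmul_T, ← rm_smul, TensorProduct.smul_tmul]
    rw [← this, LinearMap.smul_apply]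
  let L : T σ' M' N →+ Q := TensorProduct.liftAddHom
    ({ toFun := fun m' => { toFun := fun n => G n m', map_zero' := by
                              have := hsm 0 0 m'
                              rw [zero_smul, map_zero, zero_smul] at this
                              exact this
                            map_add' := fun n n' => by rw [hadd]; rfl }
       map_zero' := by ext n; exact (G n).map_zero
       map_add' := fun m m' => by ext n; exact (G n).map_add m m' } : RM σ' M' →+ N →+ Q) (fun a m' n => by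
      change G n (σ' a • m') = G (a • n) m'
      rw [hsm, map_smul])
  have hL : ∀ (m' : RM σ' M') (n : N), L (m' ⊗ₜ[A] n) = G n m' := fun m' n => rfl
  refine ⟨{ L with map_smul' := fun b x => ?_ }, ?_, ?_⟩
  · change L (b • x) = b • L x
    induction x using TensorProduct.induction_on with
    | zero => rw [smul_zero, map_zero, smul_zero]
    | tmul m n =>
      rw [smul_tmul_T, hL, hL]
      exact (G n).map_smul b m
    | add x y hx hy => rw [smul_add, map_add, hx, hy, map_add, smul_add]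
  · intro x
    change L (tmap N h f hf.map_smul x) = g x
    induction x using TensorProduct.induction_on with
    | zero => rw [map_zero, map_zero, map_zero]
    | tmul m n =>
      rw [tmap_tmul, hL]
      exact hG n m
    | add x y hx hy => rw [map_add, map_add, hx, hy, map_add]
  · intro L' hL'
    ext x
    change L' x = L x
    induction x using TensorProduct.induction_on with
    | zero => rw [map_zero, map_zero]
    | tmul m n =>
      rw [hL]
      let G' : M' →ₗ[B'] Q :=
        { toFun := fun m' => L' ((m' : RM σ' M') ⊗ₜ[A] n)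
          map_add' := fun m m' => by
            rw [show ((m + m' : M') : RM σ' M') = (m : RM σ' M') + (m' : RM σ' M') from rfl, TensorProduct.add_tmul, map_add]
          map_smul' := fun b m' => by
            change L' (((b • m' : M') : RM σ' M') ⊗ₜ[A] n) = b • L' ((m' : RM σ' M') ⊗ₜ[A] n)
            rw [← map_smul]
            rfl }
      have : G' = G n := by
        apply hGu
        intro m
        exact (hL' ((m : RM σ M) ⊗ₜ[A] n))
      exact congrArg (fun k => k m) this
    | add x y hx hy => rw [map_add, map_add, hx, hy]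

/-- Functoriality in both variables. -/
noncomputable def bmp (σ : A →+* B) {M₂ : Type u} [AddCommGroup M₂] [Module B M₂] (g : M →ₗ[B] M₂) (ν : N →ₗ[A] N') :
    T σ M N →ₗ[B] T σ M₂ N' :=
  { TensorProduct.map ({ toFun := fun m => g m, map_add' := g.map_add, map_smul' := fun a m => g.map_smul (σ a) m } :
      RM σ M →ₗ[A] RM σ M₂) ν with
    map_smul' := fun b x => by
      change TensorProduct.map _ ν (b • x) = b • TensorProduct.map _ ν x
      induction x using TensorProduct.induction_on with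
      | zero => rw [smul_zero, map_zero, smul_zero]
      | tmul m n =>
        rw [smul_tmul_T, TensorProduct.map_tmul, TensorProduct.map_tmul, smul_tmul_T]
        congr 1
        exact g.map_smul b m
      | add x y hx hy => rw [smul_add, map_add, hx, hy, map_add, smul_add] }

theorem bmp_tmul (σ : A →+* B) {M₂ : Type u} [AddCommGroup M₂] [Module B M₂] (g : M →ₗ[B] M₂) (ν : N →ₗ[A] N')
    (m : RM σ M) (n : N) : bmp N σ g ν (m ⊗ₜ[A] n) = ((g m : RM σ M₂) ⊗ₜ[A] ν n : T σ M₂ N') := rfl

theorem bmp_surjective (σ : A →+* B) {M₂ : Type u} [AddCommGroup M₂] [Module B M₂] (g : M →ₗ[B] M₂)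
    (hg : Function.Surjective g) (ν : N →ₗ[A] N') (hν : Function.Surjective ν) : Function.Surjective (bmp N σ g ν) :=
  TensorProduct.map_surjective (g := ({ toFun := fun m => g m, map_add' := g.map_add, map_smul' := fun a m => g.map_smul (σ a) m } :
      RM σ M →ₗ[A] RM σ M₂)) (g' := ν) hg hν

end Algebra

section Geometry

open K907.Sec K908.AMod K908.Fam K908.Ext K908.QSec K908.QHom

variable {S : Scheme.{u}} {𝒳 : BasedCategory.{v, w} (Over S)}

/-- A cartesian family of modules on the affine objects comes from a quasi-coherent module. -/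
theorem exists_ofA (h𝒳 : FibCat.IsFibGrpd 𝒳.p) (N : AMod (ASieve.all 𝒳).cat) (hN : N.IsCart) :
    ∃ (Q : QCoh 𝒳) (e : ∀ ζ : (ASieve.all 𝒳).cat.obj, Γ(Q.obj.obj ζ.obj, ⊤) ≃+ N.obj ζ),
      (∀ (ζ : (ASieve.all 𝒳).cat.obj) (r : Γ(sch 𝒳 ζ.obj, ⊤)) (x : Γ(Q.obj.obj ζ.obj, ⊤)),
        e ζ (r • x) = (show Γ(sch (ASieve.all 𝒳).cat ζ, ⊤) from r) • e ζ x) ∧
      ∀ {ζ' ζ : (ASieve.all 𝒳).cat.obj} (φ : ζ' ⟶ ζ) (x : Γ(Q.obj.obj ζ.obj, ⊤)),
        e ζ' (Q.obj.mapTop φ.hom x) = N.map φ (e ζ x) := by
  haveI := h𝒳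
  have hZ : ∀ ξ, ZLoc (ASieve.all 𝒳) ξ := zloc_all
  haveI : ∀ (ξ : 𝒳.obj) (U : (sch 𝒳 ξ).Opens), Small.{u} (BFam N ξ U) := fun ξ U => small_bfam N hN (hZ ξ) U
  exact ⟨ext N hN hZ, fun ζ => AddEquiv.ofBijective (extEv N hN hZ ζ) (extEv_bijective N hN hZ ζ),
    fun ζ r x => extEv_smul N hN hZ ζ r x, fun φ x => extEv_mapTop N hN hZ φ x⟩

/-- Compatible ring maps from `A` to the functions on the schemes under the objects. -/
structure Fn (A : Type u) [CommRing A] (𝒳 : BasedCategory.{v, w} (Over S)) where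
  σ : ∀ x : 𝒳.obj, A →+* Γ(sch 𝒳 x, ⊤)
  comm : ∀ {x' x : 𝒳.obj} (φ : x' ⟶ x), (ringMap φ).comp (σ x) = σ x'

variable {A : Type u} [CommRing A] (s : Fn A 𝒳)
variable (N : Type u) [AddCommGroup N] [Module A N] {N' : Type u} [AddCommGroup N'] [Module A N']

/-- `Q = F ⊗[A] N`. -/
structure IsTens (F : Mod 𝒳) (Q : Mod 𝒳) where
  e : ∀ (x : 𝒳.obj), IsAffine (sch 𝒳 x) → Γ(Q.obj x, ⊤) ≃ₗ[Γ(sch 𝒳 x, ⊤)] T (s.σ x) Γ(F.obj x, ⊤) N
  comm : ∀ {x' x : 𝒳.obj} (φ : x' ⟶ x) (h' : IsAffine (sch 𝒳 x')) (h : IsAffine (sch 𝒳 x)) (y : Γ(Q.obj x, ⊤)),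
    e x' h' (Q.mapTop φ y) = tmap N (s.comm φ) (resTop F φ) (resTop_smul F φ) (e x h y)

/-- The family of tensor products. -/
noncomputable def tensA (F : Mod 𝒳) : AMod (ASieve.all 𝒳).cat where
  obj ζ := T (s.σ ζ.obj) Γ(F.obj ζ.obj, ⊤) N
  mod ζ := inferInstanceAs (Module Γ(sch 𝒳 ζ.obj, ⊤) (T (s.σ ζ.obj) Γ(F.obj ζ.obj, ⊤) N))
  map {ζ' ζ} φ := tmap N (s.comm φ.hom) (resTop F φ.hom) (resTop_smul F φ.hom)
  map_smul {ζ' ζ} φ r x := by
    induction x using TensorProduct.induction_on with
    | zero => simp only [smul_zero, map_zero]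
    | tmul m n =>
      change tmap N (s.comm φ.hom) (resTop F φ.hom) (resTop_smul F φ.hom)
        ((show Γ(sch 𝒳 ζ.obj, ⊤) from r) • (m ⊗ₜ[A] n : T (s.σ ζ.obj) Γ(F.obj ζ.obj, ⊤) N)) =
        (show Γ(sch 𝒳 ζ'.obj, ⊤) from (bmap 𝒳 φ.hom).appTop r) •
          tmap N (s.comm φ.hom) (resTop F φ.hom) (resTop_smul F φ.hom) (m ⊗ₜ[A] n)
      rw [smul_tmul_T, tmap_tmul, tmap_tmul, smul_tmul_T]
      congr 1
      exact F.mapTop_smul φ.hom r m
    | add x y hx hy => rw [smul_add, map_add, hx, hy, map_add, smul_add]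
  map_id ζ x := by
    induction x using TensorProduct.induction_on with
    | zero => simp only [map_zero]
    | tmul m n =>
      rw [tmap_tmul]
      congr 1
      exact F.mapTop_id ζ.obj m
    | add x y hx hy => rw [map_add, hx, hy]
  map_comp {ζ'' ζ' ζ} ψ φ x := by
    induction x using TensorProduct.induction_on with
    | zero => simp only [map_zero]
    | tmul m n =>
      rw [tmap_tmul, tmap_tmul, tmap_tmul]
      congr 1
      exact F.mapTop_comp ψ.hom φ.hom m
    | add x y hx hy => rw [map_add, hx, hy, map_add, map_add]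

theorem tensA_isCart (F : QCoh 𝒳) : (tensA s N F.obj).IsCart := by
  intro ζ' ζ φ
  have : IsAffine (sch 𝒳 ζ.obj) := ζ.property
  have : IsAffine (sch 𝒳 ζ'.obj) := ζ'.property
  exact isBC_tmap N (s.comm φ.hom) (isBC_resTop F φ.hom)

/-- Tensor products with modules over `A` exist. -/
theorem exists_tens (h𝒳 : FibCat.IsFibGrpd 𝒳.p) (F : QCoh 𝒳) : ∃ Q : QCoh 𝒳, Nonempty (IsTens s N F.obj Q.obj) := by
  obtain ⟨Q, e, h1, h2⟩ := exists_ofA h𝒳 (tensA s N F.obj) (tensA_isCart s N F)
  refine ⟨Q, ⟨⟨fun x hx => { e ⟨x, hx⟩ with map_smul' := fun r y => h1 ⟨x, hx⟩ r y }, ?_⟩⟩⟩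
  intro x' x φ h' h y
  exact h2 (ζ' := ⟨x', h'⟩) (ζ := ⟨x, h⟩) (ObjectProperty.homMk φ) y

/-- The linear map on global sections under a morphism. -/
noncomputable def lin {F F' : Mod 𝒳} (f : F ⟶ F') (x : 𝒳.obj) : Γ(F.obj x, ⊤) →ₗ[Γ(sch 𝒳 x, ⊤)] Γ(F'.obj x, ⊤) :=
  { ((f.app x).app ⊤).hom with map_smul' := fun r y => Scheme.Modules.Hom.app_smul (f.app x) r y }

/-- Functoriality of the tensor product. -/
theorem IsTens.exists_hom (h𝒳 : FibCat.IsFibGrpd 𝒳.p) {F F' Q Q' : QCoh 𝒳} (a : IsTens s N F.obj Q.obj)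
    (b : IsTens s N' F'.obj Q'.obj) (f : F ⟶ F') (ν : N →ₗ[A] N') : ∃ g : Q ⟶ Q',
      ∀ (x : 𝒳.obj) (hx : IsAffine (sch 𝒳 x)) (y : Γ(Q.obj.obj x, ⊤)),
        b.e x hx ((g.hom.app x).app ⊤ y) = bmp N (s.σ x) (lin f.hom x) ν (a.e x hx y) := by
  haveI := h𝒳
  have hZ : ∀ ξ, ZLoc (ASieve.all 𝒳) ξ := zloc_all
  let t : AHom (rest Q.obj (ASieve.all 𝒳)) (rest Q'.obj (ASieve.all 𝒳)) :=
    { app := fun ζ => (b.e ζ.obj ζ.property).symm.toLinearMap.comp
        ((bmp N (s.σ ζ.obj) (lin f.hom ζ.obj) ν).comp (a.e ζ.obj ζ.property).toLinearMap)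
      comm := fun {ζ' ζ} φ x => by
        change (b.e ζ'.obj ζ'.property).symm (bmp N (s.σ ζ'.obj) (lin f.hom ζ'.obj) ν
          (a.e ζ'.obj ζ'.property (Q.obj.mapTop φ.hom x))) = Q'.obj.mapTop φ.hom
          ((b.e ζ.obj ζ.property).symm (bmp N (s.σ ζ.obj) (lin f.hom ζ.obj) ν (a.e ζ.obj ζ.property x)))
        rw [LinearEquiv.symm_apply_eq, b.comm φ.hom ζ'.property ζ.property, LinearEquiv.apply_symm_apply,
          a.comm φ.hom ζ'.property ζ.property]
        generalize a.e ζ.obj ζ.property x = z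
        induction z using TensorProduct.induction_on with
        | zero => simp only [map_zero]
        | tmul m n =>
          rw [tmap_tmul, bmp_tmul, bmp_tmul, tmap_tmul]
          congr 1
          exact (Mod.mapTop_app f.hom φ.hom m).symm
        | add x y hx hy => rw [map_add, map_add, hx, hy, map_add, map_add] }
  refine ⟨ObjectProperty.homMk (homMk hZ t), fun x hx y => ?_⟩
  have h1 : ((homMk hZ t).app x).app ⊤ y = t.app ⟨x, hx⟩ y := homMk_app hZ t ⟨x, hx⟩ y
  change b.e x hx (((homMk hZ t).app x).app ⊤ y) = _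
  rw [h1]
  exact (b.e x hx).apply_symm_apply _

end Geometry

end K907.Tens
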