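import Groth.Agent.StMod.K907.FlatM
import Mathlib.LinearAlgebra.TensorProduct.RightExactness

/-!
# Global sections of `O ⊗[A] N`

For an exact `𝒳` with ring of functions `A` and an affine presentation, `N → Γ(𝒳, O ⊗[A] N)` is bijective:
* `exists_of_globSect` (surjectivity);
* `eq_zero_of_tmul` (injectivity, tested at a covering object).
-/

set_option autoImplicit false
set_option linter.unusedVariables false
set_option linter.style.haveILetI false
set_option backward.isDefEq.respectTransparency false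
set_option backward.isDefEq.respectTransparency.types false

universe t w' v' w v u

open CategoryTheory CategoryTheory.Limits AlgebraicGeometry Opposite StMod AlgSt AlgSp TensorProduct

namespace K907.TensSec

open K907.Free K907.Sec K907.Atl K907.QDesc K907.Quot K907.Tens K907.Gen K907.Alg K908.AMod K908.Fam K908.Ext
  K908.QSec K908.QHom

section Algebra

variable {A B : Type u} [CommRing A] [CommRing B] (σ : A →+* B) (N : Type u) [AddCommGroup N] [Module A N]

/-- The element `1`. -/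
def oneM : RM σ B := (1 : B)

/-- The element `1 ⊗ n`. -/
noncomputable def uT (n : N) : T σ B N := oneM σ ⊗ₜ[A] n

variable {N} in
theorem tmul_eq (b : B) (n : N) : ((show RM σ B from b) ⊗ₜ[A] n : T σ B N) = b • uT σ N n := by
  unfold uT
  rw [smul_tmul_T]
  congr 1
  exact (mul_one b).symm

theorem uT_sum {ι : Type u} (t : Finset ι) (n : ι → N) : uT σ N (∑ i ∈ t, n i) = ∑ i ∈ t, uT σ N (n i) :=
  TensorProduct.tmul_sum _ _ _

theorem uT_smul (a : A) (n : N) : uT σ N (a • n) = σ a • uT σ N n := by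
  unfold uT
  rw [TensorProduct.tmul_smul, TensorProduct.smul_tmul', rm_smul, smul_tmul_T]

/-- The elements `1 ⊗ n` generate. -/
theorem span_one_tmul : Submodule.span B (Set.range (uT σ N)) = (⊤ : Submodule B (T σ B N)) := by
  rw [eq_top_iff]
  rintro x -
  induction x using TensorProduct.induction_on with
  | zero => exact Submodule.zero_mem _
  | tmul b n =>
    rw [tmul_eq σ b n]
    exact Submodule.smul_mem _ _ (Submodule.subset_span ⟨n, rfl⟩)
  | add x y hx hy => exact Submodule.add_mem _ hx hy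

/-- The map `B ⊗ A^(I) → B^(I)`. -/
noncomputable def toFr (ι : Type u) : T σ B (ι →₀ A) →+ (ι →₀ B) :=
  TensorProduct.liftAddHom
    ({ toFun := fun b => { toFun := fun v => (show B from b) • v.mapRange σ (map_zero _)
                           map_zero' := by simp
                           map_add' := fun v w => by rw [Finsupp.mapRange_add (map_add σ), smul_add] }
       map_zero' := AddMonoidHom.ext fun v => zero_smul B _
       map_add' := fun a b => AddMonoidHom.ext fun v => add_smul (show B from a) b _ } :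
      RM σ B →+ (ι →₀ A) →+ (ι →₀ B))
    (fun a b v => by
      change (σ a * (show B from b)) • v.mapRange σ (map_zero _) = (show B from b) • (a • v).mapRange σ (map_zero _)
      ext i
      simp only [Finsupp.smul_apply, Finsupp.mapRange_apply, smul_eq_mul, map_mul]
      ring)

theorem toFr_tmul (ι : Type u) (b : RM σ B) (v : ι →₀ A) :
    toFr σ ι (b ⊗ₜ[A] v) = (show B from b) • v.mapRange σ (map_zero _) := rfl

theorem lTensor_ker_exact {M N : Type u} [AddCommGroup M] [Module A M] [AddCommGroup N] [Module A N] (Q : Type u)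
    [AddCommGroup Q] [Module A Q] (g : M →ₗ[A] N) (hg : Function.Surjective g) :
    Function.Exact (LinearMap.lTensor Q (LinearMap.ker g).subtype) (LinearMap.lTensor Q g) :=
  lTensor_exact Q (LinearMap.exact_subtype_ker_map g) hg

/-- If `1 ⊗ n = 0` then `single n 1` lies in the span of the relations over `B`. -/
theorem mem_span_of_tmul_eq_zero (n : N) (h : uT σ N n = 0) :
    (Finsupp.single n (1 : B)) ∈ Submodule.span B (Set.range
      fun r : LinearMap.ker (Finsupp.linearCombination A (id : N → N)) => r.1.mapRange σ (map_zero _)) := by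
  have hsurj : Function.Surjective (Finsupp.linearCombination A (id : N → N)) := Finsupp.linearCombination_id_surjective A N
  have h0 := lTensor_ker_exact (RM σ B) (Finsupp.linearCombination A (id : N → N)) hsurj
  have h1 := (h0 (uT σ (N →₀ A) (Finsupp.single n (1 : A)))).1 (by
    unfold uT
    rw [LinearMap.lTensor_tmul, Finsupp.linearCombination_single, one_smul]
    exact h)
  obtain ⟨y, hy⟩ := h1
  have h2 : Finsupp.single n (1 : B) = toFr σ N (uT σ (N →₀ A) (Finsupp.single n (1 : A))) := by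
    unfold uT
    rw [toFr_tmul, Finsupp.mapRange_single, map_one]
    exact (one_smul B _).symm
  rw [h2, ← hy]
  clear hy h2 h
  induction y using TensorProduct.induction_on with
  | zero => rw [map_zero, map_zero]; exact Submodule.zero_mem _
  | tmul b r =>
    rw [LinearMap.lTensor_tmul, toFr_tmul]
    exact Submodule.smul_mem _ _ (Submodule.subset_span ⟨r, rfl⟩)
  | add x y hx hy => rw [map_add, map_add]; exact Submodule.add_mem _ hx hy

end Algebra

section Geometry

variable {S : Scheme.{u}} {𝒳 : BasedCategory.{v, w} (Over S)} {A : Type u} [CommRing A] (s : Fn A 𝒳)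
  (N : Type u) [AddCommGroup N] [Module A N]

variable {N} in
/-- The trivialisation. -/
noncomputable def eO {Q : Mod 𝒳} (a : IsTens s N (OQ 𝒳).obj Q) (x : 𝒳.obj) (hx : IsAffine (sch 𝒳 x)) :
    Γ(Q.obj x, ⊤) ≃ₗ[Γ(sch 𝒳 x, ⊤)] T (s.σ x) Γ(sch 𝒳 x, ⊤) N := a.e x hx

variable {N} in
theorem eO_uT {Q : Mod 𝒳} (a : IsTens s N (OQ 𝒳).obj Q) {x' x : 𝒳.obj} (φ : x' ⟶ x) (h' : IsAffine (sch 𝒳 x'))
    (h : IsAffine (sch 𝒳 x)) (y : Γ(Q.obj x, ⊤)) (n : N) (hy : eO s a x h y = uT (s.σ x) N n) :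
    eO s a x' h' (Q.mapTop φ y) = uT (s.σ x') N n := by
  refine (a.comm φ h' h y).trans ?_
  have h1 : a.e x h y = uT (s.σ x) N n := hy
  rw [h1]
  unfold uT
  refine (tmap_tmul N (s.comm φ) (resTop (OQ 𝒳).obj φ) (resTop_smul (OQ 𝒳).obj φ) _ n).trans ?_
  congr 1
  exact (O_mapTop 𝒳 φ (1 : Γ(sch 𝒳 x, ⊤))).trans (map_one (bmap 𝒳 φ).appTop.hom)

/-- the section `1 ⊗ n` -/
theorem exists_sec (h𝒳 : FibCat.IsFibGrpd 𝒳.p) {Q : QCoh 𝒳} (a : IsTens s N (OQ 𝒳).obj Q.obj) (n : N) :
    ∃ y : Q.obj.GlobSect, ∀ (x : 𝒳.obj) (hx : IsAffine (sch 𝒳 x)), eO s a x hx (y.1 x) = uT (s.σ x) N n := by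
  haveI := h𝒳
  obtain ⟨g, hg⟩ := exists_globSect (C := ASieve.all 𝒳) zloc_all Q
    (fun z => (eO s a z.obj z.property).symm (uT (s.σ z.obj) N n)) (fun z' z φ => by
      apply (eO s a z'.obj z'.property).injective
      rw [eO_uT s a φ.hom z'.property z.property _ n (LinearEquiv.apply_symm_apply _ _), LinearEquiv.apply_symm_apply])
  refine ⟨g, fun x hx => ?_⟩
  have h1 := hg ⟨x, hx⟩
  change g.1 x = _ at h1
  rw [h1]
  exact LinearEquiv.apply_symm_apply (eO s a x hx) _

/-- Surjectivity of `N → Γ(𝒳, O ⊗ N)`. -/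
theorem exists_of_globSect (h𝒳 : FibCat.IsFibGrpd 𝒳.p) (hs : IsFn s) (hex : Exact 𝒳) {ζ : 𝒳.obj}
    (hζ : IsAffine (sch 𝒳 ζ)) (hc : Cov1 ζ) {Q : QCoh 𝒳} (a : IsTens s N (OQ 𝒳).obj Q.obj) (y : Q.obj.GlobSect) :
    ∃ n : N, ∀ (x : 𝒳.obj) (hx : IsAffine (sch 𝒳 x)), eO s a x hx (y.1 x) = uT (s.σ x) N n := by
  obtain ⟨Q₀, ⟨e⟩⟩ := exists_free h𝒳 N
  choose t ht using fun n : N => exists_sec s N h𝒳 a n
  obtain ⟨g, hg⟩ := e.exists_hom h𝒳 t
  have hlc : ∀ (x : 𝒳.obj) (hx : IsAffine (sch 𝒳 x)) (c : N →₀ Γ(sch 𝒳 x, ⊤)),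
      eO s a x hx (Finsupp.linearCombination Γ(sch 𝒳 x, ⊤) (fun n => (t n).1 x) c) =
        c.sum fun n b => b • uT (s.σ x) N n := by
    intro x hx c
    rw [Finsupp.linearCombination_apply, Finsupp.sum, map_sum, Finsupp.sum]
    refine Finset.sum_congr rfl fun n _ => ?_
    rw [map_smul, ht n x hx]
  have hsurj : Mod.IsSurj g.hom := by
    intro x hx z
    have h1 : eO s a x hx z ∈ Submodule.span Γ(sch 𝒳 x, ⊤) (Set.range (uT (s.σ x) N)) := by
      rw [span_one_tmul (s.σ x) N]
      trivial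
    rw [Finsupp.mem_span_range_iff_exists_finsupp] at h1
    obtain ⟨c, hc'⟩ := h1
    refine ⟨(e.e x hx).symm c, ?_⟩
    apply (eO s a x hx).injective
    rw [hg x hx, LinearEquiv.apply_symm_apply, hlc, hc']
  obtain ⟨W, hW⟩ := hex g hsurj y
  obtain ⟨c, hc'⟩ := e.exists_coeff s h𝒳 hs hζ hc W
  refine ⟨c.sum fun n r => r • n, fun x hx => ?_⟩
  rw [← hW, Mod.globSectMap_val, hg x hx]
  have h2 : e.e x hx (W.1 x) = c.mapRange (s.σ x) (map_zero _) := by
    ext i
    exact hc' x hx i
  rw [h2, hlc]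
  refine (Finsupp.sum_mapRange_index (h := fun n b => b • uT (s.σ x) N n) (fun i => zero_smul _ _)).trans ?_
  rw [Finsupp.sum, Finsupp.sum, uT_sum]
  refine Finset.sum_congr rfl fun n _ => ?_
  rw [uT_smul]

/-- Injectivity of `N → Γ(𝒳, O ⊗ N)`. -/
theorem eq_zero_of_tmul (h𝒳 : FibCat.IsFibGrpd 𝒳.p) (hs : IsFn s) (hex : Exact 𝒳) (P : K906.Pres 𝒳) {y : 𝒳.obj}
    (hy : IsAffine (sch 𝒳 y)) (hc : Cov1 y) (n : N) (h : uT (s.σ y) N n = 0) : n = 0 := by
  have h1 := mem_span_of_tmul_eq_zero (s.σ y) N n h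
  obtain ⟨Q₀, ⟨e⟩⟩ := exists_free h𝒳 N
  choose sec hsec using fun v : N →₀ A => e.exists_sec s h𝒳 v
  have hval : ∀ (v : N →₀ A) (x : 𝒳.obj) (hx : IsAffine (sch 𝒳 x)),
      e.e x hx ((sec v).1 x) = v.mapRange (s.σ x) (map_zero _) := by
    intro v x hx
    ext i
    exact hsec v x hx i
  obtain ⟨c, hc'⟩ := exists_linComb' s h𝒳 hs hex P hy hc Q₀
    (fun r : LinearMap.ker (Finsupp.linearCombination A (id : N → N)) => sec r.1) (sec (Finsupp.single n 1)) (by
    rw [Finsupp.mem_span_range_iff_exists_finsupp] at h1 ⊢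
    obtain ⟨d, hd⟩ := h1
    refine ⟨d, ?_⟩
    apply (e.e y hy).injective
    rw [hval, Finsupp.mapRange_single, map_one, ← hd, Finsupp.sum, map_sum, Finsupp.sum]
    refine Finset.sum_congr rfl fun r _ => ?_
    rw [map_smul, hval])
  have h2 : Finsupp.single n (1 : A) = c.sum fun r a => a • r.1 := by
    ext i
    apply fn_injective s h𝒳 hs hc
    have h3 := congrArg (fun k : N →₀ Γ(sch 𝒳 y, ⊤) => k i) (congrArg (e.e y hy) (hc' y hy))
    have h4 : e.e y hy ((sec (Finsupp.single n 1)).1 y) i =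
      e.e y hy (c.sum (fun r a => (s.σ y a : Γ(sch 𝒳 y, ⊤)) • (sec r.1).1 y)) i := h3
    rw [hval, Finsupp.mapRange_apply, Finsupp.sum, map_sum, Finsupp.finsetSum_apply] at h4
    rw [h4, Finsupp.sum, Finsupp.finsetSum_apply, map_sum]
    refine Finset.sum_congr rfl fun r _ => ?_
    rw [map_smul, Finsupp.smul_apply, Finsupp.smul_apply, hval, Finsupp.mapRange_apply]
    change s.σ y (c r) * s.σ y (r.1 i) = s.σ y (c r * r.1 i)
    rw [map_mul]
  have h3 := congrArg (Finsupp.linearCombination A (id : N → N)) h2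
  rw [Finsupp.linearCombination_single, one_smul, Finsupp.sum, map_sum] at h3
  refine Eq.trans (h3 : n = _) (Finset.sum_eq_zero fun r _ => ?_)
  rw [map_smul, LinearMap.mem_ker.1 r.2, smul_zero]

end Geometry

end K907.TensSec
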