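import Groth.Prelude.Def_StMod2
import Groth.Prelude.Def_AlgSt2

/-!
# Terminal objects in the category of pairs `(ξ, π ξ ⟶ η)` and sections of pushforwards

For `π : 𝒳 ⥤ᵇ AlgSt.ofSp M` and an object `η` of `AlgSt.ofSp M`, the functor `yo η : (Sch/η.base) ⥤ᵇ ofSp M`,
the correspondence between pairs `(ξ, α : π ξ ⟶ η)` and objects of `FibCat.fp (yo η) π`, and: if
`FibCat.fp (yo η) π` has a terminal object `z` then a section of `π_* F` over `η` is the same as a global section of
`F` over `z.snd`.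
-/

set_option autoImplicit false
set_option backward.isDefEq.respectTransparency false
set_option backward.isDefEq.respectTransparency.types false

universe w v u

open CategoryTheory CategoryTheory.Limits AlgebraicGeometry Opposite

namespace K907.Term

variable {S : Scheme.{u}}

/-- the functor over `(Sch/S)` from the slice to `ofSp M` given by a section. -/
def yo {M : AlgSp.Sp S} (η : (AlgSt.ofSp M).obj) : FibCat.overCat η.base ⥤ᵇ AlgSt.ofSp M where
  toFunctor :=
    { obj := fun g => ⟨g.left, M.obj.map g.hom.op η.sec⟩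
      map := fun {g h} k => ⟨k.left, by
        change M.obj.map k.left.op (M.obj.map h.hom.op η.sec) = M.obj.map g.hom.op η.sec
        rw [← Functor.map_comp_apply, ← op_comp, Over.w k]⟩ }
  w := rfl

/-- the canonical arrow `yo η g ⟶ η`. -/
def yoTo {M : AlgSp.Sp S} (η : (AlgSt.ofSp M).obj) (g : Over η.base) : (yo η).obj g ⟶ η :=
  ⟨g.hom, rfl⟩

theorem yo_map_yoTo {M : AlgSp.Sp S} (η : (AlgSt.ofSp M).obj) {g h : Over η.base} (k : g ⟶ h) :
    (yo η).map k ≫ yoTo η h = yoTo η g :=
  Stk.EltObj.hom_ext (Over.w k)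

section

variable {𝒳 : BasedCategory.{v, w} (Over S)} {M : AlgSp.Sp S} (π : 𝒳 ⥤ᵇ AlgSt.ofSp M) (η : (AlgSt.ofSp M).obj)

/-- the isomorphism over the identity relating `yo η (α)` with `π ξ`. -/
def pairIso {ξ : 𝒳.obj} (α : π.obj ξ ⟶ η) : (yo η).obj (Over.mk α.hom) ≅ π.obj ξ where
  hom := ⟨𝟙 _, by
    change M.obj.map (𝟙 _) (π.obj ξ).sec = M.obj.map α.hom.op η.sec
    rw [M.obj.map_id, α.map_sec]; rfl⟩
  inv := ⟨𝟙 _, by
    change M.obj.map (𝟙 _) (M.obj.map α.hom.op η.sec) = (π.obj ξ).sec
    rw [M.obj.map_id, α.map_sec]; rfl⟩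
  hom_inv_id := Stk.EltObj.hom_ext (Category.id_comp _)
  inv_hom_id := Stk.EltObj.hom_ext (Category.id_comp _)

/-- the object of the 2-fibre product attached to a pair. -/
def pairObj {ξ : 𝒳.obj} (α : π.obj ξ ⟶ η) : (FibCat.fp (yo η) π).obj :=
  ⟨{ fst := Over.mk α.hom
     snd := ξ
     iso := pairIso π η α }, by
    change (AlgSt.ofSp M).p.IsHomLift (𝟙 ((AlgSt.ofSp M).p.obj ((yo η).obj (Over.mk α.hom)))) (pairIso π η α).hom
    exact IsHomLift.map (AlgSt.ofSp M).p (pairIso π η α).hom⟩

/-- the arrow `π z.snd ⟶ η` of an object of the 2-fibre product. -/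
def arr (z : (FibCat.fp (yo η) π).obj) : π.obj z.obj.snd ⟶ η := z.obj.iso.inv ≫ yoTo η z.obj.fst

theorem map_snd_arr {z z' : (FibCat.fp (yo η) π).obj} (f : z ⟶ z') :
    π.map f.hom.snd ≫ arr π η z' = arr π η z := by
  have h : (yo η).map f.hom.fst ≫ z'.obj.iso.hom = z.obj.iso.hom ≫ π.map f.hom.snd := f.hom.w
  unfold arr
  rw [Iso.eq_inv_comp, ← Category.assoc, ← h, Category.assoc, Iso.hom_inv_id_assoc, yo_map_yoTo]

theorem arr_pairObj {ξ : 𝒳.obj} (α : π.obj ξ ⟶ η) : arr π η (pairObj π η α) = α :=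
  Stk.EltObj.hom_ext (Category.id_comp _)

/-- A morphism of pairs gives a morphism in the 2-fibre product. -/
def pairMap {ξ : 𝒳.obj} (α : π.obj ξ ⟶ η) (z : (FibCat.fp (yo η) π).obj) (φ : ξ ⟶ z.obj.snd)
    (h : π.map φ ≫ arr π η z = α) : pairObj π η α ⟶ z :=
  ObjectProperty.homMk
    { fst := Over.homMk ((pairIso π η α).hom ≫ π.map φ ≫ z.obj.iso.inv).hom (by
        have e := congrArg Stk.EltObj.Hom.hom h
        have e' : (π.map φ).hom ≫ z.obj.iso.inv.hom ≫ z.obj.fst.hom = α.hom := e
        change (𝟙 _ ≫ (π.map φ).hom ≫ z.obj.iso.inv.hom) ≫ z.obj.fst.hom = α.hom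
        rw [Category.id_comp, Category.assoc, e'])
      snd := φ
      w := by
        change (yo η).map _ ≫ z.obj.iso.hom = (pairIso π η α).hom ≫ π.map φ
        have : (yo η).map (Over.homMk ((pairIso π η α).hom ≫ π.map φ ≫ z.obj.iso.inv).hom (by
            have e := congrArg Stk.EltObj.Hom.hom h
            have e' : (π.map φ).hom ≫ z.obj.iso.inv.hom ≫ z.obj.fst.hom = α.hom := e
            change (𝟙 _ ≫ (π.map φ).hom ≫ z.obj.iso.inv.hom) ≫ z.obj.fst.hom = α.hom
            rw [Category.id_comp, Category.assoc, e']) : Over.mk α.hom ⟶ z.obj.fst) =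
            (pairIso π η α).hom ≫ π.map φ ≫ z.obj.iso.inv := Stk.EltObj.hom_ext rfl
        rw [this, Category.assoc, Category.assoc, Iso.inv_hom_id, Category.comp_id] }

variable {π η}

/-- If `z` is terminal in the 2-fibre product then every pair `(ξ, α)` maps uniquely to `(z.snd, arr z)`. -/
theorem existsUnique_of_isTerminal {z : (FibCat.fp (yo η) π).obj} (hz : IsTerminal z) {ξ : 𝒳.obj}
    (α : π.obj ξ ⟶ η) : ∃! φ : ξ ⟶ z.obj.snd, π.map φ ≫ arr π η z = α := by
  refine ⟨(hz.from (pairObj π η α)).hom.snd, ?_, ?_⟩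
  · have := map_snd_arr π η (hz.from (pairObj π η α))
    rw [arr_pairObj] at this
    exact this
  · intro φ h
    have := hz.hom_ext (pairMap π η α z φ h) (hz.from (pairObj π η α))
    exact congrArg (fun f => f.hom.snd) this

/-- Sections of the pushforward over `η` are determined by, and may be prescribed by, their value at a
terminal pair. -/
theorem relSect_ext_of_isTerminal {z : (FibCat.fp (yo η) π).obj} (hz : IsTerminal z) {F : StMod.Mod 𝒳}
    {s t : StMod.Mod.RelSect π F η} (h : s.1 z.obj.snd (arr π η z) = t.1 z.obj.snd (arr π η z)) : s = t := by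
  apply StMod.Mod.RelSect.ext
  intro ξ α
  obtain ⟨φ, hφ, -⟩ := existsUnique_of_isTerminal hz α
  subst hφ
  rw [← s.2 φ, ← t.2 φ, h]

/-- the section of the pushforward with given value at a terminal pair. -/
noncomputable def relSectMk {z : (FibCat.fp (yo η) π).obj} (hz : IsTerminal z) (F : StMod.Mod 𝒳)
    (x : Γ(F.obj z.obj.snd, ⊤)) : StMod.Mod.RelSect π F η :=
  ⟨fun ξ α => F.mapTop (existsUnique_of_isTerminal hz α).choose x, by
    intro ξ' ξ φ α
    rw [← StMod.Mod.mapTop_comp]
    congr 1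
    apply (existsUnique_of_isTerminal hz (π.map φ ≫ α)).unique
    · rw [Functor.map_comp, Category.assoc, (existsUnique_of_isTerminal hz α).choose_spec.1]
    · exact (existsUnique_of_isTerminal hz (π.map φ ≫ α)).choose_spec.1⟩

theorem relSectMk_val {z : (FibCat.fp (yo η) π).obj} (hz : IsTerminal z) (F : StMod.Mod 𝒳)
    (x : Γ(F.obj z.obj.snd, ⊤)) : (relSectMk hz F x).1 z.obj.snd (arr π η z) = x := by
  change F.mapTop (existsUnique_of_isTerminal hz (arr π η z)).choose x = x
  have : (existsUnique_of_isTerminal hz (arr π η z)).choose = 𝟙 _ := by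
    apply (existsUnique_of_isTerminal hz (arr π η z)).unique
    · exact (existsUnique_of_isTerminal hz (arr π η z)).choose_spec.1
    · rw [CategoryTheory.Functor.map_id, Category.id_comp]
  rw [this, StMod.Mod.mapTop_id]

/-- If the 2-fibre product has a terminal object lying over an affine scheme, the map on sections of pushforwards
induced by a surjection is surjective. -/
theorem relSectMap_surjective_of_isTerminal {z : (FibCat.fp (yo η) π).obj} (hz : IsTerminal z)
    (ha : IsAffine (StMod.sch 𝒳 z.obj.snd)) {F G : StMod.Mod 𝒳} (u : F ⟶ G) (hu : StMod.Mod.IsSurj u) :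
    Function.Surjective (StMod.Mod.relSectMap π u η) := by
  intro t
  obtain ⟨x, hx⟩ := hu z.obj.snd ha (t.1 z.obj.snd (arr π η z))
  refine ⟨relSectMk hz F x, relSect_ext_of_isTerminal hz ?_⟩
  rw [StMod.Mod.relSectMap_val, relSectMk_val, hx]

end

end K907.Term
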