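import Groth.Agent.StMod.K907.UnitAll

/-!
# Good moduli spaces over a terminal affine object

`q : 𝒳' ⥤ᵇ 𝒴'`, `τ` terminal in `𝒴'`: sections of `q_* F` over `τ` are global sections of `F`.
* `exact_of_surj`, `fnτ`, `isFnτ`;
* `surjective_fp` : for `π : 𝒳 ⟶ M` cohomologically affine and any `g : 𝒴' ⥤ᵇ ofSp M`, pushforward along `fpFst g π` is exact
  over affine objects; hence `exact_fp`, `isFn_fp` when `𝒴'` has a terminal object over an affine scheme.
-/

set_option autoImplicit false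
set_option linter.unusedVariables false
set_option linter.style.haveILetI false
set_option backward.isDefEq.respectTransparency false
set_option backward.isDefEq.respectTransparency.types false

universe t w' v' w v u

open CategoryTheory CategoryTheory.Limits AlgebraicGeometry Opposite StMod AlgSt AlgSp

namespace K907.TermE

open K906 K906.SpGeo K906.BaseCh K907.Free K907.Sec K907.Tens K907.QDesc

section Term

variable {S : Scheme.{u}} {𝒳' : BasedCategory.{v, w} (Over S)} {𝒴' : BasedCategory.{v', w'} (Over S)}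
  (q : 𝒳' ⥤ᵇ 𝒴') {τ : 𝒴'.obj} (tm : ∀ y : 𝒴'.obj, Unique (y ⟶ τ))

/-- Sections over a terminal object are global sections. -/
def toG {F : Mod 𝒳'} (s : Mod.RelSect q F τ) : F.GlobSect :=
  ⟨fun ξ => s.1 ξ (tm _).default, fun ξ' ξ φ => (s.2 φ _).trans (congrArg (s.1 ξ') ((tm _).uniq _))⟩

/-- Global sections as sections over an object. -/
def ofG {F : Mod 𝒳'} (t : F.GlobSect) : Mod.RelSect q F τ := ⟨fun ξ _ => t.1 ξ, fun ξ' ξ φ _ => t.2 φ⟩

include tm in
theorem exact_of_surj (h : ∀ ⦃F G : QCoh 𝒳'⦄ (u : F ⟶ G), Mod.IsSurj u.hom →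
    Function.Surjective (Mod.relSectMap q u.hom τ)) : Free.Exact 𝒳' := by
  intro F G u hu t
  obtain ⟨s, hs⟩ := h u hu (ofG q t)
  refine ⟨toG q tm s, ?_⟩
  apply Mod.GlobSect.ext
  intro ξ
  exact congrArg (fun k : Mod.RelSect q G.obj τ => k.1 ξ (tm _).default) hs

/-- The functions of the terminal object. -/
noncomputable def fnτ : Fn Γ(sch 𝒴' τ, ⊤) 𝒳' where
  σ x := (baseOver q x (tm _).default).left.appTop.hom
  comm {x' x} φ := by
    ext r
    change (bmap 𝒳' φ).appTop ((baseOver q x (tm _).default).left.appTop r) = (baseOver q x' (tm _).default).left.appTop r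
    have h1 : q.map φ ≫ (tm (q.obj x)).default = (tm (q.obj x')).default := (tm _).uniq _
    rw [← h1, ← bmap_comp_baseOver_left, Scheme.Hom.comp_appTop]
    rfl

theorem fnτ_σ (x : 𝒳'.obj) (α : q.obj x ⟶ τ) (r : Γ(sch 𝒴' τ, ⊤)) :
    (fnτ q tm).σ x r = (baseOver q x α).left.appTop r := by
  rw [(tm _).uniq α]
  rfl

theorem isFnτ (h : Function.Bijective (unitSect q τ)) : IsFn (fnτ q tm) := by
  constructor
  · intro a b hab
    apply h.1
    apply Mod.RelSect.ext
    intro ξ α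
    rw [unitSect_val, unitSect_val, ← fnτ_σ q tm, ← fnτ_σ q tm]
    exact congrArg (fun k : (O 𝒳').GlobSect => k.1 ξ) hab
  · intro g
    obtain ⟨r, hr⟩ := h.2 (ofG q g)
    refine ⟨r, ?_⟩
    apply Mod.GlobSect.ext
    intro y
    exact congrArg (fun k : Mod.RelSect q (O 𝒳') τ => k.1 y (tm _).default) hr

end Term

section Fp

variable {S : Scheme.{u}} {𝒳 : BasedCategory.{v, w} (Over S)} {𝒴' : BasedCategory.{v', w'} (Over S)} {M : Sp S}

/-- Pushforward along the base change of a cohomologically affine morphism is exact over affine objects. -/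
theorem surjective_fp (h𝒳 : FibCat.IsFibGrpd 𝒳.p) (h𝒴' : FibCat.IsFibGrpd 𝒴'.p) (hM : IsAlgSpace M)
    (π : 𝒳 ⥤ᵇ ofSp M) (g : 𝒴' ⥤ᵇ ofSp M)
    (hex : ∀ E : EtOver M, IsAffine E.obj.left.left → K906.Exact (K906.fibCat π (etaOf E))) {η : 𝒴'.obj}
    (hη : IsAffine (sch 𝒴' η)) (P : Pres (K906.fibCat (FibCat.fpFst g π) η)) {F G : QCoh (FibCat.fp g π)} (u : F ⟶ G)
    (hu : Mod.IsSurj u.hom) : Function.Surjective (Mod.relSectMap (FibCat.fpFst g π) u.hom η) := by
  have hMf : FibCat.IsFibGrpd (ofSp M).p := FibTerm.isFibGrpd_ofSp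
  refine FlatLoc.surjective_relSectMap_of_flat_local (K735.Fp.isFibGrpd_fp h𝒴' h𝒳 hMf _ π) h𝒴' hη P u.hom
    fun x => ?_
  let e₀ : 𝒴'.p.obj η ≅ (g.obj η).base := eqToIso (g.w_obj η).symm
  obtain ⟨V, j, E, k, h1, h2, h3, h4, h5⟩ := exists_et_factor hM (toMap (g.obj η)) (e₀.hom.left x)
  obtain ⟨η', φ, e, hφ⟩ := Grpd.exists_lift_iso h𝒴' η (j ≫ e₀.inv)
  haveI := Span.isIso_left e₀.symm
  haveI := Span.isIso_left e
  have hφl : bmap 𝒴' φ = e.hom.left ≫ j.left ≫ e₀.inv.left := congrArg (fun t => t.left) hφ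
  have hη' : IsAffine (sch 𝒴' η') := IsAffine.of_isIso e.hom.left
  let κ : g.obj η' ⟶ etaOf E := homMk (eqToHom (g.w_obj η') ≫ e.hom ≫ k) (by
    rw [toMap_etaOf, Functor.map_comp, Functor.map_comp, Category.assoc, Category.assoc, ← h5, ← toMap_comp (g.map φ)]
    have h6 : (g.map φ).hom = eqToHom (g.w_obj η') ≫ e.hom ≫ j := by
      have h7 : (g.map φ).hom = eqToHom (g.w_obj η') ≫ 𝒴'.p.map φ ≫ eqToHom (g.w_obj η).symm := K735.Fib.map_map g φ
      rw [h7, hφ, Category.assoc, Category.assoc]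
      congr 2
      change j ≫ e₀.inv ≫ e₀.hom = j
      rw [Iso.inv_hom_id, Category.comp_id]
    rw [h6, Functor.map_comp, Functor.map_comp, Category.assoc, Category.assoc])
  refine ⟨η', φ, ⟨hη', ?_, ?_⟩, ?_⟩
  · rw [hφl]
    infer_instance
  · obtain ⟨v, hv⟩ := h3
    refine ⟨(inv e.hom.left) v, ?_⟩
    rw [hφl]
    have h8 : (inv e.hom.left ≫ e.hom.left ≫ j.left ≫ e₀.inv.left) v = (j.left ≫ e₀.inv.left) v := by
      rw [IsIso.inv_hom_id_assoc]
    have h9 : (e₀.hom ≫ e₀.inv).left x = x := by rw [Iso.hom_inv_id]; rfl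
    refine Eq.trans h8 (Eq.trans ?_ h9)
    exact congrArg e₀.inv.left hv
  · exact AffFp.surjective_relSectMap_of_exact (AffFp.exact_fibCat_fpFst π g h𝒳 hMf h𝒴' κ hη' h4 (hex E h4)) u hu

end Fp

end K907.TermE
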