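import Groth.Agent.StMod.K907.TensSec
import Groth.Agent.StMod.K906.FibCat

/-!
# The unit after an affine base change

`bijective_unitSect_of_affine`: for `k : η' ⟶ η` with `η'`, `η` affine, if global sections are exact on `fibCat π η`, which
has an affine presentation, and the unit of `π` is bijective over `η`, then it is bijective over `η'`.
-/

set_option autoImplicit false
set_option linter.unusedVariables false
set_option linter.style.haveILetI false
set_option backward.isDefEq.respectTransparency false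
set_option backward.isDefEq.respectTransparency.types false

universe t w' v' w v u

open CategoryTheory CategoryTheory.Limits AlgebraicGeometry Opposite StMod AlgSt AlgSp TensorProduct

namespace K907.UnitBC

open K906 K907.Free K907.Sec K907.Atl K907.Tens K907.Gen K907.TensSec K908.AMod K908.Fam K908.Ext K908.QSec K908.QHom

section Algebra

variable {A B A' B' : Type u} [CommRing A] [CommRing B] [CommRing A'] [CommRing B']

/-- Pure tensors. -/
noncomputable def tm (σ : A →+* B) (ρ : A →+* A') (b : B) (n : A') : T σ B (RM ρ A') :=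
  TensorProduct.mk A (RM σ B) (RM ρ A') b n

theorem uT_eq_tm (σ : A →+* B) (ρ : A →+* A') (n : A') : uT σ (RM ρ A') n = tm σ ρ 1 n := rfl

theorem tm_induction (σ : A →+* B) (ρ : A →+* A') {p : T σ B (RM ρ A') → Prop} (h0 : p 0) (h1 : ∀ b n, p (tm σ ρ b n))
    (h2 : ∀ x y, p x → p y → p (x + y)) (x : T σ B (RM ρ A')) : p x :=
  TensorProduct.induction_on x h0 (fun b n => h1 b n) h2

/-- The tensor product of rings is the pushout. -/
theorem exists_equiv_of_isPushout (σ : A →+* B) (ρ : A →+* A') (i : B →+* B') (j : A' →+* B')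
    (h : IsPushout (CommRingCat.ofHom σ) (CommRingCat.ofHom ρ) (CommRingCat.ofHom i) (CommRingCat.ofHom j)) :
    ∃ e : T σ B (RM ρ A') ≃+ B', ∀ (b : B) (a : A'), e (tm σ ρ b a) = i b * j a := by
  letI : Algebra A B := σ.toAlgebra
  letI : Algebra A A' := ρ.toAlgebra
  letI : Algebra B B' := i.toAlgebra
  letI : Algebra A' B' := j.toAlgebra
  letI : Algebra A B' := (i.comp σ).toAlgebra
  haveI : IsScalarTower A B B' := IsScalarTower.of_algebraMap_eq' rfl
  haveI : IsScalarTower A A' B' := IsScalarTower.of_algebraMap_eq' (by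
    have h1 := congrArg CommRingCat.Hom.hom h.w
    exact h1)
  have hpo : Algebra.IsPushout A B A' B' := CommRingCat.isPushout_iff_isPushout.mp h
  let e : B ⊗[A] A' ≃ₗ[B] B' := hpo.out.equiv
  refine ⟨e.toAddEquiv, fun b a => ?_⟩
  change e (b ⊗ₜ[A] a) = i b * j a
  rw [IsBaseChange.equiv_tmul]
  rfl

end Algebra

section Geometry

variable {S : Scheme.{u}} {𝒳 : BasedCategory.{v, w} (Over S)} {𝒴 : BasedCategory.{v', w'} (Over S)}

section Fn

variable (π : 𝒳 ⥤ᵇ 𝒴) (η : 𝒴.obj)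

/-- The functions of `η` on `fibCat π η`. -/
noncomputable def fnη : Fn Γ(sch 𝒴 η, ⊤) (fibCat π η) where
  σ y := (fbase y).left.appTop.hom
  comm {x' x} φ := by
    ext r
    change (bmap 𝒳 (FObj.Hom.hom φ)).appTop ((fbase x).left.appTop r) = (fbase x').left.appTop r
    rw [← bmap_fbase φ, Scheme.Hom.comp_appTop]
    rfl

theorem fnη_σ (y : (fibCat π η).obj) (r : Γ(sch 𝒴 η, ⊤)) :
    (fnη π η).σ y r = (baseOver π (FObj.pt y) (FObj.arr y)).left.appTop r := rfl

theorem isFnη (h : Function.Bijective (unitSect π η)) : IsFn (fnη π η) := by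
  constructor
  · intro a b hab
    apply h.1
    apply Mod.RelSect.ext
    intro ξ α
    exact congrArg (fun k : (O (fibCat π η)).GlobSect => k.1 (⟨ξ, α⟩ : FObj π η)) hab
  · intro g
    let g' : (ResPt.resMod π η (O 𝒳)).GlobSect := ⟨g.1, fun a b φ => g.2 φ⟩
    obtain ⟨r, hr⟩ := h.2 (ResPt.ofGlob g')
    refine ⟨r, ?_⟩
    apply Mod.GlobSect.ext
    intro y
    exact congrArg (fun k : Mod.RelSect π (O 𝒳) η => k.1 (FObj.pt y) (FObj.arr y)) hr

end Fn

variable {π : 𝒳 ⥤ᵇ 𝒴} {η' η : 𝒴.obj} (k : η' ⟶ η)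

/-- The map of rings. -/
noncomputable def rk : Γ(sch 𝒴 η, ⊤) →+* Γ(sch 𝒴 η', ⊤) := (bmap 𝒴 k).appTop.hom

/-- The map of rings. -/
noncomputable def ri {b : (fibCat π η').obj} {z : (fibCat π η).obj} (c : (fibMap π k).obj b ⟶ z) :
    Γ(sch (fibCat π η) z, ⊤) →+* Γ(sch (fibCat π η') b, ⊤) := (bmap 𝒳 (FObj.Hom.hom c)).appTop.hom

/-- The data of a base change of `z` along `k`. -/
structure BCObj (z : (fibCat π η).obj) where
  b : (fibCat π η').obj
  c : (fibMap π k).obj b ⟶ z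
  sq : IsPullback (𝒳.p.map (FObj.Hom.hom c)) (fbase b) (fbase z) (𝒴.p.map k)
  aff : IsAffine (sch (fibCat π η') b)
  e : T ((fnη π η).σ z) Γ(sch (fibCat π η) z, ⊤) (RM (rk k) Γ(sch 𝒴 η', ⊤)) ≃+ Γ(sch (fibCat π η') b, ⊤)
  he : ∀ (x : Γ(sch (fibCat π η) z, ⊤)) (n : Γ(sch 𝒴 η', ⊤)),
    e (tm ((fnη π η).σ z) (rk k) x n) = ri k c x * (fnη π η').σ b n

theorem nonempty_bcObj (h𝒳 : FibCat.IsFibGrpd 𝒳.p) (h𝒴 : FibCat.IsFibGrpd 𝒴.p) (hη : IsAffine (sch 𝒴 η))
    (hη' : IsAffine (sch 𝒴 η')) (z : (fibCat π η).obj) (hz : IsAffine (sch (fibCat π η) z)) :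
    Nonempty (BCObj k z) := by
  obtain ⟨b, c, hp⟩ := K906.exists_bc h𝒳 h𝒴 k z
  have hl := K906.isPullback_left k hp
  have h0 : IsAffine (sch 𝒳 (FObj.pt z)) := hz
  have h1 : IsAffine (𝒳.p.obj (FObj.pt z)).left := hz
  have h2 : IsAffine (𝒴.p.obj η').left := hη'
  have h3 : IsAffine (𝒴.p.obj η).left := hη
  have haff : IsAffine (sch 𝒳 (FObj.pt b)) := K907.Sec.isAffine_of_isPullback hl
  have hpo := isPushout_appTop_of_isPullback hl
  obtain ⟨e, he⟩ := exists_equiv_of_isPushout ((fnη π η).σ z) (rk k) (ri k c) ((fnη π η').σ b) hpo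
  exact ⟨⟨b, c, hp, haff, e, he⟩⟩

variable {k} in
/-- Compatibility of the trivialisations of base changes. -/
theorem e_tmap {z z' : (fibCat π η).obj} (B : BCObj k z) (B' : BCObj k z') (φ : z' ⟶ z) (χ : B'.b ⟶ B.b)
    (hχ : (fibMap π k).map χ ≫ B.c = B'.c ≫ φ)
    (t : T ((fnη π η).σ z) Γ(sch (fibCat π η) z, ⊤) (RM (rk k) Γ(sch 𝒴 η', ⊤))) :
    B'.e (tmap (RM (rk k) Γ(sch 𝒴 η', ⊤)) ((fnη π η).comm φ) (resTop (OQ (fibCat π η)).obj φ)
      (resTop_smul (OQ (fibCat π η)).obj φ) t) = (bmap (fibCat π η') χ).appTop (B.e t) := by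
  let χ₀ : FObj.pt B'.b ⟶ FObj.pt B.b := FObj.Hom.hom χ
  let c₀ : FObj.pt B.b ⟶ FObj.pt z := FObj.Hom.hom B.c
  let c₀' : FObj.pt B'.b ⟶ FObj.pt z' := FObj.Hom.hom B'.c
  let φ₀ : FObj.pt z' ⟶ FObj.pt z := FObj.Hom.hom φ
  have hb : bmap 𝒳 χ₀ ≫ bmap 𝒳 c₀ = bmap 𝒳 c₀' ≫ bmap 𝒳 φ₀ := by
    have h2 : χ₀ ≫ c₀ = c₀' ≫ φ₀ := congrArg FObj.Hom.hom hχ
    rw [← bmap_comp, h2, bmap_comp]
  induction t using tm_induction with
  | h0 => rw [map_zero, map_zero, map_zero, map_zero]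
  | h1 x n =>
    have h1 : tmap (RM (rk k) Γ(sch 𝒴 η', ⊤)) ((fnη π η).comm φ) (resTop (OQ (fibCat π η)).obj φ)
        (resTop_smul (OQ (fibCat π η)).obj φ) (tm ((fnη π η).σ z) (rk k) x n) =
        tm ((fnη π η).σ z') (rk k) ((bmap (fibCat π η) φ).appTop x) n :=
      congrArg (fun t => tm ((fnη π η).σ z') (rk k) t n) (O_mapTop (fibCat π η) φ x)
    rw [h1, B'.he, B.he]
    have h2 : (bmap (fibCat π η') χ).appTop (ri k B.c x * (fnη π η').σ B.b n) =
        (bmap (fibCat π η') χ).appTop (ri k B.c x) * (bmap (fibCat π η') χ).appTop ((fnη π η').σ B.b n) :=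
      map_mul (bmap (fibCat π η') χ).appTop.hom _ _
    rw [h2]
    congr 1
    · have h3 := congrArg (fun t : Γ(sch 𝒳 (FObj.pt z), ⊤) ⟶ Γ(sch 𝒳 (FObj.pt B'.b), ⊤) => t x)
        ((Scheme.Hom.comp_appTop _ _).symm.trans ((congrArg Scheme.Hom.appTop hb).trans (Scheme.Hom.comp_appTop _ _)))
      exact h3.symm
    · exact (congrArg (fun t : Γ(sch 𝒴 η', ⊤) →+* _ => t n) ((fnη π η').comm χ)).symm
  | h2 x y hx hy => rw [map_add, map_add, hx, hy, map_add, map_add]

include k in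
/-- THE UNIT AFTER AN AFFINE BASE CHANGE. -/
theorem bijective_unitSect_of_affine (h𝒳 : FibCat.IsFibGrpd 𝒳.p) (h𝒴 : FibCat.IsFibGrpd 𝒴.p)
    (hη : IsAffine (sch 𝒴 η)) (hη' : IsAffine (sch 𝒴 η')) (hex : Free.Exact (fibCat π η)) (P : Pres (fibCat π η))
    (hu : Function.Bijective (unitSect π η)) : Function.Bijective (unitSect π η') := by
  haveI := h𝒳
  have hf : FibCat.IsFibGrpd (fibCat π η).p := isFibGrpd_fibCat h𝒳
  haveI := hf
  have hs := isFnη π η hu
  have hcP : Cov1 P.ζ := Chart.cov1_of_pres P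
  have hB := fun z : (ASieve.all (fibCat π η)).cat.obj => nonempty_bcObj k h𝒳 h𝒴 hη hη' z.obj z.property
  let B : ∀ z : (ASieve.all (fibCat π η)).cat.obj, BCObj k z.obj := fun z => (hB z).some
  obtain ⟨Q, ⟨a⟩⟩ := exists_tens (fnη π η) (RM (rk k) Γ(sch 𝒴 η', ⊤)) hf (OQ (fibCat π η))
  constructor
  · rw [injective_iff_map_eq_zero]
    intro n hn
    let y : (ASieve.all (fibCat π η)).cat.obj := ⟨P.ζ, P.affζ⟩
    refine eq_zero_of_tmul (fnη π η) (RM (rk k) Γ(sch 𝒴 η', ⊤)) hf hs hex P P.affζ hcP n ?_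
    apply (B y).e.injective
    rw [map_zero]
    refine ((B y).he 1 n).trans ?_
    rw [map_one, one_mul]
    exact congrArg (fun t : Mod.RelSect π (O 𝒳) η' => t.1 (FObj.pt (B y).b) (FObj.arr (B y).b)) hn
  · intro s
    obtain ⟨Y, hY⟩ := exists_globSect (C := ASieve.all (fibCat π η)) zloc_all Q
      (fun z => (eO (fnη π η) a z.obj z.property).symm ((B z).e.symm (s.1 (FObj.pt (B z).b) (FObj.arr (B z).b))))
      (fun z' z φ => by
        obtain ⟨χ, hχ, -⟩ := existsUnique_bc_hom h𝒳 h𝒴 k (B z).sq ((B z').c ≫ φ.hom)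
        apply (eO (fnη π η) a z'.obj z'.property).injective
        rw [LinearEquiv.apply_symm_apply]
        refine (a.comm φ.hom z'.property z.property _).trans ?_
        apply (B z').e.injective
        rw [AddEquiv.apply_symm_apply]
        refine (e_tmap (B z) (B z') φ.hom χ hχ _).trans ?_
        have h1 : (B z).e (a.e z.obj z.property ((eO (fnη π η) a z.obj z.property).symm
            ((B z).e.symm (s.1 (FObj.pt (B z).b) (FObj.arr (B z).b))))) = s.1 (FObj.pt (B z).b) (FObj.arr (B z).b) := by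
          have h2 := LinearEquiv.apply_symm_apply (eO (fnη π η) a z.obj z.property)
            ((B z).e.symm (s.1 (FObj.pt (B z).b) (FObj.arr (B z).b)))
          exact (congrArg (B z).e h2).trans (AddEquiv.apply_symm_apply _ _)
        rw [h1]
        have h3 := s.2 (FObj.Hom.hom χ) (FObj.arr (B z).b)
        rw [O_mapTop] at h3
        refine h3.trans ?_
        exact congrArg (s.1 (FObj.pt (B z').b)) (FObj.Hom.comm χ))
    obtain ⟨n, hn⟩ := exists_of_globSect (fnη π η) (RM (rk k) Γ(sch 𝒴 η', ⊤)) hf hs hex P.affζ hcP a Y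
    have key : ∀ z : (ASieve.all (fibCat π η)).cat.obj,
        s.1 (FObj.pt (B z).b) (FObj.arr (B z).b) = (fnη π η').σ (B z).b n := by
      intro z
      have h1 := hn z.obj z.property
      rw [hY z, LinearEquiv.apply_symm_apply, AddEquiv.symm_apply_eq] at h1
      refine h1.trans (((B z).he 1 n).trans ?_)
      rw [map_one, one_mul]
    refine ⟨n, ?_⟩
    refine K908.QHom.relSect_ext (C := ASieve.all 𝒳) zloc_all π (OQ 𝒳) η' fun ζ α => ?_
    let z : (ASieve.all (fibCat π η)).cat.obj := ⟨⟨ζ.obj, α ≫ k⟩, ζ.property⟩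
    let w₀ : FObj π η' := ⟨ζ.obj, α⟩
    obtain ⟨χ, hχ, -⟩ := existsUnique_bc_hom h𝒳 h𝒴 k (B z).sq (z := w₀) (𝟙 z.obj)
    have h1 := s.2 (FObj.Hom.hom χ) (FObj.arr (B z).b)
    have h2 : s.1 ζ.obj (π.map (FObj.Hom.hom χ) ≫ FObj.arr (B z).b) = s.1 ζ.obj α :=
      congrArg (s.1 ζ.obj) (FObj.Hom.comm χ)
    rw [← h2]
    refine Eq.trans ?_ h1
    rw [key z, O_mapTop]
    exact (congrArg (fun t : Γ(sch 𝒴 η', ⊤) →+* _ => t n) ((fnη π η').comm χ)).symm

end Geometry

end K907.UnitBC
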