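import Groth.Agent.StMod.K907.ClosedPt
import Groth.Agent.StMod.K907.TermE
import Groth.Agent.StMod.K907.HasCov
import Groth.Agent.AlgSt.K735.DvrMain

/-!
# Good moduli spaces are surjective and universally closed
-/

set_option autoImplicit false
set_option linter.unusedVariables false
set_option linter.style.haveILetI false
set_option backward.isDefEq.respectTransparency false
set_option backward.isDefEq.respectTransparency.types false

universe t w' v' w v u

open CategoryTheory CategoryTheory.Limits AlgebraicGeometry Opposite StMod AlgSt AlgSp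

namespace K907.UnivCl

open K907.Free K907.Sec K907.Atl K907.Tens K907.Pt K907.Van K907.Closed K907.ClosedPt K907.TermE K907.Rows
open K735.PtsSp K735.Pts K735.Top

variable {S : Scheme.{u}} {𝒳' : BasedCategory.{v, w} (Over S)}

/-- Every point comes from a covering object. -/
theorem exists_eq_pt (h : FibCat.IsFibGrpd 𝒳'.p) {y : 𝒳'.obj} (hy : SmCov (fun _ : PUnit.{t + 1} => y))
    (z : Points 𝒳') : ∃ s : ↥(sch 𝒳' y), z = pt h y s := by
  obtain ⟨p, rfl⟩ := exists_rep z
  have e : 𝒳'.p.obj p.obj ≅ Over.mk p.str := eqToIso p.lies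
  have he := K906.Span.isIso_left e
  have haff : IsAffine (sch 𝒳' p.obj) := by
    haveI : IsAffine (Over.mk p.str : Over S).left := inferInstanceAs (IsAffine (Spec _))
    exact IsAffine.of_isIso e.hom.left
  obtain ⟨z', f, j, d, h1, h2, h3⟩ := hy.cov p.obj haff
  obtain ⟨x', hx'⟩ := h3.surj (ptt p)
  refine ⟨bmap 𝒳' d x', ?_⟩
  rw [pt_map, ← pt_map h f, mk_eq_pt h p (𝟙 _) (ptt p)]
  congr 1
  rw [hx', bmap_id]
  rfl

theorem ofChart_id_eq (T : Over S) (t : ↥T.left) :
    Points.ofChart (BasedFunctor.id (FibCat.overCat T)) t =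
      pt (𝒳 := FibCat.overCat T) (K735.Fp.isFibGrpd_overCat T) (Over.mk (𝟙 T)) t := by
  refine ofChart_eq (K735.Fp.isFibGrpd_overCat T) (BasedFunctor.id (FibCat.overCat T)) t t ?_
  rfl

/-- The terminal object of a slice. -/
@[reducible] noncomputable def tmT (T : Over S) (y : (FibCat.overCat T).obj) :
    Unique (y ⟶ (Over.mk (𝟙 T) : (FibCat.overCat T).obj)) :=
  { default := Over.mkIdTerminal.from y, uniq := fun f => Over.mkIdTerminal.hom_ext _ _ }

section Main

variable {T : Over S} (hT : IsAffine T.left) (q : 𝒳' ⥤ᵇ FibCat.overCat T) (h : FibCat.IsFibGrpd 𝒳'.p)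
  (hs : IsFn (fnτ q (tmT T))) (hex : Free.Exact 𝒳') {y : 𝒳'.obj} (hy : SmCov (fun _ : PUnit.{t + 1} => y))

/-- The map from the scheme under `y` to `T`. -/
noncomputable def bs (y : 𝒳'.obj) : sch 𝒳' y ⟶ T.left := (baseOver q y (tmT T (q.obj y)).default).left

theorem map_pt_eq (s : ↥(sch 𝒳' y)) :
    Points.map q (pt h y s) = Points.ofChart (BasedFunctor.id (FibCat.overCat T)) (bs q y s) := by
  rw [ofChart_id_eq]
  exact map_pt h (K735.Fp.isFibGrpd_overCat T) q (tmT T (q.obj y)).default s

include hT h hs hex hy in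
theorem mem_image_iff {D : Set (Points 𝒳')} (hD : IsCl h D) (t : ↥T.left) :
    Points.ofChart (BasedFunctor.id (FibCat.overCat T)) t ∈ Points.map q '' D ↔
      ∀ f : Γ(T.left, ⊤), (bs q y).appTop f ∈ van (prei h D y) → f ∈ (sp t).asIdeal := by
  constructor
  · rintro ⟨z, hz, hzt⟩ f hf
    obtain ⟨s, rfl⟩ := exists_eq_pt h hy z
    rw [map_pt_eq q h] at hzt
    have ht := (ofChart_id_bijective T).1 hzt
    rw [← ht, mem_sp_comp]
    exact (mem_van.1 hf) s hz
  · intro ht
    obtain ⟨s, hs1, hs2⟩ := exists_point (fnτ q (tmT T)) h hs hex hy hD (sp t).asIdeal ht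
    refine ⟨pt h y s, hs1, ?_⟩
    rw [map_pt_eq q h]
    congr 1
    apply (sp_bijective (X := T.left)).1
    rw [sp_comp]
    exact PrimeSpectrum.ext hs2

include hT h hs hex hy in
theorem isClosedMap_map (hc : ChartCont 𝒳') : IsClosedMap (Points.map q) := by
  intro D hD
  have hD' := isCl_of_isClosed h hc hD
  rw [K735.ClosedLim.isClosed_iff]
  have h1 : Points.ofChart (BasedFunctor.id (FibCat.overCat T)) ⁻¹' (Points.map q '' D) =
      ⋂ f : {f : Γ(T.left, ⊤) // (bs q y).appTop f ∈ van (prei h D y)}, (T.left.basicOpen f.1 : Set ↥T.left)ᶜ := by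
    ext t
    rw [Set.mem_preimage, mem_image_iff hT q h hs hex hy hD', Set.mem_iInter]
    constructor
    · intro H f
      exact (mem_sp f.1 t).1 (H f.1 f.2)
    · intro H f hf
      exact (mem_sp f t).2 (H ⟨f, hf⟩)
  rw [h1]
  exact isClosed_iInter fun f => (T.left.basicOpen f.1).isOpen.isClosed_compl

include hT h hs hex hy in
theorem surjective_map : Function.Surjective (Points.map q) := by
  intro z
  obtain ⟨t, rfl⟩ := exists_ofChart_id z
  have h1 : IsCl h (Set.univ : Set (Points 𝒳')) := fun ξ _ => isClosed_univ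
  obtain ⟨z, -, hz⟩ := (mem_image_iff hT q h hs hex hy h1 t).2 (by
    intro f hf
    have haff : IsAffine (sch 𝒳' y) := hy.aff ⟨⟩
    have h2 : ∀ P : PrimeSpectrum Γ(sch 𝒳' y, ⊤), (bs q y).appTop f ∈ P.asIdeal := by
      intro P
      obtain ⟨s, rfl⟩ := (sp_bijective (X := sch 𝒳' y)).2 P
      exact mem_van.1 hf s trivial
    have h3 : IsNilpotent ((bs q y).appTop f) := by
      rw [← mem_nilradical, nilradical_eq_sInf, Ideal.mem_sInf]
      intro P hP
      exact h2 ⟨P, hP⟩
    obtain ⟨n, hn⟩ := h3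
    have h4 : f ^ n = 0 := by
      apply fn_injective (fnτ q (tmT T)) h hs (cov1_of_smCov hy)
      change (bs q y).appTop.hom (f ^ n) = (bs q y).appTop.hom 0
      rw [map_pow, map_zero]
      exact hn
    have h5 : f ^ n ∈ (sp t).asIdeal := by rw [h4]; exact Ideal.zero_mem _
    exact (sp t).isPrime.mem_of_pow_mem n h5)
  exact ⟨z, hz⟩

end Main

end K907.UnivCl
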